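import Groth.Agent.H3CAlg.Tame.Value
import Mathlib

/-!
# Common data, and the degree sum over the base
-/

set_option autoImplicit false
set_option linter.style.haveILetI false
set_option linter.unusedSectionVars false
universe u

open IsLocalRing
open scoped nonZeroDivisors

namespace Groth.Agent.H3CAlg.Tame

open CycAlg

variable {A : Type u} [CommRing A] [IsNoetherianRing A] [IsLocalRing A]

theorem tameSymbol_of_isUnit {a b : A} (ha : IsUnit a) (hb : IsUnit b) : tameSymbol A a b = 1 := by
  rw [tameSymbol]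
  split_ifs with h
  · exact value_eq_one_of_isUnit ha hb _
  · rfl

/-- A factorization of an element of `A` at all maximal ideals of an algebra. -/
def Fac {C : Type u} [CommRing C] [Algebra A C] (π : (Q : MaximalSpectrum C) → Localization.AtPrime Q.asIdeal)
    (x : A) (v : (Q : MaximalSpectrum C) → (Localization.AtPrime Q.asIdeal)ˣ) (e : MaximalSpectrum C → ℕ) : Prop :=
  ∀ Q, algebraMap A (Localization.AtPrime Q.asIdeal) x = (v Q : Localization.AtPrime Q.asIdeal) * π Q ^ e Q

theorem Fac.mul {C : Type u} [CommRing C] [Algebra A C] {π : (Q : MaximalSpectrum C) → Localization.AtPrime Q.asIdeal}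
    {x y : A} {v w : (Q : MaximalSpectrum C) → (Localization.AtPrime Q.asIdeal)ˣ} {e f : MaximalSpectrum C → ℕ}
    (hx : Fac π x v e) (hy : Fac π y w f) : Fac π (x * y) (fun Q => v Q * w Q) (fun Q => e Q + f Q) := fun Q => by
  rw [map_mul, hx Q, hy Q, Units.val_mul, pow_add]
  ring

/-- Common factorizations of finitely many nonzerodivisors. -/
theorem exists_common_fac (hA : ringKrullDim A = 1) (B : Subalgebra A (FractionRing A)) [Module.Finite A B]
    (s : Multiset A) (hs : ∀ x ∈ s, x ∈ A⁰) :
    ∃ C : Subalgebra A (FractionRing A), B ≤ C ∧ Module.Finite A C ∧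
      ∃ π : (Q : MaximalSpectrum C) → Localization.AtPrime Q.asIdeal,
        (∀ Q, π Q ∈ (Localization.AtPrime Q.asIdeal)⁰) ∧
        ∀ x ∈ s, ∃ (v : (Q : MaximalSpectrum C) → (Localization.AtPrime Q.asIdeal)ˣ) (e : MaximalSpectrum C → ℕ),
          Fac π x v e := by
  obtain ⟨C, hBC, hC, hfac⟩ := exists_local_factorizations hA B (s.map (algebraMap A B)) (by
    intro x hx
    obtain ⟨y, hy, rfl⟩ := Multiset.mem_map.mp hx
    exact isUnit_algebraMap_total (hs y hy))
  choose π hπ hfac using hfac
  refine ⟨C, hBC, hC, π, hπ, fun x hx => ?_⟩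
  choose v e hv using fun Q => hfac Q _ (Multiset.mem_map.mpr ⟨x, hx, rfl⟩)
  refine ⟨v, e, fun Q => ?_⟩
  rw [IsScalarTower.algebraMap_apply A C (Localization.AtPrime Q.asIdeal), ← AlgHom.commutes (Subalgebra.inclusion hBC) x]
  exact hv Q

/-- Common factorizations on an abstract finite extension. -/
theorem exists_fac_ext (hA : ringKrullDim A = 1) (s : Multiset A) (hs : ∀ x ∈ s, x ∈ A⁰) :
    ∃ (C : Type u) (_ : CommRing C) (_ : Algebra A C), IsFinExt A C (maximalIdeal A) ∧
      (∀ x ∈ A⁰, algebraMap A C x ∈ C⁰) ∧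
      ∃ π : (Q : MaximalSpectrum C) → Localization.AtPrime Q.asIdeal,
        (∀ Q, π Q ∈ (Localization.AtPrime Q.asIdeal)⁰) ∧
        ∀ x ∈ s, ∃ (v : (Q : MaximalSpectrum C) → (Localization.AtPrime Q.asIdeal)ˣ) (e : MaximalSpectrum C → ℕ),
          Fac π x v e := by
  haveI : Module.Finite A (⊥ : Subalgebra A (FractionRing A)) :=
    Module.Finite.of_surjective (Algebra.linearMap A (⊥ : Subalgebra A (FractionRing A)))
      (fun z => by obtain ⟨z, hz⟩ := z; obtain ⟨r, rfl⟩ := Algebra.mem_bot.mp hz; exact ⟨r, rfl⟩)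
  obtain ⟨C, -, hC, h⟩ := exists_common_fac hA ⊥ s hs
  haveI := hC
  exact ⟨C, inferInstance, inferInstance, isFinExt_subalgebra hA C,
    fun x hx => algebraMap_mem_nonZeroDivisors C hx, h⟩

theorem isLocalHom_ext {C : Type u} [CommRing C] [Algebra A C] (hC : IsFinExt A C (maximalIdeal A))
    (Q : MaximalSpectrum C) : IsLocalHom (algebraMap A (Localization.AtPrime Q.asIdeal)) :=
  haveI := hC.2.1; haveI := Q.isMaximal; isLocalHom_atPrime Q.asIdeal

variable {C : Type u} [CommRing C] [Algebra A C] [Fintype (MaximalSpectrum C)]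
  [hloc : ∀ Q : MaximalSpectrum C, IsLocalHom (algebraMap A (Localization.AtPrime Q.asIdeal))]

theorem tameSymbol_eq_prod (hA : ringKrullDim A = 1) (hC : IsFinExt A C (maximalIdeal A))
    {π : (Q : MaximalSpectrum C) → Localization.AtPrime Q.asIdeal}
    (hπ : ∀ Q, π Q ∈ (Localization.AtPrime Q.asIdeal)⁰)
    {x y : A} (hx0 : x ∈ A⁰) (hy0 : y ∈ A⁰)
    {v w : (Q : MaximalSpectrum C) → (Localization.AtPrime Q.asIdeal)ˣ} {e f : MaximalSpectrum C → ℕ}
    (hx : Fac π x v e) (hy : Fac π y w f) :
    tameSymbol A x y = ∏ Q : MaximalSpectrum C,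
      (haveI := hloc Q; fct A (π Q) (v Q) (w Q) (e Q) (f Q)) := by
  rw [tameSymbol_eq hA hx0 hy0 ⟨C, hC, hloc, π, hπ, v, w, e, f, hx, hy⟩]
  exact finprod_eq_prod_of_fintype (fun Q : MaximalSpectrum C =>
    (haveI := hloc Q; fct A (π Q) (v Q) (w Q) (e Q) (f Q)))

theorem len_maximal (M : Type u) [AddCommGroup M] [Module A M] : len (maximalIdeal A) M = Module.length A M := by
  let S := (maximalIdeal A).primeCompl
  have hu : ∀ s ∈ S, IsUnit s := fun s hs => by
    by_contra h
    exact hs ((mem_maximalIdeal s).mpr h)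
  have hbij : Function.Bijective (LocalizedModule.mkLinearMap S M) := by
    refine ⟨(injective_iff_map_eq_zero _).mpr fun y hy => ?_, fun z => ?_⟩
    · obtain ⟨t, ht⟩ := (IsLocalizedModule.eq_zero_iff S _).mp hy
      exact (hu t t.2).smul_eq_zero.mp ht
    · induction z using LocalizedModule.induction_on with
      | h y t =>
        obtain ⟨c, hc⟩ := (hu t t.2).exists_left_inv
        refine ⟨c • y, ?_⟩
        rw [LocalizedModule.mkLinearMap_apply, LocalizedModule.mk_eq]
        exact ⟨1, by rw [one_smul, one_smul, one_smul, Submonoid.smul_def, smul_smul, mul_comm, hc, one_smul]⟩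
  have hsurj : Function.Surjective (algebraMap A (Localization.AtPrime (maximalIdeal A))) := fun z => by
    obtain ⟨r, s, rfl⟩ := IsLocalization.exists_mk'_eq S z
    obtain ⟨c, hc⟩ := (hu s s.2).exists_left_inv
    refine ⟨c * r, (IsLocalization.eq_mk'_iff_mul_eq.mpr ?_).trans rfl⟩
    rw [← map_mul, mul_comm (c * r), ← mul_assoc, mul_comm (s : A) c, hc, one_mul]
  exact (Module.length_eq_of_surjective (S := A) hsurj).symm.trans (LinearEquiv.ofBijective _ hbij).length_eq.symm

/-- The degree sum over the base. -/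
theorem sum_deg_eq (hA : ringKrullDim A = 1) (hC : IsFinExt A C (maximalIdeal A))
    {π : (Q : MaximalSpectrum C) → Localization.AtPrime Q.asIdeal}
    (hπ : ∀ Q, π Q ∈ (Localization.AtPrime Q.asIdeal)⁰)
    {b : A} (hb : b ∈ A⁰) (hbC : algebraMap A C b ∈ C⁰)
    {v : (Q : MaximalSpectrum C) → (Localization.AtPrime Q.asIdeal)ˣ} {e : MaximalSpectrum C → ℕ}
    (hfac : Fac π b v e) :
    (∑ Q : MaximalSpectrum C, (haveI := hloc Q;
        Module.finrank (ResidueField A) (ResidueField (Localization.AtPrime Q.asIdeal)) *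
          (e Q * (Ring.ord (Localization.AtPrime Q.asIdeal) (π Q)).toNat))) =
      (Module.length A (A ⧸ Ideal.span {b})).toNat := by
  classical
  haveI := hC.2.1
  let m := maximalIdeal A
  haveI : Finite (MaximalSpectrum C) := H22Alg.finite_maximalSpectrum_of_finite A C
  haveI := Fintype.ofFinite (Over (C := C) m)
  let φ : Over (C := C) m ≃ MaximalSpectrum C :=
    Equiv.subtypeUnivEquiv fun Q => haveI := Q.isMaximal; comap_maximal Q.asIdeal
  haveI := hC.2.1
  have hinj := hC.1
  have hcoker := length_coker_ne_top (B := A) hC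
  have hregC : ∀ Q : MaximalSpectrum C, algebraMap A (Localization.AtPrime Q.asIdeal) b ∈ (Localization.AtPrime Q.asIdeal)⁰ := fun Q => by
    rw [IsScalarTower.algebraMap_apply A C]
    exact IsLocalization.map_nonZeroDivisors_le Q.asIdeal.primeCompl _ ⟨_, hbC, rfl⟩
  have h := degree_formula (C := C) m hinj (ne_top_of_le_ne_top hcoker (len_le_length m))
    (algebraMap A (Localization.AtPrime m) b) b dvd_rfl (Module.length_ne_top_iff.mp (ord_algebraMap_ne_top hA hb))
    (fun Q => by
      rw [Localization.localRingHom_to_map, ← IsScalarTower.algebraMap_apply]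
      exact hregC Q.1)
  rw [← len_span_singleton, len_maximal] at h
  have hsum := ENat.toNat_sum (s := Finset.univ) (f := fun Q : Over (C := C) m =>
      (deg m Q.1.asIdeal : ℕ∞) * Ring.ord (Localization.AtPrime Q.1.asIdeal)
        (Localization.localRingHom m Q.1.asIdeal (algebraMap A C) Ideal.LiesOver.over (algebraMap A _ b)))
    (fun Q _ => WithTop.mul_ne_top (ENat.natCast_ne_top _) (by
      rw [Localization.localRingHom_to_map, ← IsScalarTower.algebraMap_apply]
      exact ord_ne_top_of_dvd hA Q.1.asIdeal hb dvd_rfl))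
  rw [h, ← φ.sum_comp, hsum]
  refine Finset.sum_congr rfl ?_
  rintro ⟨Q, hQ⟩ -
  haveI := hloc Q
  haveI := Q.isMaximal
  haveI : Q.asIdeal.LiesOver m := ⟨hQ.symm⟩
  have hdeg : deg m Q.asIdeal = Module.finrank (ResidueField A) (ResidueField (Localization.AtPrime Q.asIdeal)) := by
    letI := Localization.AtPrime.algebraOfLiesOver m Q.asIdeal
    let i : ResidueField A ≃+* m.ResidueField := RingEquiv.ofBijective
      (algebraMap (ResidueField A) m.ResidueField) m.bijective_algebraMap_quotient_residueField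
    refine (Algebra.finrank_eq_of_equiv_equiv i (RingEquiv.refl _) ?_).symm
    ext x
    obtain ⟨x, rfl⟩ := residue_surjective x
    show algebraMap m.ResidueField Q.asIdeal.ResidueField (i (residue A x)) = _
    refine (congrArg (algebraMap m.ResidueField Q.asIdeal.ResidueField) (show i (residue A x) =
      residue (Localization.AtPrime m) (algebraMap A _ x) from rfl)).trans ?_
    refine (congrArg (residue (Localization.AtPrime Q.asIdeal))
      ((Localization.localRingHom_to_map m Q.asIdeal (algebraMap A C) hQ.symm x).trans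
        (IsScalarTower.algebraMap_apply A C (Localization.AtPrime Q.asIdeal) x).symm))
  show Module.finrank (ResidueField A) (ResidueField (Localization.AtPrime Q.asIdeal)) * (e Q * _) = _
  rw [ENat.toNat_mul, ENat.toNat_natCast, hdeg, Localization.localRingHom_to_map, ← IsScalarTower.algebraMap_apply, hfac Q]
  congr 1
  by_cases h0 : Ring.ord (Localization.AtPrime Q.asIdeal) (π Q) = ⊤
  · rcases Nat.eq_zero_or_pos (e Q) with he | he
    · simp [he]
    · exfalso
      exact ord_ne_top_of_dvd hA Q.asIdeal hb (by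
        rw [hfac Q, ← Nat.sub_add_cancel he, pow_succ]; exact (dvd_mul_left _ _).mul_left _) h0
  · rw [ord_mul_pow (hπ Q) h0, ENat.toNat_natCast]
    rfl

end Groth.Agent.H3CAlg.Tame
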