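import Groth.Agent.H22Alg.FiniteLength
import Groth.Agent.H22Alg.BranchBound
import Groth.Prelude.Def_Tame
import Mathlib

/-!
# Finite extensions of a one-dimensional local ring inside its total ring of fractions
-/

set_option autoImplicit false
set_option linter.style.haveILetI false
universe u

open IsLocalRing
open scoped nonZeroDivisors

namespace Groth.Agent.H3CAlg.Tame

variable {A : Type u} [CommRing A] [IsNoetherianRing A] [IsLocalRing A]

/-- Powers of the maximal ideal lie in any ideal generated by a nonzerodivisor. -/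
theorem exists_pow_le_span (hA : ringKrullDim A = 1) {s : A} (hs : s ∈ A⁰) :
    ∃ n : ℕ, maximalIdeal A ^ n ≤ Ideal.span {s} := by
  refine Ideal.exists_pow_le_of_le_radical_of_fg ?_ (IsNoetherian.noetherian _)
  rw [Ideal.radical_eq_sInf]
  refine le_sInf fun p ⟨hp, hpp⟩ => ?_
  have h1 := ringKrullDim_quotient_succ_le_of_nonZeroDivisor hs
  rw [hA] at h1
  haveI : Ring.KrullDimLE 0 (A ⧸ Ideal.span {s}) := by
    refine (Ring.krullDimLE_iff (n := 0)).mpr ?_
    generalize ringKrullDim (A ⧸ Ideal.span {s}) = d at h1
    rcases d with _ | _ | d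
    · exact bot_le
    · exact absurd h1 (by decide)
    · have h2 : d + 1 ≤ 1 := by
        have h3 : (((d + 1 : ℕ) : ℕ∞) : WithBot ℕ∞) ≤ (((1 : ℕ) : ℕ∞) : WithBot ℕ∞) := by push_cast; exact h1
        exact ENat.natCast_le_natCast.mp (WithBot.coe_le_coe.mp h3)
      have : d = 0 := by omega
      subst this
      exact le_rfl
  haveI := hpp
  have hprime : (p.map (Ideal.Quotient.mk (Ideal.span {s}))).IsPrime :=
    Ideal.map_isPrime_of_surjective Ideal.Quotient.mk_surjective (by rwa [Ideal.mk_ker])
  have hmax := Ideal.isMaximal_of_isPrime (p.map (Ideal.Quotient.mk (Ideal.span {s})))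
  have hm := Ideal.comap_isMaximal_of_surjective (Ideal.Quotient.mk (Ideal.span {s})) Ideal.Quotient.mk_surjective (K := p.map (Ideal.Quotient.mk (Ideal.span {s})))
  rw [Ideal.comap_map_of_surjective' _ Ideal.Quotient.mk_surjective, Ideal.mk_ker, sup_eq_left.mpr hp] at hm
  exact (IsLocalRing.eq_maximalIdeal hm).ge

/-- A finite module killed by a power of the maximal ideal has finite length. -/
theorem length_ne_top_of_pow {M : Type u} [AddCommGroup M] [Module A M] [Module.Finite A M] {n : ℕ}
    (h : ∀ r ∈ maximalIdeal A ^ n, ∀ x : M, r • x = 0) : Module.length A M ≠ ⊤ := by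
  refine H22Alg.length_ne_top_of_support_maximal fun p hp => ?_
  rw [Module.support_eq_zeroLocus, PrimeSpectrum.mem_zeroLocus] at hp
  have h1 : maximalIdeal A ^ n ≤ p.asIdeal := fun r hr => hp (Module.mem_annihilator.mpr (h r hr))
  rw [le_antisymm (IsLocalRing.le_maximalIdeal p.isPrime.ne_top) (Ideal.IsPrime.le_of_pow_le h1)]
  exact maximalIdeal.isMaximal A

omit [IsNoetherianRing A] [IsLocalRing A] in
theorem isUnit_algebraMap_total {s : A} (hs : s ∈ A⁰) :
    IsUnit (algebraMap A (FractionRing A) s) :=
  IsLocalization.map_units (FractionRing A) (⟨s, hs⟩ : A⁰)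

/-- A finitely generated submodule of the total ring of fractions is pushed into the ring by a power
of the maximal ideal. -/
theorem exists_pow_mul_mem (hA : ringKrullDim A = 1) {M : Submodule A (FractionRing A)} (hM : M.FG) :
    ∃ n : ℕ, ∀ r ∈ maximalIdeal A ^ n, ∀ x ∈ M, r • x ∈ (algebraMap A (FractionRing A)).range := by
  classical
  obtain ⟨S, hS⟩ := hM
  obtain ⟨s, hs⟩ := IsLocalization.exist_integer_multiples_of_finset A⁰ S
  obtain ⟨n, hn⟩ := exists_pow_le_span hA s.2
  refine ⟨n, fun r hr x hx => ?_⟩
  obtain ⟨c, rfl⟩ := Ideal.mem_span_singleton'.mp (hn hr)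
  rw [← hS] at hx
  induction hx using Submodule.span_induction with
  | mem y hy =>
    obtain ⟨z, hz⟩ := hs y hy
    exact ⟨c * z, by rw [map_mul, hz, mul_smul, ← Algebra.smul_def]⟩
  | zero => exact ⟨0, by simp⟩
  | add y z _ _ ihy ihz =>
    rw [smul_add]
    exact add_mem ihy ihz
  | smul b y _ ih =>
    obtain ⟨z, hz⟩ := ih
    exact ⟨b * z, by rw [map_mul, hz, smul_comm, ← Algebra.smul_def]⟩

/-- A finite subalgebra of the total ring of fractions is a finite extension in the sense of `CycAlg`. -/
theorem isFinExt_subalgebra (hA : ringKrullDim A = 1) (S : Subalgebra A (FractionRing A))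
    [Module.Finite A S] : CycAlg.IsFinExt A S (maximalIdeal A) := by
  refine ⟨fun x y h => IsFractionRing.injective A (FractionRing A) (congrArg Subtype.val h), ‹_›, ?_⟩
  obtain ⟨n, hn⟩ := exists_pow_mul_mem hA (M := S.toSubmodule) (Module.Finite.iff_fg.mp ‹_›)
  exact ⟨n, fun r hr b => by obtain ⟨z, hz⟩ := hn r hr b.1 b.2; exact ⟨z, Subtype.ext hz⟩⟩

omit [IsNoetherianRing A] [IsLocalRing A] in
theorem algebraMap_mem_nonZeroDivisors (S : Subalgebra A (FractionRing A)) {s : A} (hs : s ∈ A⁰) :
    algebraMap A S s ∈ (↥S)⁰ := by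
  rw [mem_nonZeroDivisors_iff_right]
  intro x hx
  exact Subtype.ext ((isUnit_algebraMap_total hs).mul_left_eq_zero.mp (congrArg Subtype.val hx))

omit [IsNoetherianRing A] in
/-- A finite extension without torsion at a nonunit nonzerodivisor embeds into the total ring. -/
theorem exists_embedding {B : Type u} [CommRing B] [Algebra A B]
    (hB : CycAlg.IsFinExt A B (maximalIdeal A)) {a : A} (ha : a ∈ A⁰) (ham : a ∈ maximalIdeal A)
    (haB : Function.Injective fun b : B => algebraMap A B a * b) :
    ∃ φ : B →ₐ[A] FractionRing A, Function.Injective φ := by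
  obtain ⟨hinj, -, n, hn⟩ := hB
  have han : a ^ n ∈ A⁰ := pow_mem ha n
  have hex : ∀ b : B, ∃ x : A, algebraMap A B x = algebraMap A B (a ^ n) * b := fun b => by
    obtain ⟨x, hx⟩ := hn (a ^ n) (Ideal.pow_mem_pow ham n) b
    exact ⟨x, hx.trans (Algebra.smul_def _ _)⟩
  choose g hg using hex
  let φ0 : B → FractionRing A := fun b => IsLocalization.mk' (FractionRing A) (g b) ⟨a ^ n, han⟩
  have key : ∀ b, φ0 b * algebraMap A (FractionRing A) (a ^ n) = algebraMap A (FractionRing A) (g b) :=
    fun b => IsLocalization.mk'_spec (FractionRing A) (g b) ⟨a ^ n, han⟩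
  have hu := isUnit_algebraMap_total han
  have hinjn : Function.Injective fun b : B => algebraMap A B (a ^ n) * b := by
    intro x y h
    have : Function.Injective fun b : B => algebraMap A B a ^ n * b := by
      have := haB.iterate n
      rwa [show ((fun b : B => algebraMap A B a * b)^[n]) = fun b => algebraMap A B a ^ n * b from
        mul_left_iterate (algebraMap A B a) n] at this
    simp only [map_pow] at h
    exact this h
  let φ : B →ₐ[A] FractionRing A :=
  { toFun := φ0
    map_one' := hu.mul_right_cancel (by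
      rw [key, one_mul]
      exact congrArg _ (hinj (by rw [hg, mul_one])))
    map_mul' := fun x y => (hu.mul hu).mul_right_cancel (by
      rw [mul_mul_mul_comm (φ0 x) (φ0 y), key, key, ← mul_assoc, key, ← map_mul, ← map_mul]
      exact congrArg _ (hinj (by rw [map_mul, map_mul, hg, hg, hg]; ring)))
    map_zero' := hu.mul_right_cancel (by
      rw [key, zero_mul]
      exact (congrArg _ (hinj (by rw [hg, mul_zero, map_zero]))).trans (map_zero _))
    map_add' := fun x y => hu.mul_right_cancel (by
      rw [add_mul, key, key, key, ← map_add]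
      exact congrArg _ (hinj (by rw [map_add, hg, hg, hg, mul_add])))
    commutes' := fun r => hu.mul_right_cancel (by
      rw [key, ← map_mul]
      exact congrArg _ (hinj (by rw [hg, map_mul, mul_comm]))) }
  refine ⟨φ, fun x y h => hinjn ?_⟩
  have h1 : algebraMap A (FractionRing A) (g x) = algebraMap A (FractionRing A) (g y) := by
    rw [← key, ← key]
    exact congrArg (· * _) h
  show algebraMap A B (a ^ n) * x = algebraMap A B (a ^ n) * y
  rw [← hg, ← hg, IsFractionRing.injective A (FractionRing A) h1]

omit [IsNoetherianRing A] in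
theorem comap_maximal {B : Type u} [CommRing B] [Algebra A B] [Module.Finite A B] (q : Ideal B)
    [q.IsMaximal] : q.comap (algebraMap A B) = maximalIdeal A :=
  (IsLocalRing.isMaximal_iff A).mp (Ideal.isMaximal_comap_of_isIntegral_of_isMaximal q)

omit [IsNoetherianRing A] in
theorem isLocalHom_atPrime {B : Type u} [CommRing B] [Algebra A B] [Module.Finite A B] (q : Ideal B)
    [q.IsMaximal] : IsLocalHom (algebraMap A (Localization.AtPrime q)) := by
  refine ⟨fun r hr => ?_⟩
  by_contra h
  have h1 : algebraMap A B r ∈ q := Ideal.mem_comap.mp ((comap_maximal q).ge ((mem_maximalIdeal r).mpr h))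
  rw [IsScalarTower.algebraMap_apply A B (Localization.AtPrime q)] at hr
  exact (IsLocalization.AtPrime.isUnit_to_map_iff _ q _).mp hr h1

end Groth.Agent.H3CAlg.Tame
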