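import Groth.Agent.H3CAlg.Tame.Refine
import Groth.Agent.H1CAlg.SimpleLoc
import Mathlib

/-!
# The degree formula for orders along a finite extension with finite length cokernel
-/

set_option autoImplicit false
set_option linter.style.haveILetI false
set_option linter.unusedSectionVars false
universe u

open IsLocalRing
open scoped nonZeroDivisors Pointwise

namespace Groth.Agent.H3CAlg.Tame

section len

variable {B : Type u} [CommRing B] (q : Ideal B) [q.IsPrime]

/-- The length of the localization at `q`. -/
noncomputable def len (M : Type u) [AddCommGroup M] [Module B M] : ℕ∞ :=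
  Module.length (Localization.AtPrime q) (LocalizedModule q.primeCompl M)

variable {M N P : Type u} [AddCommGroup M] [Module B M] [AddCommGroup N] [Module B N]
  [AddCommGroup P] [Module B P]

theorem len_exact (f : M →ₗ[B] N) (g : N →ₗ[B] P) (hf : Function.Injective f)
    (hg : Function.Surjective g) (hex : Function.Exact f g) : len q N = len q M + len q P :=
  Module.length_eq_add_of_exact (LocalizedModule.map q.primeCompl f) (LocalizedModule.map q.primeCompl g)
    (LocalizedModule.map_injective _ f hf) (LocalizedModule.map_surjective _ g hg)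
    (LocalizedModule.map_exact _ f g hex)

theorem len_congr (e : M ≃ₗ[B] N) : len q M = len q N :=
  (LinearEquiv.ofBijective (LocalizedModule.map q.primeCompl e.toLinearMap)
    ⟨LocalizedModule.map_injective _ _ e.injective, LocalizedModule.map_surjective _ _ e.surjective⟩).length_eq

theorem len_zero_of_killed (h : ∀ x : M, ∃ s ∉ q, s • x = 0) : len q M = 0 := by
  haveI : Subsingleton (LocalizedModule q.primeCompl M) := LocalizedModule.subsingleton_iff.mpr fun x => by
    obtain ⟨s, hs, h0⟩ := h x
    exact ⟨s, hs, h0⟩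
  exact Module.length_eq_zero

/-- A surjection whose kernel vanishes at `q` preserves the length at `q`. -/
theorem len_eq_of_surjective (f : M →ₗ[B] N) (hf : Function.Surjective f)
    (h : ∀ x, f x = 0 → ∃ s ∉ q, s • x = 0) : len q M = len q N := by
  rw [len_exact q (LinearMap.ker f).subtype f (Submodule.injective_subtype _) hf
    (LinearMap.exact_subtype_ker_map f), len_zero_of_killed q (M := LinearMap.ker f) (fun x => ?_), zero_add]
  obtain ⟨s, hs, h0⟩ := h x.1 x.2
  exact ⟨s, hs, Subtype.ext h0⟩

theorem len_le_length : len q M ≤ Module.length B M := by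
  rw [len, ← WithBot.coe_le_coe, Module.coe_length, Module.coe_length]
  let gi := Submodule.localized'gi (Localization.AtPrime q) q.primeCompl (LocalizedModule.mkLinearMap q.primeCompl M)
  exact Order.krullDim_le_of_strictMono _ (gi.gc.monotone_u.strictMono_of_injective gi.u_injective)

theorem len_quotient (J : Ideal B) :
    len q (B ⧸ J) = Module.length (Localization.AtPrime q)
      (Localization.AtPrime q ⧸ J.map (algebraMap B (Localization.AtPrime q))) := by
  let Bq := Localization.AtPrime q
  let N := Submodule.localized' Bq q.primeCompl (Algebra.linearMap B Bq) (J : Submodule B B)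
  let e : LocalizedModule q.primeCompl (B ⧸ J) ≃ₗ[B] Bq ⧸ N :=
    IsLocalizedModule.iso q.primeCompl
      (Submodule.toLocalizedQuotient' Bq q.primeCompl (Algebra.linearMap B Bq) (J : Submodule B B))
  have hN : N = J.map (algebraMap B Bq) := Ideal.localized'_eq_map _ _ _
  rw [len, (e.extendScalarsOfIsLocalization q.primeCompl Bq).length_eq, (Submodule.quotEquivOfEq _ _ hN).length_eq]

theorem len_span_singleton (b : B) :
    len q (B ⧸ Ideal.span {b}) = Ring.ord (Localization.AtPrime q) (algebraMap B _ b) := by
  rw [len_quotient, Ideal.map_span, Set.image_singleton]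
  rfl

/-- Comparing the cokernels of multiplication on a module and on a submodule with finite colength. -/
theorem len_quot_smul_eq (L : Submodule B M) (b : B) (hb : ∀ x : M, b • x = 0 → ∃ s ∉ q, s • x = 0)
    (hfin : len q (M ⧸ L) ≠ ⊤) :
    len q (L ⧸ b • (⊤ : Submodule B L)) = len q (M ⧸ b • (⊤ : Submodule B M)) := by
  let X : Submodule B M := b • L
  have hXL : X ≤ L := by
    rintro x hx
    obtain ⟨y, hy, rfl⟩ := Submodule.mem_smul_pointwise_iff_exists _ _ _ |>.mp hx
    exact L.smul_mem b hy
  have hXM : X ≤ b • (⊤ : Submodule B M) := by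
    rintro x hx
    obtain ⟨y, -, rfl⟩ := Submodule.mem_smul_pointwise_iff_exists _ _ _ |>.mp hx
    exact Submodule.smul_mem_pointwise_smul y b ⊤ trivial
  -- `0 → L/bL → M/bL → M/L → 0`
  have h1 : len q (M ⧸ X) = len q (L ⧸ b • (⊤ : Submodule B L)) + len q (M ⧸ L) := by
    have hle : b • (⊤ : Submodule B L) ≤ X.comap L.subtype := by
      rintro x hx
      obtain ⟨y, -, rfl⟩ := Submodule.mem_smul_pointwise_iff_exists _ _ _ |>.mp hx
      exact Submodule.smul_mem_pointwise_smul (y : M) b L y.2
    refine len_exact q (Submodule.mapQ _ X L.subtype hle) (Submodule.factor hXL) ?_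
      (Submodule.factor_surjective hXL) ?_
    · rw [injective_iff_map_eq_zero]
      intro z hz
      obtain ⟨y, rfl⟩ := Submodule.Quotient.mk_surjective _ z
      rw [Submodule.mapQ_apply, Submodule.Quotient.mk_eq_zero] at hz
      obtain ⟨w, hw, hwe⟩ := Submodule.mem_smul_pointwise_iff_exists _ _ _ |>.mp hz
      rw [Submodule.Quotient.mk_eq_zero]
      have : y = b • (⟨w, hw⟩ : L) := Subtype.ext hwe.symm
      rw [this]
      exact Submodule.smul_mem_pointwise_smul _ b ⊤ trivial
    · intro z
      obtain ⟨y, rfl⟩ := Submodule.Quotient.mk_surjective _ z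
      show Submodule.Quotient.mk y = 0 ↔ _
      rw [Submodule.Quotient.mk_eq_zero]
      constructor
      · intro hy
        exact ⟨Submodule.Quotient.mk ⟨y, hy⟩, rfl⟩
      · rintro ⟨w, hw⟩
        obtain ⟨w, rfl⟩ := Submodule.Quotient.mk_surjective _ w
        rw [Submodule.mapQ_apply, Submodule.Quotient.eq] at hw
        have := L.sub_mem w.2 (hXL hw)
        rwa [Submodule.subtype_apply, sub_sub_cancel] at this
  -- `M/L → M/bL → M/bM → 0` with a kernel vanishing at `q`
  have hmul : L ≤ LinearMap.ker ((Submodule.mkQ X).comp (LinearMap.lsmul B M b)) := fun y hy => by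
    show Submodule.Quotient.mk (b • y) = 0
    exact (Submodule.Quotient.mk_eq_zero _).mpr (Submodule.smul_mem_pointwise_smul y b L hy)
  let μ : (M ⧸ L) →ₗ[B] M ⧸ X := L.liftQ _ hmul
  let F : (M ⧸ X) →ₗ[B] M ⧸ b • (⊤ : Submodule B M) := Submodule.factor hXM
  have h2 : len q (M ⧸ X) = len q (LinearMap.range μ) + len q (M ⧸ b • (⊤ : Submodule B M)) := by
    refine len_exact q (LinearMap.range μ).subtype F (Submodule.injective_subtype _) (Submodule.factor_surjective hXM) ?_
    intro z
    obtain ⟨y, rfl⟩ := Submodule.Quotient.mk_surjective _ z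
    show Submodule.Quotient.mk y = 0 ↔ _
    rw [Submodule.Quotient.mk_eq_zero]
    constructor
    · intro hy
      obtain ⟨w, -, rfl⟩ := Submodule.mem_smul_pointwise_iff_exists _ _ _ |>.mp hy
      exact ⟨⟨_, Submodule.Quotient.mk w, rfl⟩, rfl⟩
    · rintro ⟨⟨_, w, rfl⟩, hw⟩
      obtain ⟨w, rfl⟩ := Submodule.Quotient.mk_surjective _ w
      have hw' : b • w - y ∈ X := (Submodule.Quotient.eq _).mp hw
      have := (b • (⊤ : Submodule B M)).sub_mem (Submodule.smul_mem_pointwise_smul w b ⊤ trivial) (hXM hw')
      rwa [sub_sub_cancel] at this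
  have h3 : len q (M ⧸ L) = len q (LinearMap.range μ) := by
    refine len_eq_of_surjective q μ.rangeRestrict μ.surjective_rangeRestrict fun z hz => ?_
    obtain ⟨y, rfl⟩ := Submodule.Quotient.mk_surjective _ z
    have hz' : μ (Submodule.Quotient.mk y) = 0 := congrArg Subtype.val hz
    obtain ⟨w, hw, hwy⟩ := Submodule.mem_smul_pointwise_iff_exists _ _ _ |>.mp
      ((Submodule.Quotient.mk_eq_zero X).mp hz')
    obtain ⟨s, hs, hs0⟩ := hb (y - w) (by rw [smul_sub, hwy]; exact sub_self _)
    refine ⟨s, hs, ?_⟩
    rw [← Submodule.Quotient.mk_smul, Submodule.Quotient.mk_eq_zero]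
    rw [smul_sub, sub_eq_zero] at hs0
    rw [hs0]
    exact L.smul_mem s hw
  rw [h2, h3, add_comm] at h1
  rw [h3] at hfin
  exact (ENat.add_right_injective_of_ne_top hfin
    ((add_comm _ _).trans (h1.trans (add_comm _ _))) : _).symm

end len

section degree

variable {B C : Type u} [CommRing B] [CommRing C] [Algebra B C]

/-- The maximal ideals of `C` over an ideal of `B`. -/
abbrev Over (q : Ideal B) : Type u := {Q : MaximalSpectrum C // Q.asIdeal.comap (algebraMap B C) = q}

instance (q : Ideal B) (Q : Over (C := C) q) : Q.1.asIdeal.LiesOver q := ⟨Q.2.symm⟩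

/-- The degree of the residue extension. -/
noncomputable def deg (q : Ideal B) [q.IsPrime] (Q : Ideal C) [Q.IsPrime] [Q.LiesOver q] : ℕ :=
  letI := Localization.AtPrime.algebraOfLiesOver q Q
  Module.finrank q.ResidueField Q.ResidueField

variable [Module.Finite B C] (q : Ideal B) [q.IsMaximal]

theorem len_simple_over (Q : Over (C := C) q) :
    len q (C ⧸ Q.1.asIdeal) = (deg q Q.1.asIdeal : ℕ∞) := by
  haveI := Q.1.isMaximal
  let P := Q.1.asIdeal
  letI := Localization.AtPrime.algebraOfLiesOver q P
  haveI : IsScalarTower B q.ResidueField P.ResidueField := .of_algebraMap_eq fun x => by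
    rw [IsScalarTower.algebraMap_apply B (Localization.AtPrime q) q.ResidueField,
      IsScalarTower.algebraMap_apply B C P.ResidueField, IsScalarTower.algebraMap_apply C (Localization.AtPrime P) P.ResidueField]
    refine Eq.trans ?_ (IsLocalRing.ResidueField.map_residue (algebraMap (Localization.AtPrime q) (Localization.AtPrime P)) _).symm
    exact congrArg (IsLocalRing.residue (Localization.AtPrime P))
      (Localization.localRingHom_to_map q P (algebraMap B C) Ideal.LiesOver.over x).symm
  haveI : IsScalarTower B (Localization.AtPrime q) P.ResidueField := .of_algebraMap_eq fun x => by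
    rw [IsScalarTower.algebraMap_apply B q.ResidueField P.ResidueField,
      IsScalarTower.algebraMap_apply B (Localization.AtPrime q) q.ResidueField]
    rfl
  haveI : IsScalarTower (Localization.AtPrime q) q.ResidueField P.ResidueField := .of_algebraMap_eq fun x => rfl
  let f : (C ⧸ P) →ₗ[B] P.ResidueField := (IsScalarTower.toAlgHom B (C ⧸ P) P.ResidueField).toLinearMap
  have hf : Function.Bijective f := P.bijective_algebraMap_quotient_residueField
  haveI : IsLocalizedModule q.primeCompl f :=
    { map_units := fun s => by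
        have h := IsLocalization.map_units (Localization.AtPrime q) s
        rw [Module.End.isUnit_iff]
        constructor
        · intro x y hxy
          refine ((h.map (algebraMap (Localization.AtPrime q) P.ResidueField)).mul_right_inj).mp ?_
          rw [← IsScalarTower.algebraMap_apply, ← Algebra.smul_def, ← Algebra.smul_def]
          exact hxy
        · intro y
          obtain ⟨u, hu⟩ := (h.map (algebraMap (Localization.AtPrime q) P.ResidueField)).exists_right_inv
          refine ⟨u * y, ?_⟩
          show (s : B) • (u * y) = y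
          rw [Algebra.smul_def, IsScalarTower.algebraMap_apply B (Localization.AtPrime q) P.ResidueField, ← mul_assoc, hu, one_mul]
      surj := fun y => by
        obtain ⟨x, rfl⟩ := hf.2 y
        exact ⟨(x, 1), one_smul _ _⟩
      exists_of_eq := fun {x y} h => ⟨1, by rw [hf.1 h]⟩ }
  rw [len, ((IsLocalizedModule.iso q.primeCompl f).extendScalarsOfIsLocalization q.primeCompl
    (Localization.AtPrime q)).length_eq,
    Module.length_eq_of_surjective (R := q.ResidueField) IsLocalRing.residue_surjective]
  haveI : Module.Finite B P.ResidueField := Module.Finite.trans C _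
  haveI : Module.Finite q.ResidueField P.ResidueField := Module.Finite.of_restrictScalars_finite B _ _
  exact Module.length_eq_finrank _ _

variable [Finite (MaximalSpectrum C)]

/-- The length at `q` of a finite length module over a finite algebra. -/
theorem len_eq_sum [Fintype (Over (C := C) q)] (M : Type u) [AddCommGroup M] [Module C M] [Module B M] [IsScalarTower B C M]
    (hM : IsFiniteLength C M) :
    len q M = ∑ Q : Over (C := C) q, (deg q Q.1.asIdeal : ℕ∞) * len Q.1.asIdeal M := by
  classical
  suffices key : ∀ (M : Type u) [AddCommGroup M] [Module C M], IsFiniteLength C M →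
      ∀ [Module B M] [IsScalarTower B C M],
        len q M = ∑ Q : Over (C := C) q, (deg q Q.1.asIdeal : ℕ∞) * len Q.1.asIdeal M from key M hM
  intro M _ _ hM
  induction hM with
  | @of_subsingleton M _ _ _ =>
    intro _ _
    rw [len_zero_of_killed q (fun x => ⟨1, q.primeCompl.one_mem, Subsingleton.elim _ _⟩),
      Finset.sum_eq_zero fun Q _ => by
        rw [len_zero_of_killed Q.1.asIdeal (fun x => ⟨1, Q.1.asIdeal.primeCompl.one_mem, Subsingleton.elim _ _⟩), mul_zero]]
  | @of_simple_quotient M _ _ P _ _ ih =>
    intro _ _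
    have hA : len q M = len q P + len q (M ⧸ P) :=
      len_exact q (P.subtype.restrictScalars B) (P.mkQ.restrictScalars B) Subtype.coe_injective
        P.mkQ_surjective (LinearMap.exact_subtype_mkQ P)
    have hB : ∀ Q : Over (C := C) q, len Q.1.asIdeal M = len Q.1.asIdeal P + len Q.1.asIdeal (M ⧸ P) := fun Q =>
      len_exact Q.1.asIdeal P.subtype P.mkQ Subtype.coe_injective P.mkQ_surjective (LinearMap.exact_subtype_mkQ P)
    simp only [hB, mul_add, Finset.sum_add_distrib]
    rw [hA, ih]
    congr 1
    obtain ⟨m', hm', ⟨e⟩⟩ := isSimpleModule_iff_quot_maximal.mp (inferInstance : IsSimpleModule C (M ⧸ P))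
    have hsimple : ∀ Q : Over (C := C) q, len Q.1.asIdeal (M ⧸ P) = if m' = Q.1.asIdeal then 1 else 0 := fun Q => by
      haveI := Q.1.isMaximal
      exact H1CAlg.length_localized_simple Q.1.asIdeal (M ⧸ P) m' hm' fun r hr y => by
        apply e.injective
        rw [map_smul, map_zero]
        obtain ⟨c, hc⟩ := Ideal.Quotient.mk_surjective (e y)
        rw [← hc]
        exact Ideal.Quotient.eq_zero_iff_mem.mpr (Ideal.mul_mem_right c _ hr)
    simp only [hsimple]
    rw [len_congr q (e.restrictScalars B)]
    by_cases hq : m'.comap (algebraMap B C) = q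
    · let Q₀ : Over (C := C) q := ⟨⟨m', hm'⟩, hq⟩
      rw [Finset.sum_eq_single Q₀ (fun Q _ hQ => by
        rw [if_neg fun h => hQ (Subtype.ext (MaximalSpectrum.ext h.symm)), mul_zero])
        (fun h => absurd (Finset.mem_univ _) h), if_pos rfl, mul_one]
      exact len_simple_over q Q₀
    · rw [Finset.sum_eq_zero fun Q _ => by
        rw [if_neg fun (h : m' = Q.1.asIdeal) => hq (h.symm ▸ Q.2), mul_zero]]
      haveI := hm'
      haveI : (m'.comap (algebraMap B C)).IsMaximal := Ideal.isMaximal_comap_of_isIntegral_of_isMaximal m'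
      obtain ⟨r, hr, hrq⟩ := SetLike.not_le_iff_exists.mp fun h : m'.comap (algebraMap B C) ≤ q =>
        hq (Ideal.IsMaximal.eq_of_le inferInstance (Ideal.IsPrime.ne_top inferInstance) h)
      refine len_zero_of_killed q fun x => ⟨r, hrq, ?_⟩
      obtain ⟨c, rfl⟩ := Ideal.Quotient.mk_surjective x
      rw [← Ideal.Quotient.mkₐ_eq_mk B, ← map_smul]
      exact Ideal.Quotient.eq_zero_iff_mem.mpr (by rw [Algebra.smul_def]; exact Ideal.mul_mem_right c _ hr)

/-- The degree formula. -/
theorem degree_formula [Fintype (Over (C := C) q)] (hinj : Function.Injective (algebraMap B C))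
    (hD : len q (C ⧸ LinearMap.range (Algebra.linearMap B C)) ≠ ⊤)
    (π : Localization.AtPrime q) (a : B) (hdvd : π ∣ algebraMap B (Localization.AtPrime q) a)
    (hC : IsFiniteLength C (C ⧸ Ideal.span {algebraMap B C a}))
    (hπ : ∀ Q : Over (C := C) q,
      Localization.localRingHom q Q.1.asIdeal (algebraMap B C) Ideal.LiesOver.over π ∈
        (Localization.AtPrime Q.1.asIdeal)⁰) :
    Ring.ord (Localization.AtPrime q) π = ∑ Q : Over (C := C) q, (deg q Q.1.asIdeal : ℕ∞) *
      Ring.ord (Localization.AtPrime Q.1.asIdeal)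
        (Localization.localRingHom q Q.1.asIdeal (algebraMap B C) Ideal.LiesOver.over π) := by
  classical
  obtain ⟨b, s, rfl⟩ := IsLocalization.exists_mk'_eq q.primeCompl π
  have hass : ∀ (R : Type u) [CommRing R] (φ : Localization.AtPrime q →+* R),
      Associated (φ (algebraMap B _ b)) (φ (IsLocalization.mk' (Localization.AtPrime q) b s)) := fun R _ φ => by
    refine Associated.map φ (Associated.symm ⟨(IsLocalization.map_units (Localization.AtPrime q) s).unit, ?_⟩)
    rw [IsUnit.unit_spec, IsLocalization.mk'_spec]
  have h0 := hass _ (RingHom.id _)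
  simp only [RingHom.id_apply] at h0
  rw [← Ring.ord_eq_of_associated h0, ← len_span_singleton]
  simp only [← Ring.ord_eq_of_associated (hass _ _), Localization.localRingHom_to_map, ← len_span_singleton]
  -- regularity of `b` on `C` at `q`
  have hb : ∀ x : C, b • x = 0 → ∃ t ∉ q, t • x = 0 := by
    intro x hx
    let J : Ideal C := LinearMap.ker (LinearMap.toSpanSingleton C C x)
    have hJ : ∀ r, r ∈ J ↔ r * x = 0 := fun r => Iff.rfl
    by_contra hno
    push Not at hno
    have hle : J.comap (algebraMap B C) ≤ q := fun t ht => by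
      by_contra htq
      exact hno t htq (by rw [Algebra.smul_def]; exact (hJ _).mp ht)
    obtain ⟨P, hJP, hP, hPq⟩ := Ideal.exists_ideal_over_prime_of_isIntegral q J hle
    haveI := hP
    haveI : P.LiesOver q := ⟨hPq.symm⟩
    haveI hPmax : P.IsMaximal := Ideal.isMaximal_of_isIntegral_of_isMaximal_comap P (hPq.symm ▸ ‹q.IsMaximal›)
    let Q : Over (C := C) q := ⟨⟨P, hPmax⟩, hPq⟩
    have hreg := hπ Q
    have h2 : Localization.localRingHom q P (algebraMap B C) Ideal.LiesOver.over (algebraMap B _ b) ∈ (Localization.AtPrime P)⁰ := by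
      obtain ⟨w, hw⟩ := (hass _ (Localization.localRingHom q P (algebraMap B C) Ideal.LiesOver.over)).symm
      rw [← hw]
      exact mul_mem hreg w.isUnit.mem_nonZeroDivisors
    rw [Localization.localRingHom_to_map] at h2
    have hx' : algebraMap C (Localization.AtPrime P) x = 0 := by
      refine (mem_nonZeroDivisors_iff_right.mp h2) _ ?_
      rw [← map_mul, mul_comm, ← Algebra.smul_def, hx, map_zero]
    obtain ⟨t, ht⟩ := (IsLocalization.map_eq_zero_iff P.primeCompl _ x).mp hx'
    exact t.2 (hJP ((hJ _).mpr ht))
  -- transport `B/bB` into `C`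
  let L := LinearMap.range (Algebra.linearMap B C)
  let eL : B ≃ₗ[B] L := LinearEquiv.ofInjective (Algebra.linearMap B C) hinj
  have h1 : len q (B ⧸ Ideal.span {b}) = len q (L ⧸ b • (⊤ : Submodule B L)) :=
    len_congr q (Submodule.Quotient.equiv _ _ eL (by
      rw [show (Ideal.span {b} : Submodule B B) = b • (⊤ : Submodule B B) by
          rw [← Ideal.submodule_span_eq, ← Submodule.ideal_span_singleton_smul, smul_eq_mul, Ideal.mul_top]]
      rw [Submodule.map_pointwise_smul, Submodule.map_top, LinearEquiv.range]))
  rw [h1, len_quot_smul_eq q L b hb hD]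
  have hbC : b • (⊤ : Submodule B C) = (Ideal.span {algebraMap B C b}).restrictScalars B := by
    ext x
    rw [Submodule.mem_smul_pointwise_iff_exists, Submodule.restrictScalars_mem, Ideal.mem_span_singleton']
    exact ⟨fun ⟨y, _, hy⟩ => ⟨y, by rw [mul_comm, ← Algebra.smul_def, hy]⟩,
      fun ⟨y, hy⟩ => ⟨y, trivial, by rw [Algebra.smul_def, mul_comm, hy]⟩⟩
  rw [len_congr q ((Submodule.quotEquivOfEq _ _ hbC).trans (Submodule.Quotient.restrictScalarsEquiv B _))]
  -- cut down to finite length
  let J : Ideal C := Ideal.span {algebraMap B C b, algebraMap B C a}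
  have hJ : Ideal.span {algebraMap B C b} ≤ J := Ideal.span_mono (by simp)
  obtain ⟨t, ht, z, hz⟩ : ∃ t ∉ q, ∃ z, t * a = b * z := by
    obtain ⟨w, hw⟩ := hdvd
    obtain ⟨z, v, rfl⟩ := IsLocalization.exists_mk'_eq q.primeCompl w
    rw [← IsLocalization.mk'_mul, eq_comm, IsLocalization.mk'_eq_iff_eq_mul, ← map_mul,
      IsLocalization.eq_iff_exists q.primeCompl] at hw
    obtain ⟨c, hc⟩ := hw
    exact ⟨(c : B) * ((s : B) * v), mul_mem c.2 (mul_mem s.2 v.2), c * z, by
      rw [show ((s * v : q.primeCompl) : B) = (s : B) * v from rfl] at hc; linear_combination -hc⟩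
  have hcut : ∀ x : C ⧸ Ideal.span {algebraMap B C b}, Submodule.factor hJ x = 0 →
      algebraMap B C t • x = 0 := by
    intro x hx
    obtain ⟨x, rfl⟩ := Submodule.Quotient.mk_surjective _ x
    replace hx : x ∈ J := (Submodule.Quotient.mk_eq_zero _).mp hx
    obtain ⟨c₁, c₂, rfl⟩ := Ideal.mem_span_pair.mp hx
    rw [← Submodule.Quotient.mk_smul, Submodule.Quotient.mk_eq_zero, smul_eq_mul, Ideal.mem_span_singleton']
    refine ⟨algebraMap B C t * c₁ + algebraMap B C z * c₂, ?_⟩
    linear_combination (-c₂) * (by rw [← map_mul, ← map_mul, hz] : algebraMap B C t * algebraMap B C a = algebraMap B C b * algebraMap B C z)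
  have hfl : IsFiniteLength C (C ⧸ J) := by
    refine Module.length_ne_top_iff.mp (ne_top_of_le_ne_top (Module.length_ne_top_iff.mpr hC) ?_)
    exact Module.length_le_of_surjective (Submodule.factor (Ideal.span_mono (by simp) : Ideal.span {algebraMap B C a} ≤ J))
      (Submodule.factor_surjective _)
  rw [len_eq_of_surjective q ((Submodule.factor hJ).restrictScalars B) (Submodule.factor_surjective hJ)
    (fun x hx => ⟨t, ht, by rw [← algebraMap_smul C t x]; exact hcut x hx⟩), len_eq_sum q (C ⧸ J) hfl]
  refine Finset.sum_congr rfl fun Q _ => ?_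
  rw [len_eq_of_surjective Q.1.asIdeal (Submodule.factor hJ) (Submodule.factor_surjective hJ)
    (fun x hx => ⟨_, fun h => ht (Q.2.le h), hcut x hx⟩)]

end degree

end Groth.Agent.H3CAlg.Tame
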