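import Groth.Agent.H3CAlg.Tame.Phi
import Groth.Agent.S1848
import Mathlib

/-!
# The tame symbol and the norm for a finite free extension of discrete valuation rings with trivial residue extensions
-/

set_option autoImplicit false
set_option linter.style.haveILetI false
set_option linter.unusedSectionVars false
universe u

open IsLocalRing CycAlg
open scoped nonZeroDivisors

namespace Groth.Agent.H3CAlg.Tame

section laws

variable {L : Type u} [CommRing L] [IsNoetherianRing L] [IsLocalRing L]

theorem tameSymbol_swap (hL : ringKrullDim L = 1) {a b : L} (ha : a ∈ L⁰) (hb : b ∈ L⁰) :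
    tameSymbol L a b * tameSymbol L b a = 1 := by
  classical
  obtain ⟨C, _, _, hC, -, π, hπ, hfac⟩ := exists_fac_ext hL (a ::ₘ b ::ₘ 0) (by simp [ha, hb])
  haveI := hC.2.1
  haveI := H22Alg.finite_maximalSpectrum_of_finite L C
  haveI := Fintype.ofFinite (MaximalSpectrum C)
  haveI hloc : ∀ Q : MaximalSpectrum C, IsLocalHom (algebraMap L (Localization.AtPrime Q.asIdeal)) := isLocalHom_ext hC
  obtain ⟨v, e, hv⟩ := hfac a (by simp)
  obtain ⟨w, f, hw⟩ := hfac b (by simp)
  rw [tameSymbol_eq_prod hL hC hπ ha hb hv hw, tameSymbol_eq_prod hL hC hπ hb ha hw hv, ← Finset.prod_mul_distrib]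
  refine Finset.prod_eq_one fun Q _ => ?_
  haveI := hloc Q
  rw [fct_eq_norm_pow, fct_eq_norm_pow, ← map_mul, ← mul_pow]
  have hr : rsym (v Q) (w Q) (e Q) (f Q) * rsym (w Q) (v Q) (f Q) (e Q) = 1 := by
    simp only [rsym]
    have h1 := pow_ne_zero (f Q) (residue_ne_zero (v Q))
    have h2 := pow_ne_zero (e Q) (residue_ne_zero (w Q))
    rw [mul_comm (f Q) (e Q)]
    field_simp
    rw [← pow_mul, mul_comm, pow_mul, neg_one_sq, one_pow]
  rw [hr, one_pow, map_one]

theorem tameSymbol_mul_left (hL : ringKrullDim L = 1) {a a' b : L} (ha : a ∈ L⁰) (ha' : a' ∈ L⁰) (hb : b ∈ L⁰) :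
    tameSymbol L (a * a') b = tameSymbol L a b * tameSymbol L a' b :=
  ((S1848.result L hL).2.1 a a' b ha ha' hb).1

theorem tameSymbol_mul_right (hL : ringKrullDim L = 1) {a b b' : L} (ha : a ∈ L⁰) (hb : b ∈ L⁰) (hb' : b' ∈ L⁰) :
    tameSymbol L a (b * b') = tameSymbol L a b * tameSymbol L a b' :=
  ((S1848.result L hL).2.1 b b' a hb hb' ha).2

theorem tameSymbol_unit_left (hL : ringKrullDim L = 1) {c b : L} (hc : IsUnit c) (hb : b ∈ L⁰) :
    tameSymbol L c b = residue L c ^ (Module.length L (L ⧸ Ideal.span {b})).toNat := by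
  obtain ⟨c, rfl⟩ := hc
  exact (S1848.result L hL).2.2.2.1 c b hb

theorem tameSymbol_unit_right (hL : ringKrullDim L = 1) {c a : L} (hc : IsUnit c) (ha : a ∈ L⁰) :
    tameSymbol L a c = (residue L c ^ (Module.length L (L ⧸ Ideal.span {a})).toNat)⁻¹ := by
  rw [← tameSymbol_unit_left hL hc ha]
  exact eq_inv_of_mul_eq_one_left (tameSymbol_swap hL ha hc.mem_nonZeroDivisors)

theorem tameSymbol_self_one (hL : ringKrullDim L = 1) {θ : L} (hθ : θ ∈ L⁰)
    (h1 : Module.length L (L ⧸ Ideal.span {θ}) = 1) : tameSymbol L θ θ = -1 := by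
  rw [(S1848.result L hL).2.2.1 θ hθ, h1, ENat.toNat_one, pow_one]

theorem tameSymbol_one_left (hL : ringKrullDim L = 1) {b : L} (hb : b ∈ L⁰) : tameSymbol L 1 b = 1 := by
  rw [tameSymbol_unit_left hL isUnit_one hb, map_one, one_pow]

theorem tameSymbol_one_right (hL : ringKrullDim L = 1) {a : L} (ha : a ∈ L⁰) : tameSymbol L a 1 = 1 := by
  rw [tameSymbol_unit_right hL isUnit_one ha, map_one, one_pow, inv_one]

theorem tameSymbol_pow_left (hL : ringKrullDim L = 1) {a b : L} (ha : a ∈ L⁰) (hb : b ∈ L⁰) (n : ℕ) :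
    tameSymbol L (a ^ n) b = tameSymbol L a b ^ n := by
  induction n with
  | zero => rw [pow_zero, pow_zero, tameSymbol_one_left hL hb]
  | succ n ih => rw [pow_succ, pow_succ, tameSymbol_mul_left hL (pow_mem ha n) ha hb, ih]

theorem tameSymbol_pow_right (hL : ringKrullDim L = 1) {a b : L} (ha : a ∈ L⁰) (hb : b ∈ L⁰) (n : ℕ) :
    tameSymbol L a (b ^ n) = tameSymbol L a b ^ n := by
  induction n with
  | zero => rw [pow_zero, pow_zero, tameSymbol_one_right hL ha]
  | succ n ih => rw [pow_succ, pow_succ, tameSymbol_mul_right hL ha (pow_mem hb n) hb, ih]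

theorem length_quotient_span_eq_one {θ : L} (hθ : Ideal.span {θ} = maximalIdeal L) :
    Module.length L (L ⧸ Ideal.span {θ}) = 1 := by
  rw [hθ]
  haveI : IsSimpleModule L (L ⧸ maximalIdeal L) :=
    isSimpleModule_iff_isCoatom.mpr (Ideal.isMaximal_def.mp inferInstance)
  exact Module.length_eq_one L _

/-- The tame symbol in terms of a generator of the maximal ideal. -/
theorem tameSymbol_dvr (hL : ringKrullDim L = 1) {θ : L} (hθ : θ ∈ L⁰) (hm : Ideal.span {θ} = maximalIdeal L)
    (u w : Lˣ) (e f : ℕ) :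
    tameSymbol L ((u : L) * θ ^ e) ((w : L) * θ ^ f) = rsym u w e f := by
  have h1 := length_quotient_span_eq_one hm
  have hu := u.isUnit.mem_nonZeroDivisors
  have hw := w.isUnit.mem_nonZeroDivisors
  rw [tameSymbol_mul_left hL hu (pow_mem hθ e) (mul_mem hw (pow_mem hθ f)),
    tameSymbol_mul_right hL hu hw (pow_mem hθ f), tameSymbol_mul_right hL (pow_mem hθ e) hw (pow_mem hθ f),
    tameSymbol_of_isUnit u.isUnit w.isUnit, one_mul, tameSymbol_pow_right hL hu hθ, tameSymbol_pow_left hL hθ hw,
    tameSymbol_pow_left hL hθ (pow_mem hθ f), tameSymbol_pow_right hL hθ hθ, tameSymbol_self_one hL hθ h1,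
    tameSymbol_unit_left hL u.isUnit hθ, tameSymbol_unit_right hL w.isUnit hθ, h1, ENat.toNat_one, pow_one, pow_one,
    rsym, ← pow_mul, inv_pow, mul_comm f e]
  ring

end laws

section det

variable {R : Type u} [CommRing R]

/-- The determinant of a cyclic shift on one block, the identity on the other, with one column replaced. -/
theorem det_shift (n k : ℕ) (M : Matrix (Fin (n + 1) ⊕ Fin k) (Fin (n + 1) ⊕ Fin k) R)
    (h₁ : ∀ (j : Fin (n + 1)), j ≠ Fin.last n → ∀ i, M i (Sum.inl j) = if i = Sum.inl (j + 1) then 1 else 0)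
    (h₂ : ∀ (j : Fin k) i, M i (Sum.inr j) = if i = Sum.inr j then 1 else 0) :
    M.det = (-1) ^ n * M (Sum.inl 0) (Sum.inl (Fin.last n)) := by
  classical
  let σ : Equiv.Perm (Fin (n + 1) ⊕ Fin k) := Equiv.Perm.sumCongr (finRotate (n + 1)) 1
  have hsub : M.submatrix σ id = (1 : Matrix _ _ R).updateCol (Sum.inl (Fin.last n)) (fun i => M (σ i) (Sum.inl (Fin.last n))) := by
    ext i j
    rw [Matrix.submatrix_apply, id_eq, Matrix.updateCol_apply]
    by_cases hj : j = Sum.inl (Fin.last n)
    · rw [if_pos hj, hj]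
    · rw [if_neg hj, Matrix.one_apply]
      rcases j with j | j
      · rw [h₁ j (fun h => hj (congrArg _ h))]
        have : (Sum.inl (j + 1) : Fin (n + 1) ⊕ Fin k) = σ (Sum.inl j) := by simp [σ]
        simp only [this, σ.injective.eq_iff]
      · rw [h₂ j]
        have : (Sum.inr j : Fin (n + 1) ⊕ Fin k) = σ (Sum.inr j) := by simp [σ]
        conv_lhs => rw [this]
        simp only [σ.injective.eq_iff]
  have hdet := congrArg Matrix.det hsub
  rw [Matrix.det_permute, ← Matrix.cramer_apply, Matrix.cramer_one] at hdet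
  have hσ : σ (Sum.inl (Fin.last n)) = Sum.inl 0 := by simp [σ]
  simp only [Module.End.one_apply, hσ] at hdet
  rw [← hdet, ← mul_assoc, show Equiv.Perm.sign σ = (-1) ^ n by
    simp [σ, Equiv.Perm.sign_sumCongr, sign_finRotate]]
  push_cast
  rw [← mul_pow, neg_one_mul, neg_neg, one_pow, one_mul]

end det

section norm

variable {A B : Type u} [CommRing A] [IsDomain A] [IsDiscreteValuationRing A] [CommRing B] [IsDomain B]
  [Algebra A B] [Module.Finite A B] [Module.Free A B]

/-- The determinant of multiplication by a uniformizer of `B` which is congruent to one at the other points. -/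
theorem norm_uniformizer {ϖ : A} (hϖ : Irreducible ϖ) {θ w : B} {n : ℕ} (hθ : Prime θ) (hθw : ¬ θ ∣ w)
    (hfac : algebraMap A B ϖ = w * θ ^ (n + 1)) (hθ1 : θ - 1 ∈ Ideal.span {w})
    (hres : ∀ x : B, ∃ a : A, x - algebraMap A B a ∈ Ideal.span {θ}) :
    ∃ U : A, Algebra.norm A θ = ϖ * U ∧
      ∀ a : A, w - algebraMap A B a ∈ Ideal.span {θ} → residue A U * residue A a = (-1) ^ n := by
  classical
  have hm : maximalIdeal A = Ideal.span {ϖ} := hϖ.maximalIdeal_eq
  have hϖθ : algebraMap A B ϖ ∈ Ideal.span {θ} := by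
    rw [hfac, Ideal.mem_span_singleton, pow_succ', ← mul_assoc, mul_comm w θ, mul_assoc]
    exact dvd_mul_right _ _
  have hbase : ∀ c : A, algebraMap A B c ∈ Ideal.span {θ} → c ∈ maximalIdeal A := by
    intro c hc
    by_contra h
    exact hθ.not_unit (Ideal.span_singleton_eq_top.mp (Ideal.eq_top_of_isUnit_mem _ hc ((notMem_maximalIdeal.mp h).map _)))
  have hbaseS : ∀ c : A, c ∈ maximalIdeal A → ∃ c' : A, c = ϖ * c' := fun c hc => by
    rw [hm, Ideal.mem_span_singleton] at hc
    exact hc
  let s : B := 1 - θ ^ (n + 1)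
  obtain ⟨w₁, hw₁⟩ : w ∣ s := by
    obtain ⟨t, ht⟩ := Ideal.mem_span_singleton.mp hθ1
    refine ⟨-(t * ∑ i ∈ Finset.range (n + 1), θ ^ i), ?_⟩
    show 1 - θ ^ (n + 1) = _
    rw [← neg_sub, ← geom_sum_mul, ht]
    ring
  -- a basis of `B/wB` modulo the maximal ideal
  let J : Ideal B := Ideal.span {w} ⊔ (maximalIdeal A).map (algebraMap A B)
  have hJ : J = Ideal.span {w} := by
    refine sup_eq_left.mpr ?_
    rw [hm, Ideal.map_span, Set.image_singleton, Ideal.span_le, Set.singleton_subset_iff, SetLike.mem_coe, hfac]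
    exact Ideal.mul_mem_right _ _ (Ideal.mem_span_singleton_self w)
  letI : Algebra (ResidueField A) (B ⧸ J) :=
    (Ideal.quotientMap J (algebraMap A B) (Ideal.map_le_iff_le_comap.mp le_sup_right)).toAlgebra
  haveI : IsScalarTower A (ResidueField A) (B ⧸ J) := .of_algebraMap_eq fun r => rfl
  haveI : Module.Finite (ResidueField A) (B ⧸ J) := Module.Finite.of_restrictScalars_finite A _ _
  obtain ⟨k, ⟨β⟩⟩ : ∃ k, Nonempty (Module.Basis (Fin k) (ResidueField A) (B ⧸ J)) :=
    ⟨_, ⟨Module.finBasis (ResidueField A) (B ⧸ J)⟩⟩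
  choose y hy using fun i => Ideal.Quotient.mk_surjective (β i)
  have hsmul : ∀ (d : A) (x : B), residue A d • Ideal.Quotient.mk J x = Ideal.Quotient.mk J (d • x) := fun d x => by
    rw [← ResidueField.algebraMap_eq, algebraMap_smul]
    rfl
  have hyspan : ∀ x : B, ∃ d : Fin k → A, x - ∑ i, d i • y i ∈ Ideal.span {w} := by
    intro x
    choose d hd using fun i => residue_surjective (β.repr (Ideal.Quotient.mk J x) i)
    refine ⟨d, ?_⟩
    rw [← hJ, ← Ideal.Quotient.eq, map_sum]
    conv_lhs => rw [← β.sum_repr (Ideal.Quotient.mk J x)]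
    refine Finset.sum_congr rfl fun i _ => ?_
    rw [← hd i, ← hy i, hsmul]
  have hyind : ∀ d : Fin k → A, ∑ i, d i • y i ∈ Ideal.span {w} → ∀ i, d i ∈ maximalIdeal A := by
    intro d hd i
    rw [← hJ, ← Ideal.Quotient.eq_zero_iff_mem, map_sum] at hd
    have := Fintype.linearIndependent_iff.mp β.linearIndependent (fun i => residue A (d i)) (by
      rw [← hd]
      refine Finset.sum_congr rfl fun j _ => ?_
      rw [← hy j, hsmul]) i
    exact (residue_eq_zero_iff _).mp this
  -- expansions modulo powers of `θ`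
  have hpow : ∀ (i : ℕ) (x : B), ∃ c : Fin i → A, x - ∑ j, c j • θ ^ (j : ℕ) ∈ Ideal.span {θ ^ i} := by
    intro i
    induction i with
    | zero => intro x; exact ⟨Fin.elim0, by simp⟩
    | succ i ih =>
      intro x
      obtain ⟨a, ha⟩ := hres x
      obtain ⟨x', hx'⟩ := Ideal.mem_span_singleton.mp ha
      obtain ⟨c, hc⟩ := ih x'
      obtain ⟨t, ht⟩ := Ideal.mem_span_singleton.mp hc
      refine ⟨Fin.cons a c, Ideal.mem_span_singleton.mpr ⟨t, ?_⟩⟩
      rw [Fin.sum_univ_succ, Fin.cons_zero, Fin.val_zero, pow_zero, Algebra.smul_def, mul_one]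
      simp only [Fin.cons_succ, Fin.val_succ]
      rw [show ∑ j : Fin i, c j • θ ^ ((j : ℕ) + 1) = θ * ∑ j : Fin i, c j • θ ^ (j : ℕ) by
        rw [Finset.mul_sum]; exact Finset.sum_congr rfl fun j _ => by rw [pow_succ', mul_smul_comm]]
      linear_combination hx' + θ * ht
  have hpind : ∀ (i : ℕ), i ≤ n + 1 → ∀ c : Fin i → A, ∑ j, c j • θ ^ (j : ℕ) ∈ Ideal.span {θ ^ i} →
      ∀ j, c j ∈ maximalIdeal A := by
    intro i
    induction i with
    | zero => exact fun _ _ _ j => j.elim0
    | succ i ih =>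
      intro hi c hc
      rw [Fin.sum_univ_succ, Fin.val_zero, pow_zero, Algebra.smul_def, mul_one] at hc
      simp only [Fin.val_succ] at hc
      rw [show ∑ j : Fin i, c j.succ • θ ^ ((j : ℕ) + 1) = θ * ∑ j : Fin i, c j.succ • θ ^ (j : ℕ) by
        rw [Finset.mul_sum]; exact Finset.sum_congr rfl fun j _ => by rw [pow_succ', mul_smul_comm]] at hc
      obtain ⟨t, ht⟩ := Ideal.mem_span_singleton.mp hc
      have h0 : c 0 ∈ maximalIdeal A := hbase _ (Ideal.mem_span_singleton.mpr
        ⟨θ ^ i * t - ∑ j : Fin i, c j.succ • θ ^ (j : ℕ), by linear_combination ht⟩)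
      obtain ⟨c0, hc0⟩ := hbaseS _ h0
      have h1 : ∑ j : Fin i, c j.succ • θ ^ (j : ℕ) ∈ Ideal.span {θ ^ i} := by
        refine Ideal.mem_span_singleton.mpr ⟨t - w * θ ^ (n - i) * algebraMap A B c0, mul_left_cancel₀ hθ.ne_zero ?_⟩
        have hni : θ ^ i * θ ^ (n - i) = θ ^ n := by rw [← pow_add, Nat.add_sub_cancel' (by omega)]
        rw [hc0, map_mul, hfac] at ht
        linear_combination ht + w * algebraMap A B c0 * θ * hni
      exact fun j => Fin.cases h0 (ih (by omega) _ h1) j
  let b : Fin (n + 1) ⊕ Fin k → B := Sum.elim (fun i => θ ^ (i : ℕ) * s) (fun j => θ ^ (n + 1) * y j)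
  have hsum : ∀ c : Fin (n + 1) ⊕ Fin k → A, ∑ i, c i • b i =
      (∑ i, c (Sum.inl i) • θ ^ (i : ℕ)) * s + θ ^ (n + 1) * ∑ j, c (Sum.inr j) • y j := by
    intro c
    rw [Fintype.sum_sum_type, Finset.sum_mul, Finset.mul_sum]
    simp only [b, Sum.elim_inl, Sum.elim_inr, smul_mul_assoc, mul_smul_comm]
  have hmod : ∀ x : B, ∃ c : Fin (n + 1) ⊕ Fin k → A, x - ∑ i, c i • b i ∈ Ideal.span {algebraMap A B ϖ} := by
    intro x
    obtain ⟨c, hc⟩ := hpow (n + 1) x
    obtain ⟨t, ht⟩ := Ideal.mem_span_singleton.mp hc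
    obtain ⟨d, hd⟩ := hyspan (t + ∑ i, c i • θ ^ (i : ℕ))
    obtain ⟨r, hr⟩ := Ideal.mem_span_singleton.mp hd
    refine ⟨Sum.elim c d, Ideal.mem_span_singleton.mpr ⟨r, ?_⟩⟩
    rw [hsum, hfac]
    simp only [Sum.elim_inl, Sum.elim_inr, s]
    linear_combination ht + θ ^ (n + 1) * hr
  have hindmod : ∀ c : Fin (n + 1) ⊕ Fin k → A, ∑ i, c i • b i ∈ Ideal.span {algebraMap A B ϖ} →
      ∀ i, c i ∈ maximalIdeal A := by
    intro c hc
    obtain ⟨r, hr⟩ := Ideal.mem_span_singleton.mp hc
    rw [hsum, hfac] at hr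
    have hl : ∀ i, c (Sum.inl i) ∈ maximalIdeal A := by
      refine hpind (n + 1) le_rfl _ (Ideal.mem_span_singleton.mpr
        ⟨w * r + ∑ i, c (Sum.inl i) • θ ^ (i : ℕ) - ∑ j, c (Sum.inr j) • y j, ?_⟩)
      simp only [s] at hr
      linear_combination hr
    choose c' hc' using fun i => hbaseS _ (hl i)
    have hr' : ∑ j, c (Sum.inr j) • y j ∈ Ideal.span {w} := by
      refine Ideal.mem_span_singleton.mpr ⟨r - s * ∑ i, c' i • θ ^ (i : ℕ), mul_left_cancel₀ (pow_ne_zero (n + 1) hθ.ne_zero) ?_⟩
      have : ∑ i, c (Sum.inl i) • θ ^ (i : ℕ) = w * θ ^ (n + 1) * ∑ i, c' i • θ ^ (i : ℕ) := by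
        rw [← hfac, Finset.mul_sum]
        refine Finset.sum_congr rfl fun i _ => ?_
        rw [hc' i, Algebra.smul_def, map_mul, Algebra.smul_def]
        ring
      rw [this] at hr
      linear_combination hr
    exact Sum.rec hl (hyind _ hr')
  -- lift to a basis
  have hspan : ⊤ ≤ Submodule.span A (Set.range b) := by
    refine Submodule.le_of_le_smul_of_le_jacobson_bot (I := maximalIdeal A) Module.Finite.fg_top
      (maximalIdeal_le_jacobson ⊥) fun x _ => ?_
    obtain ⟨c, hc⟩ := hmod x
    obtain ⟨r, hr⟩ := Ideal.mem_span_singleton.mp hc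
    rw [sub_eq_iff_eq_add] at hr
    rw [hr, Submodule.add_mem_iff_left]
    · exact Submodule.mem_sup_right (by
        rw [← Algebra.smul_def]
        exact Submodule.smul_mem_smul (hm ▸ Ideal.mem_span_singleton_self ϖ) Submodule.mem_top)
    · exact Submodule.mem_sup_left (Submodule.sum_mem _ fun i _ => Submodule.smul_mem _ _ (Submodule.subset_span ⟨i, rfl⟩))
  have hind : LinearIndependent A b := by
    rw [Fintype.linearIndependent_iff]
    intro c hc
    have key : ∀ (l : ℕ) (c : Fin (n + 1) ⊕ Fin k → A), ∑ i, c i • b i = 0 → ∀ i, c i ∈ maximalIdeal A ^ l := by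
      intro l
      induction l with
      | zero => intro c _ i; rw [pow_zero, Ideal.one_eq_top]; trivial
      | succ l ih =>
        intro c hc
        have h0 := hindmod c (by rw [hc]; exact zero_mem _)
        choose c' hc' using fun i => hbaseS _ (h0 i)
        have hne : algebraMap A B ϖ ≠ 0 := by
          rw [hfac]
          exact mul_ne_zero (fun h => hθw (h ▸ dvd_zero θ)) (pow_ne_zero _ hθ.ne_zero)
        have hc0 : ∑ i, c' i • b i = 0 := by
          refine mul_left_cancel₀ hne ?_
          rw [mul_zero, ← hc, Finset.mul_sum]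
          refine Finset.sum_congr rfl fun i _ => ?_
          rw [hc' i, mul_smul, Algebra.smul_def ϖ]
        intro i
        rw [hc' i, pow_succ']
        exact Ideal.mul_mem_mul (hm ▸ Ideal.mem_span_singleton_self ϖ) (ih c' hc0 i)
    intro i
    have : c i ∈ ⨅ l : ℕ, maximalIdeal A ^ l := Submodule.mem_iInf _ |>.mpr fun l => key l c hc i
    rwa [Ideal.iInf_pow_eq_bot_of_isLocalRing _ (maximalIdeal.isMaximal A).ne_top, Submodule.mem_bot] at this
  let bas : Module.Basis (Fin (n + 1) ⊕ Fin k) A B := Module.Basis.mk hind hspan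
  let col : Fin (n + 1) ⊕ Fin k := Sum.inl (Fin.last n)
  let v : Fin (n + 1) ⊕ Fin k → A := fun i => bas.repr w₁ i
  let M := Algebra.leftMulMatrix bas θ
  let M' := M.updateCol col v
  have hM : M = M.updateCol col (ϖ • v) := by
    ext i j
    rw [Matrix.updateCol_apply]
    split_ifs with h
    · subst h
      show Algebra.leftMulMatrix bas θ i col = ϖ * v i
      rw [Algebra.leftMulMatrix_eq_repr_mul]
      have : θ * bas col = ϖ • w₁ := by
        rw [Module.Basis.mk_apply]
        show θ * (θ ^ (Fin.last n : ℕ) * s) = _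
        rw [Fin.val_last, hw₁, Algebra.smul_def, hfac, pow_succ']
        ring
      rw [this, map_smul]
      rfl
    · rfl
  refine ⟨M'.det, ?_, fun a ha => ?_⟩
  · rw [Algebra.norm_eq_matrix_det bas]
    show M.det = _
    rw [hM, Matrix.det_updateCol_smul]
  rw [RingHom.map_det, det_shift n k ((residue A).mapMatrix M')]
  · simp only [M', M, col]
    rw [RingHom.mapMatrix_apply, Matrix.map_apply, Matrix.updateCol_self, mul_assoc, ← map_mul]
    suffices residue A (v (Sum.inl 0) * a) = 1 by rw [this, mul_one]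
    rw [← map_one (residue A), ← sub_eq_zero, ← map_sub, residue_eq_zero_iff]
    refine hbase _ ?_
    have hw : w₁ = ∑ i, v i • b i := by
      conv_lhs => rw [← bas.sum_repr w₁]
      exact Finset.sum_congr rfl fun i _ => by rw [Module.Basis.mk_apply]
    rw [hsum] at hw
    obtain ⟨t, ht⟩ := Ideal.mem_span_singleton.mp ha
    rw [Fin.sum_univ_succ, Fin.val_zero, pow_zero, Algebra.smul_def, mul_one] at hw
    simp only [Fin.val_succ] at hw
    rw [show ∑ j : Fin n, v (Sum.inl j.succ) • θ ^ ((j : ℕ) + 1) = θ * ∑ j : Fin n, v (Sum.inl j.succ) • θ ^ (j : ℕ) by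
      rw [Finset.mul_sum]; exact Finset.sum_congr rfl fun j _ => by rw [pow_succ', mul_smul_comm]] at hw
    simp only [s] at hw₁ hw
    refine Ideal.mem_span_singleton.mpr ⟨-(w₁ * t) - θ ^ n
      - algebraMap A B a * ((1 - θ ^ (n + 1)) * (∑ j : Fin n, v (Sum.inl j.succ) • θ ^ (j : ℕ))
        - θ ^ n * algebraMap A B (v (Sum.inl 0)) + θ ^ n * ∑ j, v (Sum.inr j) • y j), ?_⟩
    rw [map_sub, map_mul, map_one]
    linear_combination -(algebraMap A B a) * hw - w₁ * ht - hw₁
  · intro j hj i
    simp only [M', M, col]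
    rw [RingHom.mapMatrix_apply, Matrix.map_apply, Matrix.updateCol_ne (fun h => hj (Sum.inl_injective h)),
      Algebra.leftMulMatrix_eq_repr_mul]
    have hj' : ((j + 1 : Fin (n + 1)) : ℕ) = (j : ℕ) + 1 := by rw [Fin.val_add_one, if_neg hj]
    have : θ * bas (Sum.inl j) = bas (Sum.inl (j + 1)) := by
      simp only [bas, Module.Basis.mk_apply, b, Sum.elim_inl, hj', pow_succ']
      ring
    rw [this, Module.Basis.repr_self, Finsupp.single_apply]
    by_cases h : i = Sum.inl (j + 1)
    · rw [if_pos h, if_pos h.symm, map_one]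
    · rw [if_neg h, if_neg (Ne.symm h), map_zero]
  · intro j i
    simp only [M', M, col]
    rw [RingHom.mapMatrix_apply, Matrix.map_apply, Matrix.updateCol_ne Sum.inr_ne_inl,
      Algebra.leftMulMatrix_eq_repr_mul]
    obtain ⟨t, ht⟩ := Ideal.mem_span_singleton.mp hθ1
    have : θ * bas (Sum.inr j) = bas (Sum.inr j) + ϖ • (t * y j) := by
      simp only [bas, Module.Basis.mk_apply, b, Sum.elim_inr, Algebra.smul_def, hfac]
      linear_combination θ ^ (n + 1) * y j * ht
    rw [this, map_add, map_smul, Module.Basis.repr_self, Finsupp.add_apply, Finsupp.smul_apply, smul_eq_mul, map_add,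
      map_mul, (residue_eq_zero_iff ϖ).mpr (hm ▸ Ideal.mem_span_singleton_self ϖ), zero_mul, add_zero, Finsupp.single_apply]
    by_cases h : i = Sum.inr j
    · rw [if_pos h, if_pos h.symm, map_one]
    · rw [if_neg h, if_neg (Ne.symm h), map_zero]

variable [IsPrincipalIdealRing B] [Fintype (MaximalSpectrum B)]
  [hloc : ∀ q : MaximalSpectrum B, IsLocalHom (algebraMap A (Localization.AtPrime q.asIdeal))]

/-- The identity, with the existence of the values at the maximal ideals of `B`. -/
def NormSymbol (f : B) (g : A) : Prop :=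
  ∃ t : MaximalSpectrum B → ResidueField A,
    (∀ q, (haveI := hloc q; algebraMap (ResidueField A) (ResidueField (Localization.AtPrime q.asIdeal)) (t q)) =
      tameSymbol (Localization.AtPrime q.asIdeal) (algebraMap B _ f) (algebraMap B _ (algebraMap A B g))) ∧
    ∏ q, t q = tameSymbol A (Algebra.norm A f) g

theorem normSymbol (hinj : Function.Injective (algebraMap A B))
    (hres : ∀ (q : MaximalSpectrum B) (x : B), ∃ a : A, x - algebraMap A B a ∈ q.asIdeal)
    {f : B} (hf : f ≠ 0) {g : A} (hg : g ≠ 0) : NormSymbol f g := by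
  classical
  have hA : ringKrullDim A = 1 := IsDiscreteValuationRing.ringKrullDim_eq_one A
  obtain ⟨ϖ, hϖ⟩ := IsDiscreteValuationRing.exists_irreducible A
  have hm : maximalIdeal A = Ideal.span {ϖ} := hϖ.maximalIdeal_eq
  have hϖB : algebraMap A B ϖ ≠ 0 := fun h => hϖ.ne_zero (hinj (h.trans (map_zero _).symm))
  have hϖ1 : Module.length A (A ⧸ Ideal.span {ϖ}) = 1 := length_quotient_span_eq_one hm.symm
  have hϖq : ∀ q : MaximalSpectrum B, algebraMap A B ϖ ∈ q.asIdeal := fun q => by
    haveI := q.isMaximal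
    have := (comap_maximal (A := A) q.asIdeal).ge (show ϖ ∈ maximalIdeal A from hm ▸ Ideal.mem_span_singleton_self ϖ)
    exact this
  have hbot : ∀ q : MaximalSpectrum B, q.asIdeal ≠ ⊥ := fun q h => hϖB (by
    have := hϖq q
    rwa [h, Ideal.mem_bot] at this)
  haveI hdom : ∀ q : MaximalSpectrum B, IsDomain (Localization.AtPrime q.asIdeal) := fun q =>
    IsLocalization.isDomain_localization q.asIdeal.primeCompl_le_nonZeroDivisors
  haveI hdvr : ∀ q : MaximalSpectrum B, IsDiscreteValuationRing (Localization.AtPrime q.asIdeal) := fun q =>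
    IsLocalization.AtPrime.isDiscreteValuationRing_of_dedekind_domain B (hbot q) _
  have hdim : ∀ q : MaximalSpectrum B, ringKrullDim (Localization.AtPrime q.asIdeal) = 1 := fun q =>
    IsDiscreteValuationRing.ringKrullDim_eq_one _
  have hreg : ∀ (q : MaximalSpectrum B) (x : B), x ≠ 0 →
      algebraMap B (Localization.AtPrime q.asIdeal) x ∈ (Localization.AtPrime q.asIdeal)⁰ := fun q x hx =>
    IsLocalization.map_nonZeroDivisors_le q.asIdeal.primeCompl _ ⟨x, mem_nonZeroDivisors_of_ne_zero hx, rfl⟩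
  have hgB : ∀ {g : A}, g ≠ 0 → algebraMap A B g ≠ 0 := fun hg h => hg (hinj (h.trans (map_zero _).symm))
  have hN : ∀ {f : B}, f ≠ 0 → Algebra.norm A f ∈ A⁰ := fun hf =>
    mem_nonZeroDivisors_of_ne_zero (Algebra.norm_ne_zero_iff.mpr hf)
  -- residues in the base
  have hrmap : ∀ (q : MaximalSpectrum B) (x : B) (a : A), x - algebraMap A B a ∈ q.asIdeal →
      (haveI := hloc q; algebraMap (ResidueField A) (ResidueField (Localization.AtPrime q.asIdeal)) (residue A a)) =
        residue (Localization.AtPrime q.asIdeal) (algebraMap B _ x) := by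
    intro q x a ha
    show residue _ (algebraMap A (Localization.AtPrime q.asIdeal) a) = _
    rw [IsScalarTower.algebraMap_apply A B, eq_comm, ← sub_eq_zero, ← map_sub, ← map_sub, residue_eq_zero_iff,
      IsLocalization.AtPrime.to_map_mem_maximal_iff _ q.asIdeal]
    exact ha
  have mulf : ∀ {f f' : B} {g : A}, f ≠ 0 → f' ≠ 0 → g ≠ 0 → NormSymbol f g → NormSymbol f' g → NormSymbol (f * f') g := by
    rintro f f' g hf hf' hg ⟨t, ht, hp⟩ ⟨t', ht', hp'⟩
    refine ⟨t * t', fun q => ?_, ?_⟩
    · rw [Pi.mul_apply, map_mul, ht q, ht' q, map_mul (algebraMap B _) f f',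
        tameSymbol_mul_left (hdim q) (hreg q f hf) (hreg q f' hf') (hreg q _ (hgB hg))]
    · simp only [Pi.mul_apply]
      rw [Finset.prod_mul_distrib, hp, hp', map_mul (Algebra.norm A) f f',
        tameSymbol_mul_left hA (hN hf) (hN hf') (mem_nonZeroDivisors_of_ne_zero hg)]
  have mulg : ∀ {f : B} {g g' : A}, f ≠ 0 → g ≠ 0 → g' ≠ 0 → NormSymbol f g → NormSymbol f g' → NormSymbol f (g * g') := by
    rintro f g g' hf hg hg' ⟨t, ht, hp⟩ ⟨t', ht', hp'⟩
    refine ⟨t * t', fun q => ?_, ?_⟩
    · rw [Pi.mul_apply, map_mul, ht q, ht' q, map_mul (algebraMap A B) g g', map_mul (algebraMap B _) (algebraMap A B g),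
        tameSymbol_mul_right (hdim q) (hreg q f hf) (hreg q _ (hgB hg)) (hreg q _ (hgB hg'))]
    · simp only [Pi.mul_apply]
      rw [Finset.prod_mul_distrib, hp, hp',
        tameSymbol_mul_right hA (hN hf) (mem_nonZeroDivisors_of_ne_zero hg) (mem_nonZeroDivisors_of_ne_zero hg')]
  -- units against units
  have huu : ∀ {f : B} {g : A}, IsUnit f → IsUnit g → NormSymbol f g := by
    intro f g hf hg
    refine ⟨1, fun q => ?_, ?_⟩
    · rw [Pi.one_apply, map_one, tameSymbol_of_isUnit (hf.map _) ((hg.map _).map _)]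
    · rw [tameSymbol_of_isUnit (hf.map (Algebra.norm A)) hg]
      exact Finset.prod_const_one
  -- units against the uniformizer
  have hup : ∀ {f : B}, IsUnit f → NormSymbol f ϖ := by
    intro f hf
    choose a ha using fun q => hres q f
    refine ⟨fun q => residue A (a q) ^ (Ring.ord (Localization.AtPrime q.asIdeal) (algebraMap B _ (algebraMap A B ϖ))).toNat,
      fun q => ?_, ?_⟩
    · rw [map_pow, hrmap q f (a q) (ha q), tameSymbol_unit_left (hdim q) (hf.map _) (hreg q _ hϖB)]
      rfl
    rw [tameSymbol_unit_left hA (hf.map (Algebra.norm A)) (mem_nonZeroDivisors_of_ne_zero hϖ.ne_zero)]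
    let F := B ⧸ Ideal.span {algebraMap A B ϖ}
    let bas := Module.finBasis A B
    let b : Fin (Module.finrank A B) → F := fun i => Ideal.Quotient.mk _ (bas i)
    have hb : ∀ c : Fin (Module.finrank A B) → A, ∑ i, c i • b i = Ideal.Quotient.mk _ (∑ i, c i • bas i) := fun c => by
      rw [map_sum]; rfl
    have hspan : Submodule.span A (Set.range b) = ⊤ := by
      refine eq_top_iff.mpr fun y _ => ?_
      obtain ⟨x, rfl⟩ := Ideal.Quotient.mk_surjective y
      rw [← bas.sum_repr x, ← hb]
      exact Submodule.sum_mem _ fun i _ => Submodule.smul_mem _ _ (Submodule.subset_span ⟨i, rfl⟩)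
    have hind : ∀ c : Fin (Module.finrank A B) → A, ∑ i, c i • b i = 0 ↔ ∀ i, c i ∈ Ideal.span {ϖ} := by
      intro c
      rw [hb, Ideal.Quotient.eq_zero_iff_mem, Ideal.mem_span_singleton]
      constructor
      · rintro ⟨z, hz⟩ i
        refine Ideal.mem_span_singleton.mpr ⟨bas.repr z i, ?_⟩
        rw [← Algebra.smul_def] at hz
        have := congrArg (fun x => bas.repr x i) hz
        simpa [Finsupp.single_apply, map_sum] using this
      · intro h
        refine Finset.dvd_sum fun i _ => ?_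
        obtain ⟨d, hd⟩ := Ideal.mem_span_singleton.mp (h i)
        rw [hd, Algebra.smul_def, map_mul, mul_assoc]
        exact dvd_mul_right _ _
    have hphi := phi_of_basis A b (Ideal.span {ϖ}) (by rw [Ne, Ideal.span_singleton_eq_top]; exact hϖ.not_isUnit)
      (by rw [hϖ1]; exact ENat.one_ne_top) hspan hind f (Algebra.leftMulMatrix bas f) (fun j => by
        rw [hb]
        show Ideal.Quotient.mk _ f * Ideal.Quotient.mk _ (bas j) = _
        rw [← map_mul]
        congr 1
        conv_lhs => rw [← bas.sum_repr (f * bas j)]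
        refine Finset.sum_congr rfl fun i _ => ?_
        rw [Algebra.leftMulMatrix_eq_repr_mul])
    rw [← Algebra.norm_eq_matrix_det bas] at hphi
    rw [← hphi, phi]
    refine Finset.prod_congr rfl fun q _ => ?_
    haveI := hloc q
    have hbij : Function.Bijective (algebraMap (ResidueField A) q.asIdeal.ResidueField) := by
      refine ⟨RingHom.injective _, fun y => ?_⟩
      haveI := q.isMaximal
      obtain ⟨x, rfl⟩ := q.asIdeal.algebraMap_residueField_surjective y
      obtain ⟨a', ha'⟩ := hres q x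
      exact ⟨residue A a', hrmap q x a' ha'⟩
    have hfin : Module.finrank (ResidueField A) q.asIdeal.ResidueField = 1 :=
      (LinearEquiv.ofBijective (Algebra.linearMap (ResidueField A) q.asIdeal.ResidueField) hbij).finrank_eq.symm.trans
        (Module.finrank_self _)
    have hfa : algebraMap B q.asIdeal.ResidueField f = algebraMap (ResidueField A) q.asIdeal.ResidueField (residue A (a q)) :=
      (hrmap q f (a q) (ha q)).symm
    rw [hfa, Algebra.norm_algebraMap, hfin, pow_one, len_span_singleton]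
  -- a prime which is congruent to one away from itself
  have hprime : ∀ {θ w : B} {n : ℕ}, Prime θ → ¬ θ ∣ w → algebraMap A B ϖ = w * θ ^ (n + 1) →
      θ - 1 ∈ Ideal.span {w} → ∀ {g : A}, g ≠ 0 → NormSymbol θ g := by
    intro θ w n hθ hθw hfac hθ1 g hg
    have hmax : (Ideal.span {θ}).IsMaximal :=
      ((Ideal.span_singleton_prime hθ.ne_zero).mpr hθ).isMaximal (by rw [Ne, Ideal.span_singleton_eq_bot]; exact hθ.ne_zero)
    let q₀ : MaximalSpectrum B := ⟨Ideal.span {θ}, hmax⟩
    have hw0 : w ≠ 0 := fun h => hθw (h ▸ dvd_zero θ)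
    obtain ⟨U, hU, hUa⟩ := norm_uniformizer hϖ hθ hθw hfac hθ1 (hres q₀)
    obtain ⟨a, ha⟩ := hres q₀ w
    have hUu : IsUnit U := by
      by_contra h
      have := hUa a ha
      rw [(residue_eq_zero_iff U).mpr ((mem_maximalIdeal U).mpr h), zero_mul] at this
      exact pow_ne_zero n (neg_ne_zero.mpr one_ne_zero) this.symm
    have ha0 : residue A a ≠ 0 := fun h => by
      have := hUa a ha
      rw [h, mul_zero] at this
      exact pow_ne_zero n (neg_ne_zero.mpr one_ne_zero) this.symm
    have hθunit : ∀ q : MaximalSpectrum B, q ≠ q₀ → θ ∉ q.asIdeal := fun q hq h => hq (MaximalSpectrum.ext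
      (hmax.eq_of_le q.isMaximal.ne_top ((Ideal.span_singleton_le_iff_mem _).mpr h)).symm)
    have hθres : ∀ q : MaximalSpectrum B, q ≠ q₀ → residue (Localization.AtPrime q.asIdeal) (algebraMap B _ θ) = 1 := by
      intro q hq
      haveI := q.isMaximal
      have hwq : w ∈ q.asIdeal := by
        have := hϖq q
        rw [hfac] at this
        exact (q.isMaximal.isPrime.mem_or_mem this).resolve_right fun h => hθunit q hq (q.isMaximal.isPrime.mem_of_pow_mem _ h)
      rw [← sub_eq_zero, ← map_one (residue _), ← map_one (algebraMap B (Localization.AtPrime q.asIdeal)), ← map_sub, ← map_sub,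
        residue_eq_zero_iff, IsLocalization.AtPrime.to_map_mem_maximal_iff _ q.asIdeal]
      exact (Ideal.span_singleton_le_iff_mem _).mpr hwq hθ1
    have hθq : ∀ q : MaximalSpectrum B, q ≠ q₀ → IsUnit (algebraMap B (Localization.AtPrime q.asIdeal) θ) := fun q hq =>
      IsLocalization.map_units (Localization.AtPrime q.asIdeal) (⟨θ, hθunit q hq⟩ : q.asIdeal.primeCompl)
    have h₀ : Module.length (Localization.AtPrime q₀.asIdeal) (Localization.AtPrime q₀.asIdeal ⧸
        Ideal.span {algebraMap B (Localization.AtPrime q₀.asIdeal) θ}) = 1 := length_quotient_span_eq_one (by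
      have := IsLocalization.AtPrime.map_eq_maximalIdeal q₀.asIdeal (Localization.AtPrime q₀.asIdeal)
      rwa [Ideal.map_span, Set.image_singleton] at this)
    have hθu : NormSymbol θ ϖ := by
      refine ⟨fun q => if q = q₀ then (-1) ^ (n + 1) * (residue A a)⁻¹ else 1, fun q => ?_, ?_⟩
      · show algebraMap _ _ (ite _ _ _) = _
        by_cases hq : q = q₀
        · subst hq
          rw [if_pos rfl, map_mul, map_pow, map_neg, map_one, map_inv₀, hrmap q₀ w a ha, hfac, map_mul, map_pow]
          have hw : IsUnit (algebraMap B (Localization.AtPrime q₀.asIdeal) w) :=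
            IsLocalization.map_units (Localization.AtPrime q₀.asIdeal)
              (⟨w, fun h => hθw (Ideal.mem_span_singleton.mp h)⟩ : q₀.asIdeal.primeCompl)
          rw [tameSymbol_mul_right (hdim q₀) (hreg q₀ θ hθ.ne_zero) hw.mem_nonZeroDivisors (pow_mem (hreg q₀ θ hθ.ne_zero) _),
            tameSymbol_unit_right (hdim q₀) hw (hreg q₀ θ hθ.ne_zero), h₀, ENat.toNat_one, pow_one,
            tameSymbol_pow_right (hdim q₀) (hreg q₀ θ hθ.ne_zero) (hreg q₀ θ hθ.ne_zero),
            tameSymbol_self_one (hdim q₀) (hreg q₀ θ hθ.ne_zero) h₀]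
          ring
        · rw [if_neg hq, map_one, tameSymbol_unit_left (hdim q) (hθq q hq) (hreg q _ hϖB), hθres q hq, one_pow]
      · have hϖm := mem_nonZeroDivisors_of_ne_zero hϖ.ne_zero
        rw [Finset.prod_ite_eq' Finset.univ q₀, if_pos (Finset.mem_univ _), hU,
          tameSymbol_mul_left hA hϖm hUu.mem_nonZeroDivisors hϖm, tameSymbol_self_one hA hϖm hϖ1,
          tameSymbol_unit_left hA hUu hϖm, hϖ1, ENat.toNat_one, pow_one]
        have := hUa a ha
        field_simp
        rw [pow_succ]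
        linear_combination this
    have hθc : ∀ {c : A}, IsUnit c → NormSymbol θ c := by
      intro c hc
      refine ⟨fun q => if q = q₀ then (residue A c)⁻¹ else 1, fun q => ?_, ?_⟩
      · have hc0 : algebraMap A B c - algebraMap A B c ∈ q.asIdeal := by rw [sub_self]; exact zero_mem _
        show algebraMap _ _ (ite _ _ _) = _
        by_cases hq : q = q₀
        · subst hq
          rw [if_pos rfl, map_inv₀, hrmap q₀ _ c hc0,
            tameSymbol_unit_right (hdim q₀) ((hc.map _).map _) (hreg q₀ θ hθ.ne_zero), h₀, ENat.toNat_one, pow_one]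
        · rw [if_neg hq, map_one, tameSymbol_of_isUnit (hθq q hq) ((hc.map _).map _)]
      · have hϖm := mem_nonZeroDivisors_of_ne_zero hϖ.ne_zero
        rw [Finset.prod_ite_eq' Finset.univ q₀, if_pos (Finset.mem_univ _), hU,
          tameSymbol_mul_left hA hϖm hUu.mem_nonZeroDivisors hc.mem_nonZeroDivisors, tameSymbol_of_isUnit hUu hc, mul_one,
          tameSymbol_unit_right hA hc hϖm, hϖ1, ENat.toNat_one, pow_one]
    obtain ⟨k, c, rfl⟩ := IsDiscreteValuationRing.eq_unit_mul_pow_irreducible hg hϖ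
    refine mulg hθ.ne_zero c.ne_zero (pow_ne_zero k hϖ.ne_zero) (hθc c.isUnit) ?_
    clear hg
    induction k with
    | zero => rw [pow_zero]; exact hθc isUnit_one
    | succ k ih => rw [pow_succ]; exact mulg hθ.ne_zero (pow_ne_zero k hϖ.ne_zero) hϖ.ne_zero ih hθu
  have hunit : ∀ {f : B}, IsUnit f → ∀ {g : A}, g ≠ 0 → NormSymbol f g := by
    intro f hf g hg
    obtain ⟨k, c, rfl⟩ := IsDiscreteValuationRing.eq_unit_mul_pow_irreducible hg hϖ
    refine mulg hf.ne_zero c.ne_zero (pow_ne_zero k hϖ.ne_zero) (huu hf c.isUnit) ?_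
    clear hg
    induction k with
    | zero => rw [pow_zero]; exact huu hf isUnit_one
    | succ k ih => rw [pow_succ]; exact mulg hf.ne_zero (pow_ne_zero k hϖ.ne_zero) hϖ.ne_zero ih (hup hf)
  induction f using UniqueFactorizationMonoid.induction_on_prime with
  | h₁ => exact absurd rfl hf
  | h₂ x hx => exact hunit hx hg
  | h₃ x p hx hp ih =>
    refine mulf hp.ne_zero hx hg ?_ (ih hx)
    haveI : Ideal.IsPrime (Ideal.span {p}) := (Ideal.span_singleton_prime hp.ne_zero).mpr hp
    have hmax : (Ideal.span {p}).IsMaximal :=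
      Ideal.IsPrime.isMaximal inferInstance (by rw [Ne, Ideal.span_singleton_eq_bot]; exact hp.ne_zero)
    have hpd : p ∣ algebraMap A B ϖ := Ideal.mem_span_singleton.mp (hϖq ⟨_, hmax⟩)
    obtain ⟨e, w, hpw, hw⟩ := WfDvdMonoid.max_power_factor hϖB hp.irreducible
    obtain ⟨n, rfl⟩ : ∃ n, e = n + 1 := by
      cases e with
      | zero => rw [pow_zero, one_mul] at hw; exact absurd (hw ▸ hpd) hpw
      | succ n => exact ⟨n, rfl⟩
    obtain ⟨α, β, hab⟩ := (hp.irreducible.coprime_iff_not_dvd (n := w)).mpr hpw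
    -- a unit which inverts `p` modulo `w`
    obtain ⟨κ, hκ⟩ : ∃ κ : B, α + κ * w ∉ Ideal.span {p} := by
      by_cases hα : α ∈ Ideal.span {p}
      · refine ⟨1, fun h => hpw (Ideal.mem_span_singleton.mp ?_)⟩
        have := Ideal.sub_mem _ h hα
        rwa [one_mul, add_sub_cancel_left] at this
      · exact ⟨0, by rwa [zero_mul, add_zero]⟩
    have hs : IsUnit (α + κ * w) := by
      by_contra hs
      obtain ⟨q, hq, hsq⟩ := exists_max_ideal_of_mem_nonunits hs
      have h1 : algebraMap A B ϖ ∈ q := hϖq ⟨q, hq⟩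
      rw [hw] at h1
      rcases hq.isPrime.mem_or_mem h1 with h | h
      · exact hκ (hmax.eq_of_le hq.ne_top ((Ideal.span_singleton_le_iff_mem _).mpr (hq.isPrime.mem_of_pow_mem _ h)) ▸ hsq)
      · exact hq.ne_top (q.eq_top_iff_one.mpr (by
          rw [← hab]
          exact q.add_mem (q.mul_mem_right _ (by simpa using q.sub_mem hsq (q.mul_mem_left κ h))) (q.mul_mem_left _ h)))
    obtain ⟨s, hs'⟩ := hs
    have hθ : Prime ((s : B) * p) := (associated_unit_mul_right p (s : B) s.isUnit).prime hp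
    have key : NormSymbol ((s : B) * p) g :=
      hprime (n := n) (w := w * (↑s⁻¹ : B) ^ (n + 1)) hθ
        (fun h => hpw (((s⁻¹).isUnit.pow _).dvd_mul_right.mp ((dvd_mul_left p _).trans h)))
        (by rw [hw, mul_assoc, ← mul_pow, Units.inv_mul_cancel_left, mul_comm])
        (by
          rw [Ideal.span_singleton_mul_right_unit ((s⁻¹).isUnit.pow _)]
          exact Ideal.mem_span_singleton.mpr ⟨κ * p - β, by rw [hs']; linear_combination hab⟩)
        hg
    have := mulf (s⁻¹).ne_zero hθ.ne_zero hg (hunit (s⁻¹).isUnit hg) key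
    rwa [← mul_assoc, Units.inv_mul, one_mul] at this

/-- The tame symbol of a norm. -/
theorem prod_tameSymbol (hinj : Function.Injective (algebraMap A B))
    (hres : ∀ (q : MaximalSpectrum B) (x : B), ∃ a : A, x - algebraMap A B a ∈ q.asIdeal)
    {f : B} (hf : f ≠ 0) {g : A} (hg : g ≠ 0) (t : MaximalSpectrum B → ResidueField A)
    (ht : ∀ q, (haveI := hloc q; algebraMap (ResidueField A) (ResidueField (Localization.AtPrime q.asIdeal)) (t q)) =
      tameSymbol (Localization.AtPrime q.asIdeal) (algebraMap B _ f) (algebraMap B _ (algebraMap A B g))) :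
    ∏ q, t q = tameSymbol A (Algebra.norm A f) g := by
  obtain ⟨t', ht', hp⟩ := normSymbol hinj hres hf hg
  have : t = t' := funext fun q => by
    haveI := hloc q
    exact (algebraMap (ResidueField A) (ResidueField (Localization.AtPrime q.asIdeal))).injective ((ht q).trans (ht' q).symm)
  rw [this, hp]

end norm

end Groth.Agent.H3CAlg.Tame
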