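import Groth.Agent.H3CAlg.Tame.Degree
import Mathlib

/-!
# The local factors of the tame symbol
-/

set_option autoImplicit false
set_option linter.style.haveILetI false
set_option linter.unusedSectionVars false
universe u

open IsLocalRing
open scoped nonZeroDivisors

namespace Groth.Agent.H3CAlg.Tame

section loc

variable {L : Type u} [CommRing L] [IsLocalRing L]

/-- The residue class `(-1)^{e₁e₂} u₁^{e₂} / u₂^{e₁}`. -/
noncomputable def rsym (u₁ u₂ : Lˣ) (e₁ e₂ : ℕ) : ResidueField L :=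
  (-1 : ResidueField L) ^ (e₁ * e₂) * residue L (u₁ : L) ^ e₂ * (residue L (u₂ : L) ^ e₁)⁻¹

theorem residue_ne_zero (u : Lˣ) : residue L (u : L) ≠ 0 := (u.isUnit.map (residue L)).ne_zero

theorem rsym_ne_zero (u₁ u₂ : Lˣ) (e₁ e₂ : ℕ) : rsym u₁ u₂ e₁ e₂ ≠ 0 :=
  mul_ne_zero (mul_ne_zero (pow_ne_zero _ (neg_ne_zero.mpr one_ne_zero)) (pow_ne_zero _ (residue_ne_zero u₁)))
    (inv_ne_zero (pow_ne_zero _ (residue_ne_zero u₂)))

theorem ord_toNat_eq_zero_of_isUnit {π : L} (h : IsUnit π) : (Ring.ord L π).toNat = 0 := by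
  rw [Ring.ord_of_isUnit h, ENat.toNat_zero]

theorem eq_zero_of_isUnit_mul_pow {π : L} (hπ : ¬ IsUnit π) (u : Lˣ) (e : ℕ) (h : IsUnit ((u : L) * π ^ e)) :
    e = 0 := by
  by_contra he
  exact hπ ((isUnit_pow_iff he).mp (isUnit_of_mul_isUnit_right h))

theorem rsym_pow_eq_one (π : L) (u₁ u₂ : Lˣ) (e₁ e₂ : ℕ) (h₁ : IsUnit ((u₁ : L) * π ^ e₁))
    (h₂ : IsUnit ((u₂ : L) * π ^ e₂)) : rsym u₁ u₂ e₁ e₂ ^ (Ring.ord L π).toNat = 1 := by
  by_cases hπ : IsUnit π
  · rw [ord_toNat_eq_zero_of_isUnit hπ, pow_zero]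
  · rw [eq_zero_of_isUnit_mul_pow hπ u₁ e₁ h₁, eq_zero_of_isUnit_mul_pow hπ u₂ e₂ h₂]
    simp [rsym]

theorem ord_mul_pow {π : L} (hπ : π ∈ L⁰) (hfin : Ring.ord L π ≠ ⊤) (u : Lˣ) (e : ℕ) :
    Ring.ord L ((u : L) * π ^ e) = ((e * (Ring.ord L π).toNat : ℕ) : ℕ∞) := by
  rw [Ring.ord_mul_of_isUnit_left u.isUnit, Ring.ord_pow hπ, nsmul_eq_mul, Nat.cast_mul, ENat.natCast_toNat hfin]

theorem neg_one_pow_parity {R : Type u} [CommRing R] (p q n m g g' : ℕ) (h : g * n = g' * m) :
    (-1 : R) ^ (g * p * (g * q) * n) = (-1) ^ (g' * p * (g' * q) * m) := by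
  rw [neg_one_pow_eq_pow_mod_two (R := R), neg_one_pow_eq_pow_mod_two (R := R) (g' * p * (g' * q) * m)]
  congr 1
  have e1 : g * p * (g * q) * n = (g * n) * (g * (p * q)) := by ring
  have e2 : g' * p * (g' * q) * m = (g' * m) * (g' * (p * q)) := by ring
  rw [e1, e2, ← h, Nat.mul_mod, Nat.mul_mod (g * n) (g' * (p * q))]
  rcases Nat.mod_two_eq_zero_or_one (g * n) with h0 | h1
  · rw [h0, zero_mul, zero_mul]
  · have hg : g % 2 = 1 := Nat.odd_iff.mp (Nat.odd_iff.mpr h1 |> Nat.Odd.of_mul_left)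
    have hg' : g' % 2 = 1 := Nat.odd_iff.mp ((Nat.odd_iff.mpr (h ▸ h1)) |> Nat.Odd.of_mul_left)
    simp [Nat.mul_mod, hg, hg']

/-- In one local ring the local factor does not depend on the factorizations. -/
theorem rsym_pow_unique {π θ : L} (hπ : π ∈ L⁰) (hθ : θ ∈ L⁰) (hπf : Ring.ord L π ≠ ⊤)
    (hθf : Ring.ord L θ ≠ ⊤) (u₁ u₂ v₁ v₂ : Lˣ) (e₁ e₂ f₁ f₂ : ℕ)
    (h₁ : (u₁ : L) * π ^ e₁ = v₁ * θ ^ f₁) (h₂ : (u₂ : L) * π ^ e₂ = v₂ * θ ^ f₂) :
    rsym u₁ u₂ e₁ e₂ ^ (Ring.ord L π).toNat = rsym v₁ v₂ f₁ f₂ ^ (Ring.ord L θ).toNat := by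
  by_cases hun : IsUnit ((u₁ : L) * π ^ e₁) ∧ IsUnit ((u₂ : L) * π ^ e₂)
  · rw [rsym_pow_eq_one π u₁ u₂ e₁ e₂ hun.1 hun.2,
      rsym_pow_eq_one θ v₁ v₂ f₁ f₂ (h₁ ▸ hun.1) (h₂ ▸ hun.2)]
  have hn1 : e₁ * (Ring.ord L π).toNat = f₁ * (Ring.ord L θ).toNat := by
    have := ord_mul_pow hπ hπf u₁ e₁
    rw [h₁, ord_mul_pow hθ hθf v₁ f₁] at this
    exact_mod_cast this.symm
  have hn2 : e₂ * (Ring.ord L π).toNat = f₂ * (Ring.ord L θ).toNat := by
    have := ord_mul_pow hπ hπf u₂ e₂
    rw [h₂, ord_mul_pow hθ hθf v₂ f₂] at this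
    exact_mod_cast this.symm
  have hunit : ∀ {ρ : L}, ρ ∈ L⁰ → Ring.ord L ρ ≠ ⊤ → (Ring.ord L ρ).toNat = 0 → IsUnit ρ := by
    intro ρ _ hf h0
    have : Ring.ord L ρ = 0 := by rw [← ENat.natCast_toNat hf, h0]; rfl
    haveI hs := Module.length_eq_zero_iff.mp this
    exact Ideal.span_singleton_eq_top.mp (Ideal.Quotient.subsingleton_iff.mp hs)
  obtain ⟨n, hn⟩ : ∃ n, (Ring.ord L π).toNat = n := ⟨_, rfl⟩
  obtain ⟨m, hm⟩ : ∃ m, (Ring.ord L θ).toNat = m := ⟨_, rfl⟩
  rw [hn, hm] at hn1 hn2 ⊢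
  have hn0 : n ≠ 0 := fun h => hun
    ⟨u₁.isUnit.mul ((hunit hπ hπf (hn.trans h)).pow _), u₂.isUnit.mul ((hunit hπ hπf (hn.trans h)).pow _)⟩
  have hm0 : m ≠ 0 := by
    intro h
    subst h
    rw [mul_zero, mul_eq_zero] at hn1 hn2
    exact hun ⟨by rw [hn1.resolve_right hn0]; simp, by rw [hn2.resolve_right hn0]; simp⟩
  have hcross : f₁ * e₂ = f₂ * e₁ := by
    refine Nat.eq_of_mul_eq_mul_right (Nat.pos_of_ne_zero hm0) ?_
    rw [mul_right_comm, ← hn1, mul_right_comm f₂, ← hn2]
    ring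
  obtain ⟨p, q, hpq, hp, hq⟩ := Nat.exists_coprime e₁ e₂
  set g := Nat.gcd e₁ e₂
  have hg0 : g ≠ 0 := by
    intro h
    rw [h, mul_zero] at hp hq
    exact hun ⟨by rw [hp]; simp, by rw [hq]; simp⟩
  obtain ⟨g', hp', hq'⟩ : ∃ g', f₁ = p * g' ∧ f₂ = q * g' := by
    have h3 : f₁ * q = f₂ * p := by
      refine Nat.eq_of_mul_eq_mul_right (Nat.pos_of_ne_zero hg0) ?_
      rw [mul_assoc, mul_assoc, ← hp, ← hq, hcross]
    rcases Nat.eq_zero_or_pos p with h0 | h0
    · subst h0
      rw [Nat.coprime_zero_left] at hpq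
      subst hpq
      exact ⟨f₂, by rw [zero_mul]; simpa using h3, by rw [one_mul]⟩
    · obtain ⟨k, rfl⟩ : p ∣ f₁ := hpq.dvd_of_dvd_mul_right ⟨f₂, by rw [h3, mul_comm]⟩
      exact ⟨k, rfl, Nat.eq_of_mul_eq_mul_left h0 (by rw [mul_comm p f₂, ← h3]; ring)⟩
  have hD : g * n = g' * m := by
    rcases Nat.eq_zero_or_pos p with h0 | h0
    · subst h0
      rw [Nat.coprime_zero_left] at hpq
      subst hpq
      rw [hq, hq', one_mul, one_mul] at hn2
      exact hn2
    · rw [hp, hp', mul_assoc, mul_assoc] at hn1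
      exact Nat.eq_of_mul_eq_mul_left h0 hn1
  -- the exact relation between the units
  have hex : (u₁ : L) ^ q * (v₂ : L) ^ p = (v₁ : L) ^ q * (u₂ : L) ^ p := by
    have hz : π ^ (g * p * q) * θ ^ (g' * p * q) ∈ L⁰ := mul_mem (pow_mem hπ _) (pow_mem hθ _)
    refine (mem_nonZeroDivisors_iff_right.mp hz _ ?_ |> sub_eq_zero.mp)
    have E1 : ((u₁ : L) * π ^ e₁) ^ q * ((v₂ : L) * θ ^ f₂) ^ p = ((v₁ : L) * θ ^ f₁) ^ q * ((u₂ : L) * π ^ e₂) ^ p := by
      rw [h₁, h₂]
    rw [hp, hq, hp', hq'] at E1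
    simp only [mul_pow, ← pow_mul] at E1
    rw [show p * g * q = g * p * q by ring, show q * g' * p = g' * p * q by ring,
      show p * g' * q = g' * p * q by ring, show q * g * p = g * p * q by ring] at E1
    linear_combination E1
  have hX : residue L (u₁ : L) ^ q * (residue L (u₂ : L) ^ p)⁻¹ = residue L (v₁ : L) ^ q * (residue L (v₂ : L) ^ p)⁻¹ := by
    have := congrArg (residue L) hex
    simp only [map_mul, map_pow] at this
    rw [← div_eq_mul_inv, ← div_eq_mul_inv, div_eq_div_iff (pow_ne_zero _ (residue_ne_zero u₂)) (pow_ne_zero _ (residue_ne_zero v₂))]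
    exact this
  have key : ∀ (a b : Lˣ) (G N : ℕ), rsym a b (p * G) (q * G) ^ N =
      (-1 : ResidueField L) ^ (G * p * (G * q) * N) * (residue L (a : L) ^ q * (residue L (b : L) ^ p)⁻¹) ^ (G * N) := by
    intro a b G N
    simp only [rsym, mul_pow, inv_pow, ← pow_mul]
    rw [show p * G * (q * G) * N = G * p * (G * q) * N by ring, show q * G * N = q * (G * N) by ring,
      show p * G * N = p * (G * N) by ring, mul_assoc]
  rw [hp, hq, hp', hq', key, key, hX, hD, neg_one_pow_parity p q n m g g' hD]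

theorem rsym_mul_left (u u' v : Lˣ) (e e' f : ℕ) :
    rsym (u * u') v (e + e') f = rsym u v e f * rsym u' v e' f := by
  simp only [rsym, Units.val_mul, map_mul, add_mul, pow_add, mul_pow, mul_inv]
  ring

theorem rsym_mul_right (u u' v : Lˣ) (e e' f : ℕ) :
    rsym v (u * u') f (e + e') = rsym v u f e * rsym v u' f e' := by
  simp only [rsym, Units.val_mul, map_mul, mul_add, pow_add, mul_pow, mul_inv]
  ring

theorem rsym_self (u : Lˣ) (e : ℕ) : rsym u u e e = (-1 : ResidueField L) ^ e := by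
  rw [rsym, mul_assoc, mul_inv_cancel₀ (pow_ne_zero _ (residue_ne_zero u)), mul_one]
  rcases Nat.even_or_odd e with h | h
  · rw [h.neg_one_pow, (h.mul_right e).neg_one_pow]
  · rw [h.neg_one_pow, (h.mul h).neg_one_pow]

theorem rsym_steinberg {π : L} (hπ : π ∈ L⁰) (hπu : ¬ IsUnit π) (u v w : Lˣ) (e f g : ℕ)
    (h : (v : L) * π ^ f - u * π ^ e = w * π ^ g) :
    rsym u w e g * rsym v v f f = rsym v w f g * rsym u v e f := by
  have hπm : residue L π = 0 := (residue_eq_zero_iff π).mpr ((mem_maximalIdeal π).mpr hπu)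
  have cancel : ∀ (x : L) (k : ℕ), x * π ^ k = 0 → x = 0 := fun x k hx => mem_nonZeroDivisors_iff_right.mp (pow_mem hπ k) x hx
  have hu := residue_ne_zero u
  have hv := residue_ne_zero v
  have hw := residue_ne_zero w
  have hcmp : ∀ (a b : L) (i j : ℕ), i < j → a * π ^ i = b * π ^ j → residue L a = 0 := by
    intro a b i j hij hab
    have h0 := cancel (a - b * π ^ (j - i)) i (by
      rw [sub_mul, mul_assoc, ← pow_add, Nat.sub_add_cancel hij.le, hab, sub_self])
    rw [sub_eq_zero] at h0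
    rw [h0, map_mul, map_pow, hπm, zero_pow (by omega), mul_zero]
  rw [rsym_self]
  rcases lt_trichotomy e f with hef | rfl | hef
  · have hge : g = e := by
      rcases lt_trichotomy g e with hlt | heq | hgt
      · exact absurd (hcmp (w : L) ((v : L) * π ^ (f - e) - u) g e hlt (by
          rw [sub_mul, mul_assoc, ← pow_add, Nat.sub_add_cancel hef.le, h])) hw
      · exact heq
      · exact absurd (hcmp (-(u : L)) (w * π ^ (g - e) - v * π ^ (f - e)) e (e + 1) (Nat.lt_succ_self e) |> fun _ => by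
          have := cancel ((v : L) * π ^ (f - e) - u - w * π ^ (g - e)) e (by
            rw [sub_mul, sub_mul, mul_assoc, ← pow_add, Nat.sub_add_cancel hef.le, mul_assoc (w : L), ← pow_add, Nat.sub_add_cancel hgt.le, h, sub_self])
          have := congrArg (residue L) this
          simpa [hπm, zero_pow (by omega : f - e ≠ 0), zero_pow (by omega : g - e ≠ 0)] using this) hu
    subst hge
    have hwu : residue L (w : L) = -residue L (u : L) := by
      have := cancel ((v : L) * π ^ (f - g) - u - w) g (by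
        rw [sub_mul, sub_mul, mul_assoc, ← pow_add, Nat.sub_add_cancel hef.le, h, sub_self])
      have := congrArg (residue L) this
      simp only [map_sub, map_mul, map_pow, hπm, zero_pow (by omega : f - g ≠ 0), mul_zero, map_zero] at this
      linear_combination -this
    simp only [rsym, hwu]
    rw [neg_pow (residue L (u : L)) g, neg_pow (residue L (u : L)) f]
    field_simp
    rcases Nat.even_or_odd f with hf | hf <;> rcases Nat.even_or_odd g with hg | hg <;>
      simp [hf.neg_one_pow, hg.neg_one_pow, Nat.even_mul, hf, hg, Nat.even_iff.not, parity_simps,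
        Nat.not_even_iff_odd, ← mul_pow, pow_mul]
  · rcases lt_trichotomy g e with hlt | rfl | hgt
    · exact absurd (hcmp (w : L) ((v : L) - u) g e hlt (by rw [sub_mul, h])) hw
    · simp only [rsym]
      field_simp
      rcases Nat.even_or_odd g with he | he
      · rw [he.neg_one_pow, (he.mul_right g).neg_one_pow]
      · rw [he.neg_one_pow, (he.mul he).neg_one_pow]
    · have huv : residue L (v : L) = residue L (u : L) := by
        have := cancel ((v : L) - u - w * π ^ (g - e)) e (by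
          rw [sub_mul, sub_mul, mul_assoc, ← pow_add, Nat.sub_add_cancel hgt.le, h, sub_self])
        have := congrArg (residue L) this
        simp only [map_sub, map_mul, map_pow, hπm, zero_pow (by omega : g - e ≠ 0), mul_zero, map_zero] at this
        linear_combination this
      simp only [rsym, huv]
      rw [mul_assoc ((-1 : ResidueField L) ^ (e * e)) _ _, mul_inv_cancel₀ (pow_ne_zero _ hu), mul_one]
      congr 1
      rcases Nat.even_or_odd e with he | he
      · rw [he.neg_one_pow, (he.mul_right e).neg_one_pow]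
      · rw [he.neg_one_pow, (he.mul he).neg_one_pow]
  · have hgf : g = f := by
      rcases lt_trichotomy g f with hlt | heq | hgt
      · exact absurd (hcmp (w : L) ((v : L) - u * π ^ (e - f)) g f hlt (by
          rw [sub_mul, mul_assoc, ← pow_add, Nat.sub_add_cancel hef.le, h])) hw
      · exact heq
      · have := cancel ((v : L) - u * π ^ (e - f) - w * π ^ (g - f)) f (by
          rw [sub_mul, sub_mul, mul_assoc, ← pow_add, Nat.sub_add_cancel hef.le, mul_assoc (w : L), ← pow_add, Nat.sub_add_cancel hgt.le, h, sub_self])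
        have := congrArg (residue L) this
        simp only [map_sub, map_mul, map_pow, hπm, zero_pow (by omega : e - f ≠ 0), zero_pow (by omega : g - f ≠ 0), mul_zero, sub_zero, map_zero] at this
        exact absurd this hv
    subst hgf
    have hwv : residue L (w : L) = residue L (v : L) := by
      have := cancel ((v : L) - u * π ^ (e - g) - w) g (by
        rw [sub_mul, sub_mul, mul_assoc, ← pow_add, Nat.sub_add_cancel hef.le, h, sub_self])
      have := congrArg (residue L) this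
      simp only [map_sub, map_mul, map_pow, hπm, zero_pow (by omega : e - g ≠ 0), mul_zero, sub_zero, map_zero] at this
      linear_combination -this
    simp only [rsym, hwv]
    rw [mul_assoc ((-1 : ResidueField L) ^ (g * g)), mul_inv_cancel₀ (pow_ne_zero _ hv), mul_one]
    rcases Nat.even_or_odd g with hg | hg
    · rw [hg.neg_one_pow, (hg.mul_right g).neg_one_pow]; ring
    · rw [hg.neg_one_pow, (hg.mul hg).neg_one_pow]; ring

theorem map_rsym {L' : Type u} [CommRing L'] [IsLocalRing L'] (φ : L →+* L') [IsLocalHom φ]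
    (u₁ u₂ : Lˣ) (e₁ e₂ : ℕ) :
    ResidueField.map φ (rsym u₁ u₂ e₁ e₂) = rsym (Units.map φ.toMonoidHom u₁) (Units.map φ.toMonoidHom u₂) e₁ e₂ := by
  simp only [rsym, map_mul, map_pow, map_inv₀, map_neg, map_one, ResidueField.map_residue, Units.coe_map,
    RingHom.toMonoidHom_eq_coe, MonoidHom.coe_coe]

end loc

theorem ringEquiv_length_self {R S : Type u} [CommRing R] [CommRing S] (e : R ≃+* S) :
    Module.length R R = Module.length S S := by
  letI := e.toRingHom.toAlgebra
  rw [← Module.length_eq_of_surjective (R := S) (M := S) (S := R) e.surjective]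
  exact (LinearEquiv.ofBijective (Algebra.linearMap R S) e.bijective).length_eq

section norm

variable (A : Type u) [CommRing A] [IsLocalRing A] {L : Type u} [CommRing L] [IsLocalRing L] [Algebra A L]
  [IsLocalHom (algebraMap A L)]

/-- The local factor of the tame symbol. -/
noncomputable def fct (π : L) (u₁ u₂ : Lˣ) (e₁ e₂ : ℕ) : ResidueField A :=
  Algebra.norm (ResidueField A) (rsym u₁ u₂ e₁ e₂) ^ (Ring.ord L π).toNat

theorem fct_eq_norm_pow (π : L) (u₁ u₂ : Lˣ) (e₁ e₂ : ℕ) :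
    fct A π u₁ u₂ e₁ e₂ = Algebra.norm (ResidueField A) (rsym u₁ u₂ e₁ e₂ ^ (Ring.ord L π).toNat) :=
  (map_pow _ _ _).symm

theorem fct_ne_zero [FiniteDimensional (ResidueField A) (ResidueField L)] (π : L) (u₁ u₂ : Lˣ) (e₁ e₂ : ℕ) :
    fct A π u₁ u₂ e₁ e₂ ≠ 0 :=
  pow_ne_zero _ fun h => rsym_ne_zero u₁ u₂ e₁ e₂ (Algebra.norm_eq_zero_iff.mp h)

theorem fct_map {L' : Type u} [CommRing L'] [IsLocalRing L'] [Algebra A L']
    [IsLocalHom (algebraMap A L')] [Algebra L L'] [IsLocalHom (algebraMap L L')] [IsScalarTower A L L']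
    [FiniteDimensional (ResidueField A) (ResidueField L)] [FiniteDimensional (ResidueField L) (ResidueField L')]
    (π : L) (u₁ u₂ : Lˣ) (e₁ e₂ : ℕ) :
    fct A (algebraMap L L' π) (Units.map (algebraMap L L').toMonoidHom u₁)
        (Units.map (algebraMap L L').toMonoidHom u₂) e₁ e₂ =
      Algebra.norm (ResidueField A) (rsym u₁ u₂ e₁ e₂) ^
        (Module.finrank (ResidueField L) (ResidueField L') * (Ring.ord L' (algebraMap L L' π)).toNat) := by
  haveI : IsScalarTower (ResidueField A) (ResidueField L) (ResidueField L') := .of_algebraMap_eq fun x => by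
    obtain ⟨x, rfl⟩ := residue_surjective x
    exact congrArg (residue L') (IsScalarTower.algebraMap_apply A L L' x)
  rw [fct, ← map_rsym, pow_mul]
  congr 1
  rw [← map_pow]
  conv_lhs => rw [← Algebra.norm_norm (R := ResidueField A) (S := ResidueField L)]
  congr 1
  exact Algebra.norm_algebraMap _

theorem fct_congr {L' : Type u} [CommRing L'] [IsLocalRing L'] [Algebra A L']
    [IsLocalHom (algebraMap A L')] (e : L ≃ₐ[A] L') (π : L) (u₁ u₂ : Lˣ) (e₁ e₂ : ℕ) :
    fct A (e π) (Units.map (e : L →* L') u₁) (Units.map (e : L →* L') u₂) e₁ e₂ = fct A π u₁ u₂ e₁ e₂ := by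
  let φ : ResidueField L ≃ₐ[ResidueField A] ResidueField L' :=
    AlgEquiv.ofRingEquiv (f := ResidueField.mapEquiv e.toRingEquiv) fun x => by
      obtain ⟨x, rfl⟩ := residue_surjective x
      exact congrArg (residue L') (e.commutes x)
  have hord : Ring.ord L' (e π) = Ring.ord L π := by
    let q : (L ⧸ Ideal.span {π}) ≃+* (L' ⧸ Ideal.span {e π}) :=
      Ideal.quotientEquiv _ _ e.toRingEquiv (by rw [Ideal.map_span, Set.image_singleton]; rfl)
    letI := RingHomInvPair.of_ringEquiv e.toRingEquiv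
    exact (Module.length_eq_of_surjective (R := L' ⧸ Ideal.span {e π}) Ideal.Quotient.mk_surjective).trans
      ((ringEquiv_length_self q).symm.trans
        (Module.length_eq_of_surjective (R := L ⧸ Ideal.span {π}) Ideal.Quotient.mk_surjective).symm)
  rw [fct, fct, hord]
  congr 1
  rw [← Algebra.norm_eq_of_algEquiv φ (rsym u₁ u₂ e₁ e₂)]
  congr 1
  haveI : IsLocalHom (e.toRingEquiv : L →+* L') := inferInstance
  exact (map_rsym (e.toRingEquiv : L →+* L') u₁ u₂ e₁ e₂).symm

end norm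

end Groth.Agent.H3CAlg.Tame
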