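import Groth.Agent.H3CAlg.Tame.Phi
import Groth.Agent.H25Len
import Mathlib

/-!
# The weighted products of norms under a flat local base change
-/

set_option autoImplicit false
set_option linter.style.haveILetI false
set_option linter.unusedSectionVars false
universe u

open IsLocalRing TensorProduct
open scoped nonZeroDivisors

attribute [local instance] Algebra.TensorProduct.rightAlgebra

namespace Groth.Agent.H3CAlg.Tame

variable {A A' C : Type u} [CommRing A] [CommRing A'] [CommRing C] [IsNoetherianRing A] [IsLocalRing A]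
  [IsNoetherianRing A'] [IsLocalRing A'] [Algebra A A'] [IsLocalHom (algebraMap A A')] [Module.Flat A A']
  [Algebra A C] [Module.Finite A C]

theorem flat_base : Module.Flat C (A' ⊗[A] C) := Module.Flat.of_linearEquiv (Algebra.TensorProduct.commRight A C A').symm.toLinearEquiv

theorem isMaximal_comap_base (Q' : MaximalSpectrum (A' ⊗[A] C)) :
    (Q'.asIdeal.comap (algebraMap C (A' ⊗[A] C))).IsMaximal := by
  haveI := Q'.isMaximal
  haveI : (Q'.asIdeal.comap (algebraMap C (A' ⊗[A] C))).IsPrime := Ideal.comap_isPrime _ _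
  refine Ideal.isMaximal_of_isIntegral_of_isMaximal_comap (R := A) _ ?_
  have e : (Q'.asIdeal.comap (algebraMap C (A' ⊗[A] C))).comap (algebraMap A C) = maximalIdeal A := by
    rw [Ideal.comap_comap, ← IsScalarTower.algebraMap_eq A C (A' ⊗[A] C), IsScalarTower.algebraMap_eq A A' (A' ⊗[A] C),
      ← Ideal.comap_comap, comap_maximal Q'.asIdeal]
    exact ((IsLocalRing.local_hom_TFAE (algebraMap A A')).out 0 4 rfl rfl).mp inferInstance
  rw [e]
  infer_instance

variable [Fintype (MaximalSpectrum C)] [hlocC : ∀ n : MaximalSpectrum C, IsLocalHom (algebraMap A (Localization.AtPrime n.asIdeal))]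
  [Fintype (MaximalSpectrum (A' ⊗[A] C))]
  [hlocC' : ∀ n : MaximalSpectrum (A' ⊗[A] C), IsLocalHom (algebraMap A' (Localization.AtPrime n.asIdeal))]

/-- The identity for a residue field of `C`. -/
theorem phi_base_simple (hm : Module.length A' (A' ⧸ (maximalIdeal A).map (algebraMap A A')) ≠ ⊤)
    (z : C) (Q : MaximalSpectrum C) :
    phi A' (algebraMap C (A' ⊗[A] C) z) ((A' ⊗[A] C) ⧸ Q.asIdeal.map (algebraMap C (A' ⊗[A] C))) =
      ResidueField.map (algebraMap A A') (phi A z (C ⧸ Q.asIdeal)) ^
        (Module.length A' (A' ⧸ (maximalIdeal A).map (algebraMap A A'))).toNat ∧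
    Module.length (A' ⊗[A] C) ((A' ⊗[A] C) ⧸ Q.asIdeal.map (algebraMap C (A' ⊗[A] C))) ≠ ⊤ := by
  classical
  haveI := Q.isMaximal
  haveI := hlocC Q
  let 𝔞 : Ideal A' := (maximalIdeal A).map (algebraMap A A')
  let κ := ResidueField A
  let κQ := Q.asIdeal.ResidueField
  haveI : IsScalarTower A κ κQ := .of_algebraMap_eq fun r => rfl
  haveI := finite_residue (A := A) Q.asIdeal
  haveI : Module.Finite κ κQ := finite_residue (A := A) Q.asIdeal
  let d := Module.finrank κ κQ
  let b := Module.finBasis κ κQ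
  choose c hc using fun j => Q.asIdeal.algebraMap_residueField_surjective (b j)
  have hlenQ : Module.length A (C ⧸ Q.asIdeal) = (d : ℕ∞) := by
    let f : (C ⧸ Q.asIdeal) →ₗ[A] κQ := (IsScalarTower.toAlgHom A (C ⧸ Q.asIdeal) κQ).toLinearMap
    rw [(LinearEquiv.ofBijective f Q.asIdeal.bijective_algebraMap_quotient_residueField).length_eq,
      Module.length_eq_of_surjective (R := κ) residue_surjective]
    exact Module.length_eq_finrank _ _
  let F := (A' ⊗[A] C) ⧸ Q.asIdeal.map (algebraMap C (A' ⊗[A] C))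
  let β : Fin d → F := fun j => Ideal.Quotient.mk _ (algebraMap C (A' ⊗[A] C) (c j))
  -- a combination of the `β` coming from `C`
  have hker : ∀ w : C, algebraMap C κQ w = 0 → w ∈ Q.asIdeal := fun w hw => by
    rw [IsScalarTower.algebraMap_apply C (C ⧸ Q.asIdeal) κQ, map_eq_zero_iff _ Q.asIdeal.injective_algebraMap_quotient_residueField] at hw
    exact Ideal.Quotient.eq_zero_iff_mem.mp hw
  have hcomb : ∀ w : C, ∃ r : Fin d → A, Ideal.Quotient.mk (Q.asIdeal.map (algebraMap C (A' ⊗[A] C))) (algebraMap C (A' ⊗[A] C) w) =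
      ∑ i, algebraMap A A' (r i) • β i ∧ ∀ i, residue A (r i) = b.repr (algebraMap C κQ w) i := by
    intro w
    choose r hr using fun i => residue_surjective (b.repr (algebraMap C κQ w) i)
    refine ⟨r, ?_, hr⟩
    have hw : w - ∑ i, r i • c i ∈ Q.asIdeal := by
      refine hker _ ?_
      rw [map_sub, map_sum, sub_eq_zero]
      conv_lhs => rw [← b.sum_repr (algebraMap C κQ w)]
      refine Finset.sum_congr rfl fun i _ => ?_
      rw [← hr i, ← hc i, Algebra.smul_def (r i), map_mul, ← IsScalarTower.algebraMap_apply A C κQ, Algebra.smul_def]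
      rfl
    have h0 := Ideal.Quotient.eq_zero_iff_mem.mpr (Ideal.mem_map_of_mem (algebraMap C (A' ⊗[A] C)) hw)
    rw [map_sub, map_sub, sub_eq_zero, map_sum, map_sum] at h0
    rw [h0]
    refine Finset.sum_congr rfl fun i _ => ?_
    rw [Algebra.smul_def, map_mul, map_mul, ← IsScalarTower.algebraMap_apply A C,
      IsScalarTower.algebraMap_apply A A' (A' ⊗[A] C)]
    exact (Algebra.smul_def (algebraMap A A' (r i)) (β i)).symm
  have hspan : Submodule.span A' (Set.range β) = ⊤ := by
    refine eq_top_iff.mpr fun y hy => ?_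
    clear hy
    obtain ⟨y, rfl⟩ := Ideal.Quotient.mk_surjective y
    induction y using TensorProduct.induction_on with
    | zero => rw [map_zero]; exact Submodule.zero_mem _
    | tmul a w =>
      obtain ⟨r, hr, -⟩ := hcomb w
      have : (a ⊗ₜ[A] w : A' ⊗[A] C) = a • algebraMap C (A' ⊗[A] C) w := by
        show a ⊗ₜ[A] w = a • ((1 : A') ⊗ₜ[A] w)
        rw [TensorProduct.smul_tmul', smul_eq_mul, mul_one]
      rw [this, ← Ideal.Quotient.mkₐ_eq_mk A', map_smul, Ideal.Quotient.mkₐ_eq_mk, hr]
      exact Submodule.smul_mem _ _ (Submodule.sum_mem _ fun i _ => Submodule.smul_mem _ _ (Submodule.subset_span ⟨i, rfl⟩))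
    | add x y hx hy => rw [map_add]; exact Submodule.add_mem _ hx hy
  -- the length of `F`
  have hlenF : Module.length A' F = (d : ℕ∞) * Module.length A' (A' ⧸ 𝔞) := by
    haveI : Module.FaithfullyFlat A A' := Module.FaithfullyFlat.of_flat_of_isLocalHom
    have e : (𝔞 : Submodule A' A') = (maximalIdeal A).map (algebraMap A A') • (⊤ : Submodule A' A') := by
      rw [smul_eq_mul, Ideal.mul_top]
    have hfl : IsFiniteLength A' (A' ⧸ ((maximalIdeal A).map (algebraMap A A') • (⊤ : Submodule A' A'))) := by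
      refine Module.length_ne_top_iff.mp ?_
      rwa [(Submodule.quotEquivOfEq _ _ e).length_eq.symm]
    have h := H25Len.length_baseChange (B := A') (C ⧸ Q.asIdeal) A' hfl
    rw [hlenQ, ← (Submodule.quotEquivOfEq _ _ e).length_eq] at h
    rw [← h]
    let g := Algebra.TensorProduct.map (AlgHom.id A' A') (Ideal.Quotient.mkₐ A Q.asIdeal)
    have hgs : Function.Surjective g :=
      Algebra.TensorProduct.map_surjective _ _ Function.surjective_id (Ideal.Quotient.mkₐ_surjective A Q.asIdeal)
    have hgk : RingHom.ker g = Q.asIdeal.map (algebraMap C (A' ⊗[A] C)) := by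
      have := Algebra.TensorProduct.lTensor_ker (A := A') (Ideal.Quotient.mkₐ A Q.asIdeal) (Ideal.Quotient.mkₐ_surjective A Q.asIdeal)
      refine this.trans (congrArg (Ideal.map _) ?_)
      exact Ideal.Quotient.mkₐ_ker A Q.asIdeal
    exact ((Ideal.quotientEquivAlgOfEq A' hgk.symm).trans (Ideal.quotientKerAlgEquivOfSurjective hgs)).toLinearEquiv.length_eq
  -- independence by counting
  let π : (Fin d → A' ⧸ 𝔞) →ₗ[A'] F := LinearMap.lsum A' (fun _ => A' ⧸ 𝔞) A' fun i => (𝔞 : Submodule A' A').liftQ
    (LinearMap.toSpanSingleton A' F (β i)) (by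
      refine Submodule.span_le.mpr ?_
      rintro _ ⟨r, hr, rfl⟩
      show algebraMap A A' r • Ideal.Quotient.mk (Q.asIdeal.map (algebraMap C (A' ⊗[A] C))) (algebraMap C (A' ⊗[A] C) (c i)) = 0
      rw [← Ideal.Quotient.mkₐ_eq_mk A', ← map_smul, Ideal.Quotient.mkₐ_eq_mk, Ideal.Quotient.eq_zero_iff_mem, Algebra.smul_def,
        ← IsScalarTower.algebraMap_apply A A', IsScalarTower.algebraMap_apply A C (A' ⊗[A] C)]
      exact Ideal.mul_mem_right _ _ (Ideal.mem_map_of_mem _ (Ideal.mem_comap.mp ((comap_maximal Q.asIdeal).ge hr))))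
  have hπv : ∀ r : Fin d → A', π (fun i => Ideal.Quotient.mk 𝔞 (r i)) = ∑ i, r i • β i := fun r => by
    simp only [π, LinearMap.lsum_apply, LinearMap.coe_sum, Finset.sum_apply, LinearMap.comp_apply, LinearMap.proj_apply]
    rfl
  have hπs : Function.Surjective π := fun y => by
    obtain ⟨r, hr⟩ := (Submodule.mem_span_range_iff_exists_fun A').mp (hspan.ge (show y ∈ (⊤ : Submodule A' F) from trivial))
    exact ⟨_, (hπv r).trans hr⟩
  have hlenpi : Module.length A' (Fin d → A' ⧸ 𝔞) = Module.length A' F := by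
    rw [Module.length_pi_of_fintype, hlenF, Finset.sum_const, Finset.card_univ, Fintype.card_fin, nsmul_eq_mul]
  have hfinF : Module.length A' F ≠ ⊤ := by
    rw [hlenF]; exact WithTop.mul_ne_top (ENat.natCast_ne_top _) hm
  have hπi : Function.Injective π := by
    rw [← LinearMap.ker_eq_bot]
    have h := Module.length_eq_add_of_exact (LinearMap.ker π).subtype π (Submodule.injective_subtype _) hπs (LinearMap.exact_subtype_ker_map π)
    rw [hlenpi] at h
    have h0 : Module.length A' (LinearMap.ker π) = 0 :=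
      (ENat.add_right_injective_of_ne_top hfinF (show Module.length A' F + 0 = Module.length A' F + Module.length A' (LinearMap.ker π) by
        rw [add_zero, add_comm]; exact h)).symm
    haveI := Module.length_eq_zero_iff.mp h0
    exact Submodule.eq_bot_of_subsingleton
  have hind : ∀ r : Fin d → A', ∑ i, r i • β i = 0 ↔ ∀ i, r i ∈ 𝔞 := fun r => by
    rw [← hπv]
    constructor
    · intro h i
      exact Ideal.Quotient.eq_zero_iff_mem.mp (congrFun (hπi (h.trans (map_zero π).symm)) i)
    · intro h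
      rw [show (fun i => Ideal.Quotient.mk 𝔞 (r i)) = 0 from funext fun i => Ideal.Quotient.eq_zero_iff_mem.mpr (h i), map_zero]
  -- the matrix of multiplication
  choose X hX hXr using fun j => hcomb (z * c j)
  let M : Matrix (Fin d) (Fin d) A := fun i j => X j i
  have h𝔞 : 𝔞 ≠ ⊤ := fun h => (maximalIdeal.isMaximal A').ne_top
    (top_le_iff.mp (h ▸ ((IsLocalRing.local_hom_TFAE (algebraMap A A')).out 0 2 rfl rfl).mp inferInstance))
  refine ⟨?_, ne_top_of_le_ne_top hfinF (length_le_restrict (A := A') (B := A' ⊗[A] C) (M := F))⟩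
  rw [phi_simple A z Q, phi_of_basis A' β 𝔞 h𝔞 hm hspan hind (algebraMap C _ z) (M.map (algebraMap A A')) (fun j => by
    simp only [β, M, Matrix.map_apply]
    rw [Ideal.Quotient.algebraMap_eq, ← map_mul, ← map_mul]
    exact hX j)]
  congr 1
  rw [Algebra.norm_eq_matrix_det b, RingHom.map_det, RingHom.map_det]
  congr 1
  ext i j
  simp only [RingHom.mapMatrix_apply, Matrix.map_apply, Algebra.leftMulMatrix_eq_repr_mul, M]
  rw [show algebraMap C κQ z * b j = algebraMap C κQ (z * c j) by rw [map_mul, hc], ← hXr, ResidueField.map_residue]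

/-- The identity for all modules of finite length. -/
theorem phi_base (hm : Module.length A' (A' ⧸ (maximalIdeal A).map (algebraMap A A')) ≠ ⊤)
    (z : C) (M : Type u) [AddCommGroup M] [Module C M] (hM : IsFiniteLength C M) :
    phi A' (algebraMap C (A' ⊗[A] C) z) ((A' ⊗[A] C) ⊗[C] M) =
      ResidueField.map (algebraMap A A') (phi A z M) ^
        (Module.length A' (A' ⧸ (maximalIdeal A).map (algebraMap A A'))).toNat ∧
    Module.length (A' ⊗[A] C) ((A' ⊗[A] C) ⊗[C] M) ≠ ⊤ := by
  haveI := flat_base (A := A) (A' := A') (C := C)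
  induction hM with
  | @of_subsingleton M _ _ _ =>
    haveI : Subsingleton ((A' ⊗[A] C) ⊗[C] M) := subsingleton_of_forall_eq 0 fun t => by
      induction t using TensorProduct.induction_on with
      | zero => rfl
      | tmul a v => rw [Subsingleton.elim v 0, tmul_zero]
      | add x y hx hy => rw [hx, hy, add_zero]
    rw [phi_subsingleton, phi_subsingleton, map_one, one_pow, Module.length_eq_zero]
    exact ⟨rfl, ENat.zero_ne_top⟩
  | @of_simple_quotient M _ _ P _ hP ih =>
    let f := AlgebraTensorModule.lTensor (A' ⊗[A] C) (A' ⊗[A] C) P.subtype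
    let g := AlgebraTensorModule.lTensor (A' ⊗[A] C) (A' ⊗[A] C) P.mkQ
    have hf : Function.Injective f :=
      Module.Flat.lTensor_preserves_injective_linearMap (M := A' ⊗[A] C) P.subtype P.subtype_injective
    have hg : Function.Surjective g := LinearMap.lTensor_surjective _ P.mkQ_surjective
    have hex : Function.Exact f g := lTensor_exact (A' ⊗[A] C) (LinearMap.exact_subtype_mkQ P) P.mkQ_surjective
    obtain ⟨m', hm', ⟨e⟩⟩ := isSimpleModule_iff_quot_maximal.mp (inferInstance : IsSimpleModule C (M ⧸ P))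
    let Q : MaximalSpectrum C := ⟨m', hm'⟩
    let e' : (A' ⊗[A] C) ⊗[C] (M ⧸ P) ≃ₗ[A' ⊗[A] C] (A' ⊗[A] C) ⧸ Q.asIdeal.map (algebraMap C (A' ⊗[A] C)) :=
      (AlgebraTensorModule.congr (LinearEquiv.refl (A' ⊗[A] C) (A' ⊗[A] C)) e).trans
        (Algebra.TensorProduct.quotIdealMapEquivTensorQuot (A' ⊗[A] C) Q.asIdeal).symm.toLinearEquiv
    obtain ⟨hs1, hs2⟩ := phi_base_simple hm z Q
    have hfin : Module.length (A' ⊗[A] C) ((A' ⊗[A] C) ⊗[C] M) ≠ ⊤ := by
      rw [Module.length_eq_add_of_exact f g hf hg hex, e'.length_eq]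
      exact WithTop.add_ne_top.mpr ⟨ih.2, hs2⟩
    have hMfin : Module.length C M ≠ ⊤ := by
      rw [Module.length_eq_add_of_exact P.subtype P.mkQ P.subtype_injective P.mkQ_surjective (LinearMap.exact_subtype_mkQ P),
        e.length_eq]
      haveI : IsSimpleModule C (C ⧸ m') := isSimpleModule_iff_isCoatom.mpr (Ideal.isMaximal_def.mp hm')
      rw [Module.length_eq_one C (C ⧸ m')]
      exact WithTop.add_ne_top.mpr ⟨Module.length_ne_top_iff.mpr hP, ENat.one_ne_top⟩
    refine ⟨?_, hfin⟩
    rw [phi_exact A' _ f g hf hg hex hfin, ih.1, phi_congr A' _ e', hs1,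
      phi_exact A z P.subtype P.mkQ P.subtype_injective P.mkQ_surjective (LinearMap.exact_subtype_mkQ P) hMfin,
      map_mul, mul_pow, phi_congr A z (e : (M ⧸ P) ≃ₗ[C] (C ⧸ Q.asIdeal))]

end Groth.Agent.H3CAlg.Tame
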