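import Groth.Agent.H3CAlg.Tame.Laws
import Groth.Agent.H26Grass.DimLemma
import Mathlib

/-!
# Tame symbols of the localizations of a finite extension
-/

set_option autoImplicit false
set_option linter.style.haveILetI false
set_option linter.unusedSectionVars false
universe u

open IsLocalRing
open scoped nonZeroDivisors

namespace Groth.Agent.H3CAlg.Tame

open CycAlg

variable {A : Type u} [CommRing A] [IsNoetherianRing A] [IsLocalRing A]
  {B C : Type u} [CommRing B] [CommRing C] [Algebra A B] [Algebra A C] [Algebra B C] [IsScalarTower A B C]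
  [Module.Finite A B] [Module.Finite B C]
  [hlocB : ∀ q : MaximalSpectrum B, IsLocalHom (algebraMap A (Localization.AtPrime q.asIdeal))]
  [hlocC : ∀ Q : MaximalSpectrum C, IsLocalHom (algebraMap A (Localization.AtPrime Q.asIdeal))]

theorem isTower_base (q : MaximalSpectrum B) (Q : Over (C := C) q.asIdeal) :
    letI := Localization.AtPrime.algebraOfLiesOver q.asIdeal Q.1.asIdeal
    IsScalarTower A (Localization.AtPrime q.asIdeal) (Localization.AtPrime Q.1.asIdeal) :=
  letI := Localization.AtPrime.algebraOfLiesOver q.asIdeal Q.1.asIdeal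
  .of_algebraMap_eq fun r => by
    rw [IsScalarTower.algebraMap_apply A B (Localization.AtPrime q.asIdeal)]
    refine Eq.trans ?_ (Localization.localRingHom_to_map q.asIdeal Q.1.asIdeal (algebraMap B C) Q.2.symm _).symm
    rw [← IsScalarTower.algebraMap_apply A B C, ← IsScalarTower.algebraMap_apply A C]

theorem dim_atPrime (hA : ringKrullDim A = 1) {a : A} (ha : a ∈ maximalIdeal A)
    (haB : algebraMap A B a ∈ B⁰) (q : MaximalSpectrum B) :
    ringKrullDim (Localization.AtPrime q.asIdeal) = 1 := by
  haveI := q.isMaximal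
  haveI : IsNoetherianRing B := IsNoetherianRing.of_finite A B
  refine le_antisymm ?_ ?_
  · rw [← hA, IsLocalization.AtPrime.ringKrullDim_eq_height q.asIdeal (Localization.AtPrime q.asIdeal)]
    exact Ideal.height_le_ringKrullDim_of_isPrime.trans H26Grass.ringKrullDim_le_of_integral
  · set x := algebraMap A (Localization.AtPrime q.asIdeal) a with hx
    have hreg : x ∈ (Localization.AtPrime q.asIdeal)⁰ := by
      rw [hx, IsScalarTower.algebraMap_apply A B]
      exact IsLocalization.map_nonZeroDivisors_le q.asIdeal.primeCompl _ ⟨_, haB, rfl⟩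
    haveI := hlocB q
    have hnu : ¬ IsUnit x := fun h => (mem_maximalIdeal a).mp ha (isUnit_of_map_unit _ _ h)
    haveI : Nontrivial (Localization.AtPrime q.asIdeal ⧸ Ideal.span {x}) :=
      Ideal.Quotient.nontrivial_iff.mpr fun h => hnu (Ideal.span_singleton_eq_top.mp h)
    calc (1 : WithBot ℕ∞) ≤ ringKrullDim (Localization.AtPrime q.asIdeal ⧸ Ideal.span {x}) + 1 :=
          le_add_of_nonneg_left ringKrullDim_nonneg_of_nontrivial
      _ ≤ _ := ringKrullDim_quotient_succ_le_of_nonZeroDivisor hreg

section localized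

variable {L' : Type u} [CommRing L'] [Algebra A L'] [Algebra B L'] [Algebra C L'] (q : MaximalSpectrum B)
  [Algebra (Localization.AtPrime q.asIdeal) L'] [IsScalarTower B C L'] [IsScalarTower A C L']
  [IsScalarTower B (Localization.AtPrime q.asIdeal) L'] [IsScalarTower A (Localization.AtPrime q.asIdeal) L']
  [IsLocalization (Algebra.algebraMapSubmonoid C q.asIdeal.primeCompl) L']

include C in
theorem finite_localized : Module.Finite (Localization.AtPrime q.asIdeal) L' :=
  Module.Finite.of_isLocalization B C q.asIdeal.primeCompl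

theorem isFinExt_localized (hdim : ringKrullDim (Localization.AtPrime q.asIdeal) = 1)
    (hinjBC : Function.Injective (algebraMap B C)) (hC : IsFinExt A C (maximalIdeal A)) {a : A}
    (ha : a ∈ maximalIdeal A) (haq : algebraMap A (Localization.AtPrime q.asIdeal) a ∈ (Localization.AtPrime q.asIdeal)⁰) :
    IsFinExt (Localization.AtPrime q.asIdeal) L' (maximalIdeal (Localization.AtPrime q.asIdeal)) := by
  haveI := q.isMaximal
  haveI : IsNoetherianRing B := IsNoetherianRing.of_finite A B
  have hloc : ∀ c : C, ∀ s : Algebra.algebraMapSubmonoid C q.asIdeal.primeCompl,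
      IsLocalization.mk' L' c s * algebraMap C L' (s : C) = algebraMap C L' c := IsLocalization.mk'_spec L'
  refine ⟨?_, finite_localized (B := B) (C := C) q, ?_⟩
  · refine (injective_iff_map_eq_zero _).mpr fun z hz => ?_
    obtain ⟨b, s, rfl⟩ := IsLocalization.exists_mk'_eq q.asIdeal.primeCompl z
    have h1 : algebraMap C L' (algebraMap B C b) = 0 := by
      rw [← IsScalarTower.algebraMap_apply B C L', IsScalarTower.algebraMap_apply B (Localization.AtPrime q.asIdeal) L',
        ← IsLocalization.mk'_spec (Localization.AtPrime q.asIdeal) b s, map_mul, hz, zero_mul]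
    obtain ⟨⟨_, s₀, hs₀, rfl⟩, ht⟩ := (IsLocalization.map_eq_zero_iff (Algebra.algebraMapSubmonoid C q.asIdeal.primeCompl) L' _).mp h1
    rw [← map_mul, map_eq_zero_iff _ hinjBC] at ht
    exact (IsLocalization.mk'_eq_zero_iff _ _).mpr ⟨⟨s₀, hs₀⟩, ht⟩
  · obtain ⟨N, hN⟩ := hC.2.2
    obtain ⟨k, hk⟩ := exists_pow_le_span hdim haq
    refine ⟨k * N, fun r hr z => ?_⟩
    rw [pow_mul] at hr
    have hr' := Ideal.pow_right_mono hk N hr
    rw [Ideal.span_singleton_pow, Ideal.mem_span_singleton'] at hr'
    obtain ⟨t, rfl⟩ := hr'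
    obtain ⟨c, ⟨d, hd⟩, rfl⟩ := IsLocalization.exists_mk'_eq (Algebra.algebraMapSubmonoid C q.asIdeal.primeCompl) z
    obtain ⟨s₀, hs₀, rfl⟩ := hd
    obtain ⟨b₀, hb₀⟩ := hN (a ^ N) (Ideal.pow_mem_pow ha N) c
    have hu : IsUnit (algebraMap C L' (algebraMap B C s₀)) :=
      IsLocalization.map_units L' (⟨algebraMap B C s₀, s₀, hs₀, rfl⟩ : Algebra.algebraMapSubmonoid C q.asIdeal.primeCompl)
    refine ⟨t * IsLocalization.mk' (Localization.AtPrime q.asIdeal) (algebraMap A B b₀) (⟨s₀, hs₀⟩ : q.asIdeal.primeCompl),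
      hu.mul_right_cancel ?_⟩
    rw [Algebra.smul_def, map_mul, map_mul (algebraMap (Localization.AtPrime q.asIdeal) L'), mul_assoc, mul_assoc, mul_assoc]
    congr 1
    have e1 := hloc c ⟨algebraMap B C s₀, s₀, hs₀, rfl⟩
    rw [e1, ← map_pow (algebraMap A (Localization.AtPrime q.asIdeal)), ← IsScalarTower.algebraMap_apply A (Localization.AtPrime q.asIdeal) L',
      ← IsScalarTower.algebraMap_apply B C L', IsScalarTower.algebraMap_apply B (Localization.AtPrime q.asIdeal) L', ← map_mul,
      IsLocalization.mk'_spec, ← IsScalarTower.algebraMap_apply B (Localization.AtPrime q.asIdeal) L',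
      IsScalarTower.algebraMap_apply B C L', ← IsScalarTower.algebraMap_apply A B C, hb₀, Algebra.smul_def, map_mul,
      ← IsScalarTower.algebraMap_apply A C L']

theorem over_localized (Q' : MaximalSpectrum L') :
    (Q'.asIdeal.comap (algebraMap C L')).comap (algebraMap B C) = q.asIdeal := by
  haveI := q.isMaximal
  haveI := Q'.isMaximal
  haveI := finite_localized (B := B) (C := C) (L' := L') q
  rw [Ideal.comap_comap, ← IsScalarTower.algebraMap_eq B C L', IsScalarTower.algebraMap_eq B (Localization.AtPrime q.asIdeal) L',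
    ← Ideal.comap_comap, comap_maximal Q'.asIdeal]
  exact Localization.AtPrime.under_maximalIdeal

include B q in
theorem isMaximal_localized (Q' : MaximalSpectrum L') : (Q'.asIdeal.comap (algebraMap C L')).IsMaximal := by
  haveI := Q'.isMaximal
  haveI : (Q'.asIdeal.comap (algebraMap C L')).IsPrime := Ideal.comap_isPrime _ _
  exact Ideal.isMaximal_of_isIntegral_of_isMaximal_comap _ ((over_localized (B := B) (C := C) q Q').symm ▸ q.isMaximal)

/-- The maximal ideal of `C` under a maximal ideal of the localization. -/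
def toOver (Q' : MaximalSpectrum L') : Over (C := C) q.asIdeal :=
  ⟨⟨_, isMaximal_localized (B := B) q Q'⟩, over_localized (B := B) q Q'⟩

theorem toOver_bijective : Function.Bijective (toOver (B := B) (C := C) (L' := L') q) := by
  let T := Algebra.algebraMapSubmonoid C q.asIdeal.primeCompl
  refine ⟨fun Q₁ Q₂ h => MaximalSpectrum.ext ?_, fun Q => ?_⟩
  · have h' : Q₁.asIdeal.comap (algebraMap C L') = Q₂.asIdeal.comap (algebraMap C L') :=
      congrArg (fun Q : Over (C := C) q.asIdeal => Q.1.asIdeal) h
    exact (IsLocalization.map_under T L' Q₁.asIdeal).symm.trans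
      ((congrArg (Ideal.map (algebraMap C L')) h').trans (IsLocalization.map_under T L' Q₂.asIdeal))
  · haveI := Q.1.isMaximal
    have hd : Disjoint (T : Set C) Q.1.asIdeal := by
      rw [Set.disjoint_left]
      rintro _ ⟨s₀, hs₀, rfl⟩ hs
      exact hs₀ (Q.2.le hs)
    have hp := IsLocalization.isPrime_of_isPrime_disjoint T L' Q.1.asIdeal inferInstance hd
    obtain ⟨M, hM, hle⟩ := Ideal.exists_le_maximal _ hp.ne_top
    refine ⟨⟨M, hM⟩, Subtype.ext (MaximalSpectrum.ext (Q.1.isMaximal.eq_of_le ?_ ?_).symm)⟩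
    · exact (isMaximal_localized (B := B) q ⟨M, hM⟩).ne_top
    · exact Ideal.map_le_iff_le_comap.mp hle

theorem exists_equiv_localized (Q' : MaximalSpectrum L') :
    ∃ ε : Localization.AtPrime (toOver (B := B) (C := C) q Q').1.asIdeal ≃+* Localization.AtPrime Q'.asIdeal,
      ∀ c : C, ε (algebraMap C _ c) = algebraMap L' _ (algebraMap C L' c) := by
  haveI := Q'.isMaximal
  haveI : IsLocalization.AtPrime (Localization.AtPrime Q'.asIdeal) (toOver (B := B) (C := C) q Q').1.asIdeal :=
    IsLocalization.isLocalization_isLocalization_atPrime_isLocalization (Algebra.algebraMapSubmonoid C q.asIdeal.primeCompl)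
      (Localization.AtPrime Q'.asIdeal) Q'.asIdeal
  let ε := IsLocalization.algEquiv (toOver (B := B) (C := C) q Q').1.asIdeal.primeCompl
    (Localization.AtPrime (toOver (B := B) (C := C) q Q').1.asIdeal) (Localization.AtPrime Q'.asIdeal)
  exact ⟨ε.toRingEquiv, fun c => (ε.commutes c).trans (IsScalarTower.algebraMap_apply C L' _ c)⟩

theorem exists_equiv_localized_base (Q' : MaximalSpectrum L')
    (ε : Localization.AtPrime (toOver (B := B) (C := C) q Q').1.asIdeal ≃+* Localization.AtPrime Q'.asIdeal)
    (hε : ∀ c : C, ε (algebraMap C _ c) = algebraMap L' _ (algebraMap C L' c)) :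
    letI := Localization.AtPrime.algebraOfLiesOver q.asIdeal (toOver (B := B) (C := C) q Q').1.asIdeal
    ∀ z : Localization.AtPrime q.asIdeal,
      ε (algebraMap (Localization.AtPrime q.asIdeal) (Localization.AtPrime (toOver (B := B) (C := C) q Q').1.asIdeal) z) =
        algebraMap (Localization.AtPrime q.asIdeal) (Localization.AtPrime Q'.asIdeal) z := by
  intro z
  refine congrFun (congrArg DFunLike.coe (IsLocalization.ringHom_ext q.asIdeal.primeCompl
    (j := ε.toRingHom.comp (Localization.localRingHom q.asIdeal (toOver (B := B) (C := C) q Q').1.asIdeal (algebraMap B C)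
      (toOver (B := B) (C := C) q Q').2.symm))
    (k := algebraMap (Localization.AtPrime q.asIdeal) (Localization.AtPrime Q'.asIdeal)) ?_)) z
  refine RingHom.ext fun b => ?_
  show ε (Localization.localRingHom _ _ _ _ (algebraMap B _ b)) = _
  rw [Localization.localRingHom_to_map, hε, ← IsScalarTower.algebraMap_apply B C L',
    IsScalarTower.algebraMap_apply B (Localization.AtPrime q.asIdeal) L',
    ← IsScalarTower.algebraMap_apply (Localization.AtPrime q.asIdeal) L' (Localization.AtPrime Q'.asIdeal)]
  rfl

end localized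

/-- The symbol of the local ring of `B` at `q` is the product of the factors above `q`. -/
theorem norm_tameSymbol_atPrime (hA : ringKrullDim A = 1) (hinjBC : Function.Injective (algebraMap B C))
    (hC : IsFinExt A C (maximalIdeal A)) {a x y : A}
    (ha : a ∈ maximalIdeal A) (ha0 : a ∈ A⁰)
    (hregB : ∀ z ∈ A⁰, algebraMap A B z ∈ B⁰) (hregC : ∀ z ∈ A⁰, algebraMap A C z ∈ C⁰)
    (hx0 : x ∈ A⁰) (hy0 : y ∈ A⁰)
    {π : (Q : MaximalSpectrum C) → Localization.AtPrime Q.asIdeal}
    (hπ : ∀ Q, π Q ∈ (Localization.AtPrime Q.asIdeal)⁰)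
    {v w : (Q : MaximalSpectrum C) → (Localization.AtPrime Q.asIdeal)ˣ} {e f : MaximalSpectrum C → ℕ}
    (hx : Fac π x v e) (hy : Fac π y w f) (q : MaximalSpectrum B) [Fintype (Over (C := C) q.asIdeal)] :
    haveI := hlocB q
    Algebra.norm (ResidueField A) (tameSymbol (Localization.AtPrime q.asIdeal)
        (algebraMap A (Localization.AtPrime q.asIdeal) x) (algebraMap A (Localization.AtPrime q.asIdeal) y)) =
      ∏ Q : Over (C := C) q.asIdeal, (haveI := hlocC Q.1;
        fct A (π Q.1) (v Q.1) (w Q.1) (e Q.1) (f Q.1)) := by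
  classical
  haveI := hlocB q
  haveI := q.isMaximal
  haveI := hC.2.1
  haveI : IsNoetherianRing B := IsNoetherianRing.of_finite A B
  let L := Localization.AtPrime q.asIdeal
  let T := Algebra.algebraMapSubmonoid C q.asIdeal.primeCompl
  let L' := Localization T
  have hdim : ringKrullDim L = 1 := dim_atPrime hA ha (hregB a ha0) q
  have hreg : ∀ z ∈ A⁰, algebraMap A L z ∈ L⁰ := fun z hz => by
    rw [IsScalarTower.algebraMap_apply A B L]
    exact IsLocalization.map_nonZeroDivisors_le q.asIdeal.primeCompl _ ⟨_, hregB z hz, rfl⟩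
  haveI : IsScalarTower A L L' := .of_algebraMap_eq fun r => by
    rw [IsScalarTower.algebraMap_apply A B L, ← IsScalarTower.algebraMap_apply B L L',
      IsScalarTower.algebraMap_apply B C L', ← IsScalarTower.algebraMap_apply A B C,
      ← IsScalarTower.algebraMap_apply A C L']
  have hext : IsFinExt L L' (maximalIdeal L) := isFinExt_localized q hdim hinjBC hC ha (hreg a ha0)
  haveI := hext.2.1
  haveI : Finite (MaximalSpectrum L') := H22Alg.finite_maximalSpectrum_of_finite L L'
  haveI := Fintype.ofFinite (MaximalSpectrum L')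
  haveI hlocL : ∀ Q' : MaximalSpectrum L', IsLocalHom (algebraMap L (Localization.AtPrime Q'.asIdeal)) := fun Q' =>
    haveI := Q'.isMaximal; isLocalHom_atPrime Q'.asIdeal
  let F : MaximalSpectrum L' → Over (C := C) q.asIdeal := toOver q
  have hF : Function.Bijective F := toOver_bijective q
  -- transported data
  choose ε hε using fun Q' : MaximalSpectrum L' => exists_equiv_localized (B := B) (C := C) q Q'
  have hεA : ∀ Q' (r : A), ε Q' (algebraMap A _ r) = algebraMap L (Localization.AtPrime Q'.asIdeal) (algebraMap A L r) := fun Q' r => by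
    rw [IsScalarTower.algebraMap_apply A C (Localization.AtPrime (F Q').1.asIdeal), hε, ← IsScalarTower.algebraMap_apply A C L',
      IsScalarTower.algebraMap_apply L L' (Localization.AtPrime Q'.asIdeal), ← IsScalarTower.algebraMap_apply A L L']
  let π' : (Q' : MaximalSpectrum L') → Localization.AtPrime Q'.asIdeal := fun Q' => ε Q' (π (F Q').1)
  have hπ' : ∀ Q', π' Q' ∈ (Localization.AtPrime Q'.asIdeal)⁰ := fun Q' =>
    (MulEquivClass.map_nonZeroDivisors (ε Q')).le ⟨_, hπ (F Q').1, rfl⟩
  let v' : (Q' : MaximalSpectrum L') → (Localization.AtPrime Q'.asIdeal)ˣ := fun Q' =>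
    Units.map (ε Q' : _ →* _) (v (F Q').1)
  let w' : (Q' : MaximalSpectrum L') → (Localization.AtPrime Q'.asIdeal)ˣ := fun Q' =>
    Units.map (ε Q' : _ →* _) (w (F Q').1)
  have hx' : Fac π' (algebraMap A L x) v' (fun Q' => e (F Q').1) := fun Q' => by
    rw [← hεA, hx (F Q').1, map_mul, map_pow]; rfl
  have hy' : Fac π' (algebraMap A L y) w' (fun Q' => f (F Q').1) := fun Q' => by
    rw [← hεA, hy (F Q').1, map_mul, map_pow]; rfl
  rw [tameSymbol_eq_prod hdim hext hπ' (hreg x hx0) (hreg y hy0) hx' hy', map_prod, ← (Equiv.ofBijective F hF).prod_comp]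
  refine Finset.prod_congr rfl fun Q' _ => ?_
  show _ = (haveI := hlocC (F Q').1; fct A (π (F Q').1) (v (F Q').1) (w (F Q').1) (e (F Q').1) (f (F Q').1))
  haveI := Q'.isMaximal
  haveI := hlocC (F Q').1
  haveI := (F Q').1.isMaximal
  letI := Localization.AtPrime.algebraOfLiesOver q.asIdeal (F Q').1.asIdeal
  haveI := isTower_base (A := A) q (F Q')
  let εL : Localization.AtPrime (F Q').1.asIdeal ≃ₐ[L] Localization.AtPrime Q'.asIdeal :=
    AlgEquiv.ofRingEquiv (f := ε Q') (exists_equiv_localized_base q Q' (ε Q') (hε Q'))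
  haveI : IsLocalHom (algebraMap L (Localization.AtPrime (F Q').1.asIdeal)) := inferInstance
  refine (congrArg (Algebra.norm (ResidueField A))
    (fct_congr L εL (π (F Q').1) (v (F Q').1) (w (F Q').1) (e (F Q').1) (f (F Q').1))).trans ?_
  rw [fct, fct, map_pow]
  haveI := finite_residue (A := A) q.asIdeal
  haveI := finite_residue (A := A) (F Q').1.asIdeal
  haveI : IsScalarTower (ResidueField A) (ResidueField L) (ResidueField (Localization.AtPrime (F Q').1.asIdeal)) :=
    .of_algebraMap_eq fun z => by
      obtain ⟨z, rfl⟩ := residue_surjective z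
      exact congrArg (residue _) (IsScalarTower.algebraMap_apply A L (Localization.AtPrime (F Q').1.asIdeal) z)
  haveI : FiniteDimensional (ResidueField L) (ResidueField (Localization.AtPrime (F Q').1.asIdeal)) :=
    Module.Finite.of_restrictScalars_finite (ResidueField A) _ _
  rw [Algebra.norm_norm]

end Groth.Agent.H3CAlg.Tame
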