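import Groth.Agent.H3CAlg.Tame.FlatHom
import Groth.Agent.H3CAlg.Tame.Local
import Mathlib

/-!
# The tame symbol under a flat local homomorphism
-/

set_option autoImplicit false
set_option linter.style.haveILetI false
set_option linter.unusedSectionVars false
universe u

open IsLocalRing TensorProduct
open scoped nonZeroDivisors

attribute [local instance] Algebra.TensorProduct.rightAlgebra

namespace Groth.Agent.H3CAlg.Tame

open CycAlg

variable {A A' C : Type u} [CommRing A] [CommRing A'] [CommRing C] [IsNoetherianRing A] [IsLocalRing A]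
  [IsNoetherianRing A'] [IsLocalRing A'] [Algebra A A'] [IsLocalHom (algebraMap A A')] [Module.Flat A A']
  [Algebra A C] [Module.Finite A C]

theorem algebraMap_base_mem {z : A} (hz : z ∈ A⁰) : algebraMap A A' z ∈ A'⁰ := by
  rw [mem_nonZeroDivisors_iff_right]
  intro y hy
  have hinj := Module.Flat.rTensor_preserves_injective_linearMap (M := A') (LinearMap.lsmul A A z)
    (fun x y h => (mul_cancel_left_mem_nonZeroDivisors hz).mp h)
  have := @hinj ((1 : A) ⊗ₜ[A] y) 0 (by
    rw [map_zero, LinearMap.rTensor_tmul, LinearMap.lsmul_apply, smul_eq_mul, mul_one,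
      show z ⊗ₜ[A] y = (1 : A) ⊗ₜ[A] (z • y) by rw [TensorProduct.tmul_smul, TensorProduct.smul_tmul', smul_eq_mul, mul_one],
      Algebra.smul_def, mul_comm, hy, tmul_zero])
  simpa using congrArg (TensorProduct.lid A A') this

theorem algebraMap_ext_mem {x : C} (hx : x ∈ C⁰) : algebraMap C (A' ⊗[A] C) x ∈ (A' ⊗[A] C)⁰ := by
  haveI := flat_base (A := A) (A' := A') (C := C)
  rw [mem_nonZeroDivisors_iff_right]
  intro y hy
  have hinj := Module.Flat.rTensor_preserves_injective_linearMap (M := A' ⊗[A] C) (LinearMap.lsmul C C x)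
    (fun a b h => (mul_cancel_left_mem_nonZeroDivisors hx).mp h)
  have := @hinj ((1 : C) ⊗ₜ[C] y) 0 (by
    rw [map_zero, LinearMap.rTensor_tmul, LinearMap.lsmul_apply, smul_eq_mul, mul_one,
      show x ⊗ₜ[C] y = (1 : C) ⊗ₜ[C] (x • y) by rw [TensorProduct.tmul_smul, TensorProduct.smul_tmul', smul_eq_mul, mul_one],
      Algebra.smul_def, mul_comm, hy, tmul_zero])
  simpa using congrArg (TensorProduct.lid C (A' ⊗[A] C)) this

theorem isFinExt_base (hA' : ringKrullDim A' = 1) (hC : IsFinExt A C (maximalIdeal A)) {a : A} (ha : a ∈ A⁰)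
    (ham : a ∈ maximalIdeal A) : IsFinExt A' (A' ⊗[A] C) (maximalIdeal A') := by
  obtain ⟨hinj, -, n, hn⟩ := hC
  refine ⟨?_, inferInstance, ?_⟩
  · intro x y h
    have hl := Module.Flat.lTensor_preserves_injective_linearMap (M := A') (Algebra.linearMap A C) hinj
    have h2 : LinearMap.lTensor A' (Algebra.linearMap A C) (x ⊗ₜ[A] (1 : A)) = LinearMap.lTensor A' (Algebra.linearMap A C) (y ⊗ₜ[A] (1 : A)) := by
      simp only [LinearMap.lTensor_tmul, Algebra.linearMap_apply, map_one]
      exact h
    simpa using congrArg (TensorProduct.rid A A') (hl h2)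
  · obtain ⟨k, hk⟩ := exists_pow_le_span hA' (algebraMap_base_mem (A' := A') ha)
    refine ⟨k * n, fun r hr w => ?_⟩
    rw [pow_mul] at hr
    have hr' := Ideal.pow_right_mono hk n hr
    rw [Ideal.span_singleton_pow, Ideal.mem_span_singleton'] at hr'
    obtain ⟨t, rfl⟩ := hr'
    induction w using TensorProduct.induction_on with
    | zero => exact ⟨0, by simp⟩
    | tmul b c =>
      obtain ⟨x, hx⟩ := hn (a ^ n) (Ideal.pow_mem_pow ham n) c
      refine ⟨t * b * algebraMap A A' x, ?_⟩
      rw [TensorProduct.smul_tmul', smul_eq_mul, Algebra.TensorProduct.algebraMap_apply, Algebra.algebraMap_self, RingHom.id_apply,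
        mul_comm (t * b), ← Algebra.smul_def, TensorProduct.smul_tmul, ← Algebra.algebraMap_eq_smul_one, hx, ← TensorProduct.smul_tmul,
        Algebra.smul_def, map_pow]
      congr 1
      ring
    | add x y hx hy =>
      rw [smul_add]
      exact add_mem hx hy

variable [Fintype (MaximalSpectrum C)] [hlocC : ∀ n : MaximalSpectrum C, IsLocalHom (algebraMap A (Localization.AtPrime n.asIdeal))]
  [Fintype (MaximalSpectrum (A' ⊗[A] C))]
  [hlocC' : ∀ n : MaximalSpectrum (A' ⊗[A] C), IsLocalHom (algebraMap A' (Localization.AtPrime n.asIdeal))]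

/-- The maximal ideal of `C` below one of the base change. -/
noncomputable def below (Q' : MaximalSpectrum (A' ⊗[A] C)) : MaximalSpectrum C :=
  ⟨_, isMaximal_comap_base Q'⟩

/-- The local map at a maximal ideal of the base change. -/
noncomputable abbrev locHom (Q' : MaximalSpectrum (A' ⊗[A] C)) :
    Localization.AtPrime (below Q').asIdeal →+* Localization.AtPrime Q'.asIdeal :=
  Localization.localRingHom (below Q').asIdeal Q'.asIdeal (algebraMap C (A' ⊗[A] C)) rfl

/-- The product of the factors above a maximal ideal of `C`. -/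
theorem prod_above (hA : ringKrullDim A = 1) (hm : Module.length A' (A' ⧸ (maximalIdeal A).map (algebraMap A A')) ≠ ⊤)
    {a : A} (ha : a ∈ A⁰)
    (Q : MaximalSpectrum C) [Fintype {Q' : MaximalSpectrum (A' ⊗[A] C) // below Q' = Q}] (π : Localization.AtPrime Q.asIdeal) (hπa : π ∣ algebraMap A (Localization.AtPrime Q.asIdeal) a)
    (u₁ u₂ : (Localization.AtPrime Q.asIdeal)ˣ) (e₁ e₂ : ℕ) :
    ResidueField.map (algebraMap A A') (haveI := hlocC Q; fct A π u₁ u₂ e₁ e₂) ^
        (Module.length A' (A' ⧸ (maximalIdeal A).map (algebraMap A A'))).toNat =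
      ∏ Q' : {Q' : MaximalSpectrum (A' ⊗[A] C) // below Q' = Q}, (haveI := hlocC' Q'.1;
        fct A' (Localization.localRingHom Q.asIdeal Q'.1.asIdeal (algebraMap C (A' ⊗[A] C))
            (congrArg MaximalSpectrum.asIdeal Q'.2).symm π)
          (Units.map (Localization.localRingHom Q.asIdeal Q'.1.asIdeal (algebraMap C (A' ⊗[A] C))
            (congrArg MaximalSpectrum.asIdeal Q'.2).symm).toMonoidHom u₁)
          (Units.map (Localization.localRingHom Q.asIdeal Q'.1.asIdeal (algebraMap C (A' ⊗[A] C))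
            (congrArg MaximalSpectrum.asIdeal Q'.2).symm).toMonoidHom u₂) e₁ e₂) := by
  classical
  haveI := Q.isMaximal
  haveI := hlocC Q
  haveI : IsNoetherianRing C := IsNoetherianRing.of_finite A C
  obtain ⟨z, hz⟩ := Q.asIdeal.algebraMap_residueField_surjective (rsym u₁ u₂ e₁ e₂)
  let L := Localization.AtPrime Q.asIdeal
  let J : Ideal C := (Ideal.span {π}).comap (algebraMap C L)
  have hmapJ : J.map (algebraMap C L) = Ideal.span {π} := IsLocalization.map_under Q.asIdeal.primeCompl L _
  have hJa : Ideal.span {algebraMap A C a} ≤ J := by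
    rw [Ideal.span_singleton_le_iff_mem, Ideal.mem_comap, ← IsScalarTower.algebraMap_apply A C L]
    exact Ideal.mem_span_singleton.mpr hπa
  have hJfl : IsFiniteLength C (C ⧸ J) := Module.length_ne_top_iff.mp
    (ne_top_of_le_ne_top (ord_algebraMap_ne_top hA ha)
      (Module.length_le_of_surjective (Submodule.factor hJa) (Submodule.factor_surjective hJa)))
  -- only `Q` contains `J`
  have honly : ∀ Q₂ : MaximalSpectrum C, Q₂ ≠ Q → ¬ J ≤ Q₂.asIdeal := by
    intro Q₂ hne hle
    obtain ⟨s, hsQ₂, hsQ⟩ := SetLike.not_le_iff_exists.mp fun h : Q₂.asIdeal ≤ Q.asIdeal =>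
      hne (MaximalSpectrum.ext (Q₂.isMaximal.eq_of_le Q.isMaximal.ne_top h))
    haveI : IsArtinianRing (C ⧸ J) := isArtinian_of_tower C (isFiniteLength_iff_isNoetherian_isArtinian.mp hJfl).2
    have hu : IsUnit (Ideal.Quotient.mk J s) := IsArtinianRing.isUnit_of_mem_nonZeroDivisors (by
      rw [mem_nonZeroDivisors_iff_right]
      intro w hw
      obtain ⟨w, rfl⟩ := Ideal.Quotient.mk_surjective w
      rw [← map_mul, Ideal.Quotient.eq_zero_iff_mem, Ideal.mem_comap, map_mul] at hw
      refine Ideal.Quotient.eq_zero_iff_mem.mpr (Ideal.mem_comap.mpr ?_)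
      exact (Ideal.mul_unit_mem_iff_mem _ (IsLocalization.map_units L (⟨s, hsQ⟩ : Q.asIdeal.primeCompl))).mp hw)
    obtain ⟨w, hw⟩ := hu.exists_left_inv
    obtain ⟨w, rfl⟩ := Ideal.Quotient.mk_surjective w
    rw [← map_mul, ← map_one (Ideal.Quotient.mk J), Ideal.Quotient.eq] at hw
    have h2 := Q₂.asIdeal.sub_mem (Q₂.asIdeal.mul_mem_left w hsQ₂) (hle hw)
    rw [sub_sub_cancel] at h2
    exact Q₂.isMaximal.ne_top ((Ideal.eq_top_iff_one _).mpr h2)
  -- the side of `C`
  have hleft : phi A z (C ⧸ J) = fct A π u₁ u₂ e₁ e₂ := by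
    rw [phi, Finset.prod_eq_single Q (fun Q₂ _ hne => ?_) (fun h => absurd (Finset.mem_univ _) h), hz, fct]
    · have hl : len Q.asIdeal (C ⧸ J) = Ring.ord L π := by
        rw [len_quotient, (Submodule.quotEquivOfEq _ _ hmapJ).length_eq]
        rfl
      rw [hl]
    · obtain ⟨s, hsJ, hs⟩ := SetLike.not_le_iff_exists.mp (honly Q₂ hne)
      rw [len_zero_of_killed Q₂.asIdeal (fun w => ⟨s, hs, by
        obtain ⟨w, rfl⟩ := Ideal.Quotient.mk_surjective w
        exact Ideal.Quotient.eq_zero_iff_mem.mpr (Ideal.mul_mem_right _ _ hsJ)⟩)]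
      exact pow_zero _
  -- the side of the base change
  obtain ⟨hbase, -⟩ := phi_base (A' := A') hm z (C ⧸ J) hJfl
  rw [← hleft, ← hbase,
    phi_congr A' _ (Algebra.TensorProduct.quotIdealMapEquivTensorQuot (A' ⊗[A] C) J).toLinearEquiv.symm, phi,
    ← Finset.prod_subtype (Finset.univ.filter fun Q' => below Q' = Q) (p := fun Q' => below Q' = Q) (by simp)
      (fun Q' => if h : below Q' = Q then (haveI := hlocC' Q';
        fct A' (Localization.localRingHom Q.asIdeal Q'.asIdeal (algebraMap C (A' ⊗[A] C))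
            (congrArg MaximalSpectrum.asIdeal h).symm π)
          (Units.map (Localization.localRingHom Q.asIdeal Q'.asIdeal (algebraMap C (A' ⊗[A] C))
            (congrArg MaximalSpectrum.asIdeal h).symm).toMonoidHom u₁)
          (Units.map (Localization.localRingHom Q.asIdeal Q'.asIdeal (algebraMap C (A' ⊗[A] C))
            (congrArg MaximalSpectrum.asIdeal h).symm).toMonoidHom u₂) e₁ e₂) else 1) |>.trans
        (Finset.prod_congr rfl fun Q' _ => dif_pos Q'.2), Finset.prod_filter]
  refine Finset.prod_congr rfl fun Q' _ => ?_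
  haveI := Q'.isMaximal
  haveI := hlocC' Q'
  by_cases h : below Q' = Q
  · subst h
    rw [if_pos rfl, dif_pos rfl]
    let φ := locHom Q'
    haveI : IsLocalHom φ := Localization.isLocalHom_localRingHom _ _ _ rfl
    have hres : algebraMap (A' ⊗[A] C) Q'.asIdeal.ResidueField (algebraMap C (A' ⊗[A] C) z) =
        rsym (Units.map φ.toMonoidHom u₁) (Units.map φ.toMonoidHom u₂) e₁ e₂ := by
      rw [← map_rsym φ, ← hz, IsScalarTower.algebraMap_apply C (Localization.AtPrime (below Q').asIdeal) (below Q').asIdeal.ResidueField,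
        IsScalarTower.algebraMap_apply (A' ⊗[A] C) (Localization.AtPrime Q'.asIdeal) Q'.asIdeal.ResidueField]
      exact congrArg (residue _) (Localization.localRingHom_to_map _ _ _ rfl z).symm
    have hmapJ' : (J.map (algebraMap C (A' ⊗[A] C))).map (algebraMap (A' ⊗[A] C) (Localization.AtPrime Q'.asIdeal)) = Ideal.span {φ π} := by
      rw [Ideal.map_map,
        show (algebraMap (A' ⊗[A] C) (Localization.AtPrime Q'.asIdeal)).comp (algebraMap C (A' ⊗[A] C)) = φ.comp (algebraMap C L) from
          RingHom.ext fun c => (Localization.localRingHom_to_map _ _ _ rfl c).symm,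
        ← Ideal.map_map, hmapJ, Ideal.map_span, Set.image_singleton]
    rw [hres, fct]
    congr 2
    rw [len_quotient, (Submodule.quotEquivOfEq _ _ hmapJ').length_eq]
    rfl
  · rw [if_neg h]
    obtain ⟨s, hsJ, hs⟩ := SetLike.not_le_iff_exists.mp (honly (below Q') h)
    rw [len_zero_of_killed Q'.asIdeal (fun w => ⟨algebraMap C (A' ⊗[A] C) s, fun hm => hs hm, by
      obtain ⟨w, rfl⟩ := Ideal.Quotient.mk_surjective w
      exact Ideal.Quotient.eq_zero_iff_mem.mpr (Ideal.mul_mem_right _ _ (Ideal.mem_map_of_mem _ hsJ))⟩)]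
    exact pow_zero _

end Groth.Agent.H3CAlg.Tame
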