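import Groth.Agent.H3CAlg.Tame.Laws
import Groth.Agent.H1CAlg.SimpleLoc
import Mathlib

/-!
# Products of norms weighted by local lengths, and determinants
-/

set_option autoImplicit false
set_option linter.style.haveILetI false
set_option linter.unusedSectionVars false
universe u

open IsLocalRing
open scoped nonZeroDivisors

namespace Groth.Agent.H3CAlg.Tame

variable (R : Type u) [CommRing R] [IsNoetherianRing R] [IsLocalRing R] {D : Type u} [CommRing D] [Algebra R D]
  [Module.Finite R D] [Fintype (MaximalSpectrum D)]
  [hloc : ∀ n : MaximalSpectrum D, IsLocalHom (algebraMap R (Localization.AtPrime n.asIdeal))]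

/-- The product of the norms of the residues of `z`, weighted by the local lengths of `M`. -/
noncomputable def phi (z : D) (M : Type u) [AddCommGroup M] [Module D M] : ResidueField R :=
  ∏ n : MaximalSpectrum D, Algebra.norm (ResidueField R) (algebraMap D n.asIdeal.ResidueField z) ^ (len n.asIdeal M).toNat

theorem phi_subsingleton (z : D) (M : Type u) [AddCommGroup M] [Module D M] [Subsingleton M] : phi R z M = 1 := by
  refine Finset.prod_eq_one fun n _ => ?_
  rw [len_zero_of_killed n.asIdeal (fun x => ⟨1, n.asIdeal.primeCompl.one_mem, Subsingleton.elim _ _⟩)]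
  exact pow_zero _

theorem phi_exact (z : D) {M N P : Type u} [AddCommGroup M] [Module D M] [AddCommGroup N] [Module D N]
    [AddCommGroup P] [Module D P] (f : M →ₗ[D] N) (g : N →ₗ[D] P) (hf : Function.Injective f)
    (hg : Function.Surjective g) (hex : Function.Exact f g) (hN : Module.length D N ≠ ⊤) :
    phi R z N = phi R z M * phi R z P := by
  unfold phi
  rw [← Finset.prod_mul_distrib]
  refine Finset.prod_congr rfl fun n _ => ?_
  rw [len_exact n.asIdeal f g hf hg hex, ENat.toNat_add, pow_add]
  · exact ne_top_of_le_ne_top (ne_top_of_le_ne_top hN (Module.length_le_of_injective f hf)) (len_le_length _)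
  · exact ne_top_of_le_ne_top (ne_top_of_le_ne_top hN (Module.length_le_of_surjective g hg)) (len_le_length _)

theorem phi_congr (z : D) {M N : Type u} [AddCommGroup M] [Module D M] [AddCommGroup N] [Module D N]
    (e : M ≃ₗ[D] N) : phi R z M = phi R z N := by
  unfold phi
  exact Finset.prod_congr rfl fun n _ => by rw [len_congr n.asIdeal e]

theorem phi_simple (z : D) (n : MaximalSpectrum D) :
    phi R z (D ⧸ n.asIdeal) = Algebra.norm (ResidueField R) (algebraMap D n.asIdeal.ResidueField z) := by
  classical
  haveI := n.isMaximal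
  haveI : IsSimpleModule D (D ⧸ n.asIdeal) := isSimpleModule_iff_isCoatom.mpr (Ideal.isMaximal_def.mp n.isMaximal)
  have hlen : ∀ k : MaximalSpectrum D, len k.asIdeal (D ⧸ n.asIdeal) = if n.asIdeal = k.asIdeal then 1 else 0 := fun k => by
    haveI := k.isMaximal
    exact H1CAlg.length_localized_simple k.asIdeal (D ⧸ n.asIdeal) n.asIdeal n.isMaximal fun r hr y => by
      obtain ⟨c, rfl⟩ := Ideal.Quotient.mk_surjective y
      exact Ideal.Quotient.eq_zero_iff_mem.mpr (Ideal.mul_mem_right c _ hr)
  rw [phi, Finset.prod_eq_single n (fun k _ hk => ?_) (fun h => absurd (Finset.mem_univ _) h), hlen, if_pos rfl, ENat.toNat_one, pow_one]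
  rw [hlen, if_neg fun h => hk (MaximalSpectrum.ext h.symm), ENat.toNat_zero, pow_zero]

/-- Multiplication by an element of `D` as a map linear over the residue field. -/
def mulRes (M : Type u) [AddCommGroup M] [Module D M] [Module R M] [IsScalarTower R D M]
    [Module (ResidueField R) M] [IsScalarTower R (ResidueField R) M] (z : D) : M →ₗ[ResidueField R] M where
  toFun := fun v => z • v
  map_add' := smul_add z
  map_smul' := fun c v => by
    obtain ⟨r, rfl⟩ := residue_surjective c
    simp only [RingHom.id_apply]
    rw [← ResidueField.algebraMap_eq, algebraMap_smul, algebraMap_smul, smul_comm]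

/-- For a module killed by the maximal ideal the weighted product of norms is the determinant. -/
theorem phi_eq_det (z : D) (M : Type u) [AddCommGroup M] [Module D M] [Module R M] [IsScalarTower R D M]
    [Module (ResidueField R) M] [IsScalarTower R (ResidueField R) M] [Module.Finite R M] :
    phi R z M = LinearMap.det (mulRes R M z) := by
  classical
  haveI : Module.Finite (ResidueField R) M := Module.Finite.of_restrictScalars_finite R _ _
  have hfl : IsFiniteLength D M := by
    refine Module.length_ne_top_iff.mp (ne_top_of_le_ne_top ?_ (length_le_restrict (A := R) (B := D) (M := M)))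
    rw [Module.length_eq_of_surjective (R := ResidueField R) residue_surjective]
    exact Module.length_ne_top
  suffices key : ∀ (M : Type u) [AddCommGroup M] [Module D M], IsFiniteLength D M →
      ∀ [Module R M] [IsScalarTower R D M] [Module (ResidueField R) M] [IsScalarTower R (ResidueField R) M]
        [Module.Finite (ResidueField R) M], phi R z M = LinearMap.det (mulRes R M z) from key M hfl
  intro M _ _ hfl
  induction hfl with
  | @of_subsingleton M _ _ _ =>
    intro _ _ _ _ _
    rw [phi_subsingleton, LinearMap.det_eq_one_of_subsingleton]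
  | @of_simple_quotient M _ _ P _ _ ih =>
    intro _ _ _ _ _
    let W : Submodule (ResidueField R) M :=
      { carrier := P
        add_mem' := P.add_mem
        zero_mem' := P.zero_mem
        smul_mem' := fun c v hv => by
          obtain ⟨r, rfl⟩ := residue_surjective c
          rw [← ResidueField.algebraMap_eq, algebraMap_smul]
          exact P.smul_of_tower_mem r hv }
    have hW : W ≤ W.comap (mulRes R M z) := fun v hv => P.smul_mem z hv
    rw [LinearMap.det_eq_det_mul_det W (mulRes R M z) hW]
    letI : Module (ResidueField R) P := W.module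
    haveI : IsScalarTower R (ResidueField R) P := ⟨fun r c v => Subtype.ext (smul_assoc r c (v : M))⟩
    haveI : Module.Finite (ResidueField R) P := inferInstanceAs (Module.Finite (ResidueField R) W)
    rw [phi_exact R z P.subtype P.mkQ P.subtype_injective P.mkQ_surjective (LinearMap.exact_subtype_mkQ P) ?_, ih]
    swap
    · refine ne_top_of_le_ne_top ?_ (length_le_restrict (A := R) (B := D) (M := M))
      rw [Module.length_eq_of_surjective (R := ResidueField R) residue_surjective]
      exact Module.length_ne_top
    congr 1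
    obtain ⟨m', hm', ⟨e⟩⟩ := isSimpleModule_iff_quot_maximal.mp (inferInstance : IsSimpleModule D (M ⧸ P))
    let n : MaximalSpectrum D := ⟨m', hm'⟩
    haveI := n.isMaximal
    rw [show phi R z (M ⧸ P) = _ from (phi_congr R z (e : (M ⧸ P) ≃ₗ[D] (D ⧸ n.asIdeal))).trans (phi_simple R z n), Algebra.norm_apply]
    let f0 : (M ⧸ P) ≃+ n.asIdeal.ResidueField := e.toAddEquiv.trans
      (AddEquiv.ofBijective (algebraMap (D ⧸ n.asIdeal) n.asIdeal.ResidueField).toAddMonoidHom
        n.asIdeal.bijective_algebraMap_quotient_residueField)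
    have hf0 : ∀ (d : D) (v : M ⧸ P), f0 (d • v) = algebraMap D n.asIdeal.ResidueField d * f0 v := fun d v => by
      show algebraMap (D ⧸ n.asIdeal) n.asIdeal.ResidueField (e (d • v)) = _ * algebraMap (D ⧸ n.asIdeal) n.asIdeal.ResidueField (e v)
      rw [map_smul, Algebra.smul_def, map_mul, ← IsScalarTower.algebraMap_apply]
    haveI : IsScalarTower R (ResidueField R) n.asIdeal.ResidueField := .of_algebraMap_eq fun r => rfl
    let g : M →ₗ[ResidueField R] n.asIdeal.ResidueField :=
      { toFun := fun v => f0 (Submodule.Quotient.mk v)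
        map_add' := fun v w => by rw [Submodule.Quotient.mk_add, map_add]
        map_smul' := fun c v => by
          obtain ⟨r, rfl⟩ := residue_surjective c
          simp only [RingHom.id_apply]
          rw [← ResidueField.algebraMap_eq, algebraMap_smul (ResidueField R) r v,
            algebraMap_smul (ResidueField R) r (f0 (Submodule.Quotient.mk v)), ← algebraMap_smul D r v, Submodule.Quotient.mk_smul, hf0,
            ← IsScalarTower.algebraMap_apply, ← Algebra.smul_def] }
    have hgk : LinearMap.ker g = W := by
      ext v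
      rw [LinearMap.mem_ker]
      show f0 (Submodule.Quotient.mk v) = 0 ↔ _
      rw [AddEquiv.map_eq_zero_iff, Submodule.Quotient.mk_eq_zero]
      rfl
    have hgs : Function.Surjective g := f0.surjective.comp (Submodule.Quotient.mk_surjective P)
    let f : (M ⧸ W) ≃ₗ[ResidueField R] n.asIdeal.ResidueField :=
      (Submodule.quotEquivOfEq _ _ hgk.symm).trans (g.quotKerEquivOfSurjective hgs)
    rw [← LinearMap.det_conj (W.mapQ W (mulRes R M z) hW) f]
    congr 1
    refine LinearMap.ext fun y => ?_
    obtain ⟨v, hv⟩ := f.surjective y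
    subst hv
    obtain ⟨v, rfl⟩ := Submodule.Quotient.mk_surjective W v
    simp only [LinearMap.comp_apply, LinearEquiv.coe_coe, LinearEquiv.symm_apply_apply]
    exact (hf0 z (Submodule.Quotient.mk v)).symm

/-- The weighted product for an algebra with a basis modulo an ideal on which `z` acts by a matrix
with entries in the base. -/
theorem phi_of_basis {F : Type u} [CommRing F] [Algebra D F] [Algebra R F] [IsScalarTower R D F]
    {d : ℕ} (b : Fin d → F) (𝔞 : Ideal R) (h𝔞 : 𝔞 ≠ ⊤) (hfin : Module.length R (R ⧸ 𝔞) ≠ ⊤)
    (hspan : Submodule.span R (Set.range b) = ⊤)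
    (hind : ∀ c : Fin d → R, ∑ i, c i • b i = 0 ↔ ∀ i, c i ∈ 𝔞)
    (z : D) (X : Matrix (Fin d) (Fin d) R) (hX : ∀ j, algebraMap D F z * b j = ∑ i, X i j • b i) :
    phi R z F = residue R X.det ^ (Module.length R (R ⧸ 𝔞)).toNat := by
  classical
  have hmem : ∀ (J : Ideal R), 𝔞 ≤ J → ∀ c : Fin d → R,
      ∑ i, c i • b i ∈ J.map (algebraMap R F) ↔ ∀ i, c i ∈ J := by
    intro J hJ c
    constructor
    · intro h
      have h' : ∑ i, c i • b i ∈ J • (⊤ : Submodule R F) := by
        rw [Ideal.smul_top_eq_map, Submodule.restrictScalars_mem]; exact h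
      rw [← hspan] at h'
      obtain ⟨g, hg, hsum⟩ := (Submodule.mem_ideal_smul_span_iff_exists_sum _ _ _).mp h'
      rw [Finsupp.sum_fintype g (fun (i : Fin d) (r : R) => r • b i) (fun i => zero_smul R _)] at hsum
      intro i
      have := (hind (fun j => c j - g j)).mp (by simp only [sub_smul, Finset.sum_sub_distrib]; rw [hsum, sub_self]) i
      simpa using J.add_mem (hJ this) (hg i)
    · intro h
      refine Ideal.sum_mem _ fun i _ => ?_
      rw [Algebra.smul_def]
      exact Ideal.mul_mem_right _ _ (Ideal.mem_map_of_mem _ (h i))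
  have hrep : ∀ y : F, ∃ c : Fin d → R, y = ∑ i, c i • b i := fun y => by
    obtain ⟨c, hc⟩ := (Submodule.mem_span_range_iff_exists_fun R).mp (hspan.ge (show y ∈ (⊤ : Submodule R F) from trivial))
    exact ⟨c, hc.symm⟩
  haveI : Module.Finite R F := ⟨⟨Finset.univ.image b, by rw [Finset.coe_image, Finset.coe_univ, Set.image_univ, hspan]⟩⟩
  suffices key : ∀ (N : ℕ) (J : Ideal R), 𝔞 ≤ J → (Module.length R (R ⧸ J)).toNat = N →
      phi R z (F ⧸ J.map (algebraMap R F)) = residue R X.det ^ N by
    have h := key _ 𝔞 le_rfl rfl
    rw [← h]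
    refine phi_congr R z ?_
    have hbot : (𝔞.map (algebraMap R F)).restrictScalars D = ⊥ := by
      rw [eq_bot_iff]
      intro y hy
      obtain ⟨c, rfl⟩ := hrep y
      exact (hind c).mpr ((hmem 𝔞 le_rfl c).mp hy)
    exact ((Submodule.quotEquivOfEqBot _ hbot).symm.trans (Submodule.Quotient.restrictScalarsEquiv D _))
  have hfinJ : ∀ J : Ideal R, 𝔞 ≤ J → Module.length R (R ⧸ J) ≠ ⊤ := fun J hJ =>
    ne_top_of_le_ne_top hfin (Module.length_le_of_surjective (Submodule.factor hJ) (Submodule.factor_surjective hJ))
  intro N
  induction N with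
  | zero =>
    intro J hJ hN
    rw [ENat.toNat_eq_zero, or_iff_left (hfinJ J hJ), Module.length_eq_zero_iff, Ideal.Quotient.subsingleton_iff] at hN
    subst hN
    haveI : Subsingleton (F ⧸ (⊤ : Ideal R).map (algebraMap R F)) := by
      rw [Ideal.Quotient.subsingleton_iff, Ideal.map_top]
    rw [phi_subsingleton, pow_zero]
  | succ N ih =>
    intro J hJ hN
    -- a socle element
    have hne : J ≠ ⊤ := fun h => by
      subst h
      haveI : Subsingleton (R ⧸ (⊤ : Ideal R)) := Ideal.Quotient.subsingleton_iff.mpr rfl
      rw [Module.length_eq_zero, ENat.toNat_zero] at hN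
      omega
    obtain ⟨g, hg, hgm⟩ : ∃ g, g ∉ J ∧ ∀ r ∈ maximalIdeal R, r * g ∈ J := by
      haveI := Ideal.Quotient.nontrivial_iff.mpr hne
      obtain ⟨P, hP⟩ := associatedPrimes.nonempty R (R ⧸ J)
      obtain ⟨hPp, y, hy⟩ := Submodule.isAssociatedPrime_iff.mp hP
      obtain ⟨g, rfl⟩ := Ideal.Quotient.mk_surjective y
      have hPsupp : (⟨P, hPp⟩ : PrimeSpectrum R) ∈ Module.support R (R ⧸ J) := by
        rw [Module.support_eq_zeroLocus, PrimeSpectrum.mem_zeroLocus]
        intro r hr
        show r ∈ P
        rw [hy, Submodule.mem_colon_singleton, Submodule.mem_bot]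
        exact Module.mem_annihilator.mp hr _
      have hfl : IsFiniteLength R (R ⧸ J) := Module.length_ne_top_iff.mp (hfinJ J hJ)
      obtain ⟨hA, hN'⟩ := isFiniteLength_iff_isNoetherian_isArtinian.mp hfl
      haveI : IsArtinian R (R ⧸ J) := hN'
      haveI : IsArtinianRing (R ⧸ J) := isArtinian_of_tower R inferInstance
      have hPJ : J ≤ P := by
        rw [Module.support_eq_zeroLocus, PrimeSpectrum.mem_zeroLocus, Ideal.annihilator_quotient] at hPsupp
        exact hPsupp
      haveI : (P.map (Ideal.Quotient.mk J)).IsPrime :=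
        Ideal.map_isPrime_of_surjective Ideal.Quotient.mk_surjective (by rwa [Ideal.mk_ker])
      have hmx := Ideal.comap_isMaximal_of_surjective (Ideal.Quotient.mk J) Ideal.Quotient.mk_surjective
        (K := P.map (Ideal.Quotient.mk J))
      rw [Ideal.comap_map_of_surjective' _ Ideal.Quotient.mk_surjective, Ideal.mk_ker, sup_eq_left.mpr hPJ] at hmx
      have hPm := IsLocalRing.eq_maximalIdeal hmx
      refine ⟨g, fun h => hPp.ne_top ?_, fun r hr => ?_⟩
      · rw [hy, Ideal.Quotient.eq_zero_iff_mem.mpr h, Ideal.eq_top_iff_one, Submodule.mem_colon_singleton, smul_zero]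
        exact Submodule.zero_mem _
      · have := hPm.ge hr
        rw [hy, Submodule.mem_colon_singleton, Submodule.mem_bot] at this
        exact Ideal.Quotient.eq_zero_iff_mem.mp this
    let J' := J ⊔ Ideal.span {g}
    have hJJ' : J ≤ J' := le_sup_left
    -- the base: `R/m → R/J → R/J'`
    have hlenR : Module.length R (R ⧸ J) = 1 + Module.length R (R ⧸ J') := by
      let ι : (R ⧸ maximalIdeal R) →ₗ[R] R ⧸ J := (maximalIdeal R).liftQ ((Submodule.mkQ J).comp (LinearMap.toSpanSingleton R R g))
        (fun r hr => by
          rw [LinearMap.mem_ker]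
          exact Ideal.Quotient.eq_zero_iff_mem.mpr (hgm r hr))
      haveI : IsSimpleModule R (R ⧸ maximalIdeal R) := isSimpleModule_iff_isCoatom.mpr (Ideal.isMaximal_def.mp inferInstance)
      rw [Module.length_eq_add_of_exact ι (Submodule.factor hJJ') ?_ (Submodule.factor_surjective hJJ') ?_, Module.length_eq_one]
      · rw [injective_iff_map_eq_zero]
        intro w hw
        obtain ⟨r, rfl⟩ := Ideal.Quotient.mk_surjective w
        refine Ideal.Quotient.eq_zero_iff_mem.mpr ?_
        have hw' : r * g ∈ J := Ideal.Quotient.eq_zero_iff_mem.mp hw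
        by_contra hu
        exact hg ((Ideal.unit_mul_mem_iff_mem J (IsLocalRing.notMem_maximalIdeal.mp hu)).mp hw')
      · intro w
        obtain ⟨r, rfl⟩ := Ideal.Quotient.mk_surjective w
        show Ideal.Quotient.mk J' r = 0 ↔ _
        rw [Ideal.Quotient.eq_zero_iff_mem]
        constructor
        · intro hr
          obtain ⟨j, hj, t, ht, hjt⟩ := Submodule.mem_sup.mp hr
          obtain ⟨s, rfl⟩ := Ideal.mem_span_singleton'.mp ht
          refine ⟨Ideal.Quotient.mk _ s, ?_⟩
          show Ideal.Quotient.mk J (s * g) = Ideal.Quotient.mk J r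
          rw [← hjt, map_add, Ideal.Quotient.eq_zero_iff_mem.mpr hj, zero_add]
        · rintro ⟨w', hw'⟩
          obtain ⟨s, rfl⟩ := Ideal.Quotient.mk_surjective w'
          have : s * g - r ∈ J := Ideal.Quotient.eq.mp hw'
          have h2 := J'.sub_mem (Ideal.mem_sup_right (Ideal.mul_mem_left _ s (Ideal.mem_span_singleton_self g))) (hJJ' this)
          rwa [sub_sub_cancel] at h2
    have hN' : (Module.length R (R ⧸ J')).toNat = N := by
      rw [hlenR, ENat.toNat_add ENat.one_ne_top (hfinJ J' (hJ.trans hJJ')), ENat.toNat_one] at hN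
      omega
    -- the sequence `F/mF → F/JF → F/J'F`
    let mF := (maximalIdeal R).map (algebraMap R F)
    have hmF : (mF.restrictScalars D) ≤ LinearMap.ker
        ((Submodule.mkQ ((J.map (algebraMap R F)).restrictScalars D)).comp ((algebraMap R D g) • (LinearMap.id : F →ₗ[D] F))) := by
      intro y hy
      obtain ⟨c, rfl⟩ := hrep y
      rw [LinearMap.mem_ker, LinearMap.comp_apply, Submodule.mkQ_apply, Submodule.Quotient.mk_eq_zero]
      show algebraMap R D g • ∑ i, c i • b i ∈ J.map (algebraMap R F)
      rw [algebraMap_smul, Finset.smul_sum]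
      simp only [smul_smul]
      refine (hmem J hJ _).mpr fun i => ?_
      rw [mul_comm]
      exact hgm _ ((hmem _ (IsLocalRing.le_maximalIdeal h𝔞) c).mp hy i)
    let ι : (F ⧸ mF.restrictScalars D) →ₗ[D] F ⧸ (J.map (algebraMap R F)).restrictScalars D := Submodule.liftQ _ _ hmF
    have hle' : (J.map (algebraMap R F)).restrictScalars D ≤ (J'.map (algebraMap R F)).restrictScalars D :=
      fun y hy => Ideal.map_mono hJJ' hy
    have hfinF : Module.length D (F ⧸ (J.map (algebraMap R F)).restrictScalars D) ≠ ⊤ := by
      refine ne_top_of_le_ne_top ?_ (length_le_restrict (A := R) (B := D) (M := F ⧸ (J.map (algebraMap R F)).restrictScalars D))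
      let π : (Fin d → R ⧸ J) →ₗ[R] F ⧸ (J.map (algebraMap R F)).restrictScalars D :=
        LinearMap.lsum R (fun _ => R ⧸ J) R fun i => J.liftQ
          (LinearMap.toSpanSingleton R _ (Submodule.Quotient.mk (b i))) (fun r hr => by
            rw [LinearMap.mem_ker, LinearMap.toSpanSingleton_apply, ← Submodule.Quotient.mk_smul, Submodule.Quotient.mk_eq_zero]
            show r • b i ∈ J.map (algebraMap R F)
            rw [Algebra.smul_def]
            exact Ideal.mul_mem_right _ _ (Ideal.mem_map_of_mem _ hr))
      refine ne_top_of_le_ne_top ?_ (Module.length_le_of_surjective π fun y => ?_)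
      · haveI : IsNoetherian R (R ⧸ J) := (isFiniteLength_iff_isNoetherian_isArtinian.mp (Module.length_ne_top_iff.mp (hfinJ J hJ))).1
        haveI : IsArtinian R (R ⧸ J) := (isFiniteLength_iff_isNoetherian_isArtinian.mp (Module.length_ne_top_iff.mp (hfinJ J hJ))).2
        exact Module.length_ne_top
      · obtain ⟨y, rfl⟩ := Submodule.Quotient.mk_surjective _ y
        obtain ⟨c, rfl⟩ := hrep y
        refine ⟨fun i => Ideal.Quotient.mk J (c i), ?_⟩
        simp only [π, LinearMap.lsum_apply, LinearMap.coe_sum, Finset.sum_apply, LinearMap.comp_apply, LinearMap.proj_apply]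
        rw [← Submodule.mkQ_apply _ (∑ i, c i • b i), ← LinearMap.coe_restrictScalars R (Submodule.mkQ _), map_sum]
        exact Finset.sum_congr rfl fun i _ => rfl
    have hι : Function.Injective ι := by
      rw [injective_iff_map_eq_zero]
      intro w hw
      obtain ⟨y, rfl⟩ := Submodule.Quotient.mk_surjective _ w
      obtain ⟨c, rfl⟩ := hrep y
      rw [Submodule.Quotient.mk_eq_zero]
      show _ ∈ (maximalIdeal R).map (algebraMap R F)
      replace hw : algebraMap R D g • ∑ i, c i • b i ∈ J.map (algebraMap R F) := (Submodule.Quotient.mk_eq_zero _).mp hw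
      rw [algebraMap_smul, Finset.smul_sum] at hw
      simp only [smul_smul] at hw
      refine (hmem _ (IsLocalRing.le_maximalIdeal h𝔞) c).mpr fun i => ?_
      by_contra hu
      have h2 := (hmem J hJ _).mp hw i
      rw [mul_comm] at h2
      exact hg ((Ideal.unit_mul_mem_iff_mem J (IsLocalRing.notMem_maximalIdeal.mp hu)).mp h2)
    have hex : Function.Exact ι (Submodule.factor hle') := by
      intro w
      obtain ⟨y, rfl⟩ := Submodule.Quotient.mk_surjective _ w
      show Submodule.Quotient.mk y = 0 ↔ _
      rw [Submodule.Quotient.mk_eq_zero]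
      show y ∈ (J ⊔ Ideal.span {g}).map (algebraMap R F) ↔ _
      rw [Ideal.map_sup, Ideal.map_span, Set.image_singleton]
      constructor
      · intro hy
        obtain ⟨j, hj, t, ht, rfl⟩ := Submodule.mem_sup.mp hy
        obtain ⟨s, rfl⟩ := Ideal.mem_span_singleton'.mp ht
        refine ⟨Submodule.Quotient.mk s, (Submodule.Quotient.eq _).mpr ?_⟩
        show algebraMap R D g • s - (j + s * algebraMap R F g) ∈ J.map (algebraMap R F)
        rw [algebraMap_smul, Algebra.smul_def, mul_comm (algebraMap R F g), sub_add_cancel_right]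
        exact Submodule.neg_mem _ hj
      · rintro ⟨w', hw'⟩
        obtain ⟨s, rfl⟩ := Submodule.Quotient.mk_surjective _ w'
        have h2 : algebraMap R D g • s - y ∈ J.map (algebraMap R F) := (Submodule.Quotient.eq _).mp hw'
        rw [algebraMap_smul, Algebra.smul_def, mul_comm (algebraMap R F g)] at h2
        have h3 := Submodule.sub_mem _ (Ideal.mem_sup_right (S := J.map (algebraMap R F))
          (Ideal.mul_mem_left _ s (Ideal.mem_span_singleton_self (algebraMap R F g)))) (Ideal.mem_sup_left h2)
        rwa [sub_sub_cancel] at h3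
    rw [← phi_congr R z (Submodule.Quotient.restrictScalarsEquiv D (J.map (algebraMap R F))),
      phi_exact R z ι (Submodule.factor hle') hι (Submodule.factor_surjective hle') hex hfinF,
      phi_congr R z (Submodule.Quotient.restrictScalarsEquiv D (J'.map (algebraMap R F))), ih J' (hJ.trans hJJ') hN',
      pow_succ']
    congr 1
    -- the determinant on `F/mF`
    rw [phi_congr R z (Submodule.Quotient.restrictScalarsEquiv D mF)]
    letI : Algebra (ResidueField R) (F ⧸ mF) :=
      (Ideal.quotientMap mF (algebraMap R F) Ideal.le_comap_map).toAlgebra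
    haveI : IsScalarTower R (ResidueField R) (F ⧸ mF) := .of_algebraMap_eq fun r => rfl
    rw [phi_eq_det R z (F ⧸ mF)]
    have hind' : LinearIndependent (ResidueField R) (fun i => Ideal.Quotient.mk mF (b i)) := by
      rw [Fintype.linearIndependent_iff]
      intro c hc i
      choose r hr using fun i => residue_surjective (c i)
      have h2 : Ideal.Quotient.mk mF (∑ i, r i • b i) = 0 := by
        rw [map_sum, ← hc]
        refine Finset.sum_congr rfl fun j _ => ?_
        rw [← hr j, ← ResidueField.algebraMap_eq, algebraMap_smul]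
        rfl
      rw [← hr i]
      exact (residue_eq_zero_iff _).mpr ((hmem _ (IsLocalRing.le_maximalIdeal h𝔞) r).mp (Ideal.Quotient.eq_zero_iff_mem.mp h2) i)
    let β : Module.Basis (Fin d) (ResidueField R) (F ⧸ mF) := Module.Basis.mk hind' (by
      intro w _
      obtain ⟨y, rfl⟩ := Ideal.Quotient.mk_surjective w
      obtain ⟨c, rfl⟩ := hrep y
      rw [map_sum]
      refine Submodule.sum_mem _ fun i _ => ?_
      have : Ideal.Quotient.mk mF (c i • b i) = residue R (c i) • Ideal.Quotient.mk mF (b i) := by
        rw [← ResidueField.algebraMap_eq, algebraMap_smul]; rfl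
      rw [this]
      exact Submodule.smul_mem _ _ (Submodule.subset_span ⟨i, rfl⟩))
    rw [← LinearMap.det_toMatrix β, RingHom.map_det]
    congr 1
    ext i j
    rw [LinearMap.toMatrix_apply, RingHom.mapMatrix_apply, Matrix.map_apply]
    have h2 : mulRes R (F ⧸ mF) z (β j) = ∑ k, residue R (X k j) • β k := by
      simp only [β, Module.Basis.mk_apply]
      show Ideal.Quotient.mk mF (z • b j) = _
      rw [Algebra.smul_def, hX j, map_sum]
      refine Finset.sum_congr rfl fun k _ => ?_
      rw [← ResidueField.algebraMap_eq, algebraMap_smul]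
      rfl
    rw [h2, β.repr_sum_self]

end Groth.Agent.H3CAlg.Tame
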