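import Groth.Agent.H3CAlg.Tame.Relation
import Groth.Agent.H22Alg.Lattice
import Mathlib

/-!
# Refinement of finitely many invertible elements into pairwise coprime atoms
-/

set_option autoImplicit false
set_option linter.style.haveILetI false
set_option linter.unusedSectionVars false
universe u

open IsLocalRing Finset
open scoped nonZeroDivisors Pointwise

namespace Groth.Agent.H3CAlg.Tame

variable {A : Type u} [CommRing A] [IsNoetherianRing A] [IsLocalRing A]

section generic

variable {Q : Type u} [CommRing Q] [Algebra A Q]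

/-- A finite subalgebra with a finite set of integral elements adjoined. -/
theorem exists_finite_sup (B : Subalgebra A Q) [Module.Finite A B]
    (s : Set Q) (hs : s.Finite) (hint : ∀ x ∈ s, IsIntegral A x) :
    ∃ C : Subalgebra A Q, B ≤ C ∧ Module.Finite A C ∧ s ⊆ C := by
  classical
  obtain ⟨T, hT⟩ := (Module.Finite.iff_fg (N := B.toSubmodule)).mp ‹_›
  refine ⟨Algebra.adjoin A (↑T ∪ s), fun x hx => ?_, ?_, fun x hx => Algebra.subset_adjoin (Or.inr hx)⟩
  · have h1 : x ∈ Submodule.span A (T : Set Q) := hT.ge hx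
    have h2 : Submodule.span A (T : Set Q) ≤ Subalgebra.toSubmodule (Algebra.adjoin A ((T : Set Q) ∪ s)) :=
      Submodule.span_le.mpr (fun y hy => Algebra.subset_adjoin (Or.inl hy))
    exact h2 h1
  · refine Module.Finite.iff_fg.mpr (fg_adjoin_of_finite (T.finite_toSet.union hs) ?_)
    rintro x (hx | hx)
    · have hxB : x ∈ B := hT.le (Submodule.subset_span hx)
      exact (IsIntegral.of_finite A (⟨x, hxB⟩ : B)).map B.val
    · exact hint x hx

variable {D : Type u} [CommRing D] [Algebra A D]

theorem ord_le_length (x : D) : Ring.ord D x ≤ Module.length A (D ⧸ Ideal.span {x}) := by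
  have h := Submodule.length_le_length_restrictScalars A (⊤ : Submodule D (D ⧸ Ideal.span {x}))
  rw [Submodule.restrictScalars_top, Submodule.topEquiv.length_eq, Submodule.topEquiv.length_eq] at h
  exact h

theorem length_span_mul (x y : D) (hy : y ∈ D⁰) :
    Module.length A (D ⧸ Ideal.span {x * y}) =
      Module.length A (D ⧸ Ideal.span {x}) + Module.length A (D ⧸ Ideal.span {y}) := by
  have lem : y • Ideal.span ({x} : Set D) = Ideal.span {x * y} := by
    rw [← Submodule.singleton_set_smul]
    simp [← Ideal.submodule_span_eq, Submodule.set_smul_span, mul_comm]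
  rw [← lem]
  exact Module.length_eq_add_of_exact ((Ideal.mulQuot y (Ideal.span {x})).restrictScalars A)
    ((Ideal.quotOfMul y (Ideal.span {x})).restrictScalars A) (Ideal.mulQuot_injective _ hy)
    (Ideal.quotOfMul_surjective _) (Ideal.exact_mulQuot_quotOfMul _)

theorem restrictScalars_length (x : D) :
    Module.length A (D ⧸ (Ideal.span {x}).restrictScalars A) = Module.length A (D ⧸ Ideal.span {x}) :=
  (Submodule.Quotient.restrictScalarsEquiv A (Ideal.span {x})).length_eq

end generic

theorem mem_nonZeroDivisors_of_isUnit (B : Subalgebra A (FractionRing A)) {x : B}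
    (hx : IsUnit (x : FractionRing A)) : x ∈ (↥B)⁰ := by
  rw [mem_nonZeroDivisors_iff_right]
  intro y hy
  exact Subtype.ext (hx.mul_left_eq_zero.mp (congrArg Subtype.val hy))

/-- An invertible element of the total ring lying in a subalgebra divides a nonzerodivisor of `A`. -/
theorem exists_dvd_algebraMap (B : Subalgebra A (FractionRing A)) {x : B}
    (hx : IsUnit (x : FractionRing A)) : ∃ s ∈ A⁰, x ∣ algebraMap A B s := by
  obtain ⟨y, hy⟩ := hx.exists_left_inv
  obtain ⟨⟨r, s⟩, hr⟩ := IsLocalization.surj A⁰ y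
  refine ⟨s, s.2, algebraMap A B r, Subtype.ext ?_⟩
  show algebraMap A (FractionRing A) s = (x : FractionRing A) * algebraMap A (FractionRing A) r
  rw [← hr, ← mul_assoc, mul_comm (x : FractionRing A), hy, one_mul]

theorem exists_pow_le_span_of_isUnit (hA : ringKrullDim A = 1) (B : Subalgebra A (FractionRing A)) {x : B}
    (hx : IsUnit (x : FractionRing A)) :
    ∃ n : ℕ, ∀ r ∈ maximalIdeal A ^ n, ∀ b : B, r • b ∈ Ideal.span {x} := by
  obtain ⟨s, hs, hxs⟩ := exists_dvd_algebraMap B hx
  obtain ⟨n, hn⟩ := exists_pow_le_span hA hs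
  refine ⟨n, fun r hr b => ?_⟩
  obtain ⟨c, rfl⟩ := Ideal.mem_span_singleton'.mp (hn hr)
  rw [Algebra.smul_def, map_mul]
  exact Ideal.mem_span_singleton.mpr ((hxs.mul_left _).mul_right _)

theorem length_quot_span_ne_top (hA : ringKrullDim A = 1) (B : Subalgebra A (FractionRing A))
    [Module.Finite A B] {x : B} (hx : IsUnit (x : FractionRing A)) :
    Module.length A (↥B ⧸ Ideal.span {x}) ≠ ⊤ := by
  obtain ⟨n, hn⟩ := exists_pow_le_span_of_isUnit hA B hx
  refine length_ne_top_of_pow (n := n) fun r hr z => ?_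
  obtain ⟨b, rfl⟩ := Ideal.Quotient.mk_surjective z
  exact Ideal.Quotient.eq_zero_iff_mem.mpr (hn r hr b)

theorem ord_ne_top (hA : ringKrullDim A = 1) (B : Subalgebra A (FractionRing A))
    [Module.Finite A B] {x : B} (hx : IsUnit (x : FractionRing A)) : Ring.ord B x ≠ ⊤ :=
  ne_top_of_le_ne_top (length_quot_span_ne_top hA B hx) (ord_le_length (A := A) x)

/-- The length over `A` of the quotient by a principal ideal. -/
noncomputable def mu (B : Subalgebra A (FractionRing A)) (x : B) : ℕ :=
  (Module.length A (↥B ⧸ Ideal.span {x})).toNat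

theorem length_quot_eq_lattice (B : Subalgebra A (FractionRing A)) (x : B) :
    Module.length A (↥B ⧸ Ideal.span {x}) = Module.length A (↥B.toSubmodule ⧸
      (B.toSubmodule.map (LinearMap.mulLeft A (x : FractionRing A))).submoduleOf B.toSubmodule) := by
  let ψ : (↥B) →ₗ[A] ↥B.toSubmodule ⧸
      (B.toSubmodule.map (LinearMap.mulLeft A (x : FractionRing A))).submoduleOf B.toSubmodule :=
    (Submodule.mkQ _).comp (LinearMap.id : ↥B.toSubmodule →ₗ[A] ↥B.toSubmodule)
  have hs : Function.Surjective ψ := Submodule.mkQ_surjective _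
  have hk : LinearMap.ker ψ = (Ideal.span {x}).restrictScalars A := by
    ext b
    rw [LinearMap.mem_ker, Submodule.restrictScalars_mem, Ideal.mem_span_singleton']
    show (Submodule.Quotient.mk (p := _) (b : ↥B.toSubmodule)) = 0 ↔ _
    rw [Submodule.Quotient.mk_eq_zero]
    constructor
    · rintro ⟨c, hc, h⟩
      exact ⟨⟨c, hc⟩, Subtype.ext ((mul_comm c (x : FractionRing A)).trans h)⟩
    · rintro ⟨c, h⟩
      exact ⟨c, c.2, (mul_comm (x : FractionRing A) c).trans (congrArg Subtype.val h)⟩
  rw [← restrictScalars_length (A := A) x, (Submodule.quotEquivOfEq _ _ hk.symm).length_eq]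
  exact (ψ.quotKerEquivOfSurjective hs).length_eq

/-- The length does not change in a bigger finite subalgebra. -/
theorem mu_inclusion (hA : ringKrullDim A = 1) {B C : Subalgebra A (FractionRing A)} [Module.Finite A B]
    [Module.Finite A C] (hBC : B ≤ C) (x : B) (hx : IsUnit (x : FractionRing A)) :
    mu C (Subalgebra.inclusion hBC x) = mu B x := by
  let m := LinearMap.mulLeft A (x : FractionRing A)
  have hxB : B.toSubmodule.map m ≤ B.toSubmodule := by
    rintro _ ⟨b, hb, rfl⟩; exact B.mul_mem x.2 hb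
  have hxC : C.toSubmodule.map m ≤ C.toSubmodule := by
    rintro _ ⟨b, hb, rfl⟩; exact C.mul_mem (hBC x.2) hb
  have hle : B.toSubmodule ≤ C.toSubmodule := hBC
  have h1 := H22Alg.length_submoduleOf_trans (A := A) hxB hle
  have h2 := H22Alg.length_submoduleOf_trans (A := A) (Submodule.map_mono hle : B.toSubmodule.map m ≤ C.toSubmodule.map m) hxC
  have h3 : Module.length A (↥(C.toSubmodule.map m) ⧸ (B.toSubmodule.map m).submoduleOf (C.toSubmodule.map m)) =
      Module.length A (↥C.toSubmodule ⧸ B.toSubmodule.submoduleOf C.toSubmodule) := by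
    let ψ : ↥C.toSubmodule →ₗ[A] ↥(C.toSubmodule.map m) ⧸ (B.toSubmodule.map m).submoduleOf (C.toSubmodule.map m) :=
      (Submodule.mkQ _).comp (m.submoduleMap C.toSubmodule)
    have hs : Function.Surjective ψ :=
      (Submodule.mkQ_surjective _).comp (LinearMap.submoduleMap_surjective m _)
    have hk : LinearMap.ker ψ = B.toSubmodule.submoduleOf C.toSubmodule := by
      ext c
      rw [LinearMap.mem_ker]
      show Submodule.Quotient.mk (m.submoduleMap C.toSubmodule c) = 0 ↔ _
      rw [Submodule.Quotient.mk_eq_zero]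
      constructor
      · rintro ⟨b, hb, h⟩
        have : b = (c : FractionRing A) := hx.mul_left_cancel h
        show (c : FractionRing A) ∈ B.toSubmodule
        rw [← this]
        exact hb
      · intro hc
        exact ⟨c, hc, rfl⟩
    exact ((Submodule.quotEquivOfEq _ _ hk.symm).trans (ψ.quotKerEquivOfSurjective hs)).length_eq.symm
  obtain ⟨n, hn⟩ := exists_pow_mul_mem hA (M := C.toSubmodule) (Module.Finite.iff_fg.mp ‹_›)
  haveI : Module.Finite A C.toSubmodule := ‹Module.Finite A C›
  have hD : Module.length A (↥C.toSubmodule ⧸ B.toSubmodule.submoduleOf C.toSubmodule) ≠ ⊤ := by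
    refine length_ne_top_of_pow (n := n) fun r hr z => ?_
    obtain ⟨⟨c, hc⟩, rfl⟩ := Submodule.Quotient.mk_surjective _ z
    obtain ⟨a, ha⟩ := hn r hr c hc
    exact (Submodule.Quotient.mk_eq_zero _).mpr (show r • c ∈ B from ha ▸ B.algebraMap_mem a)
  rw [h3] at h2
  rw [h2, add_comm] at h1
  rw [add_comm] at h1
  have key := ENat.add_right_injective_of_ne_top hD (h1.trans (add_comm _ _))
  unfold mu
  rw [length_quot_eq_lattice, length_quot_eq_lattice]
  exact congrArg ENat.toNat key

variable (hA : ringKrullDim A = 1)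
include hA

/-- After a finite extension one of two invertible elements divides the other at every maximal ideal. -/
theorem exists_ext_dichotomy (B : Subalgebra A (FractionRing A)) [Module.Finite A B] (a b : B)
    (ha : IsUnit (a : FractionRing A)) :
    ∃ (C : Subalgebra A (FractionRing A)) (hBC : B ≤ C), Module.Finite A C ∧
      ∀ Q : MaximalSpectrum C,
        (∃ s : C, s ∉ Q.asIdeal ∧ Subalgebra.inclusion hBC a ∣ s * Subalgebra.inclusion hBC b) ∨
        (∃ s : C, s ∉ Q.asIdeal ∧ Subalgebra.inclusion hBC b ∣ s * Subalgebra.inclusion hBC a) := by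
  classical
  haveI : Finite (MaximalSpectrum B) := H22Alg.finite_maximalSpectrum_of_finite A B
  haveI := Fintype.ofFinite (MaximalSpectrum B)
  obtain ⟨ai, hai⟩ := ha.exists_left_inv
  let c : FractionRing A := (b : FractionRing A) * ai
  have hca : c * a = (b : FractionRing A) := by simp only [c]; rw [mul_assoc, hai, mul_one]
  have hex : ∀ q : MaximalSpectrum B, ∃ (d : ℕ) (g : ℕ → B),
      ∑ i ∈ range (d + 1), (g i : FractionRing A) * c ^ i = 0 ∧ ∃ i ≤ d, g i ∉ q.asIdeal := by
    intro q
    by_cases hab : a ∈ q.asIdeal ∧ b ∈ q.asIdeal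
    · haveI := q.isMaximal
      obtain ⟨d, g, hg, hgq⟩ := exists_relation q.asIdeal a b hab.1 hab.2
        (mem_nonZeroDivisors_of_isUnit B ha) (ord_ne_top hA B ha)
      refine ⟨d, g, (ha.pow d).mul_left_cancel ?_, hgq⟩
      have hg' := congrArg (fun z : B => (z : FractionRing A)) hg
      simp only [AddSubmonoidClass.coe_finsetSum, MulMemClass.coe_mul, SubmonoidClass.coe_pow, ZeroMemClass.coe_zero] at hg'
      rw [mul_zero, ← hg', Finset.mul_sum]
      refine Finset.sum_congr rfl fun i hi => ?_
      have e : (a : FractionRing A) ^ d = (a : FractionRing A) ^ (d - i) * (a : FractionRing A) ^ i := by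
        rw [← pow_add, Nat.sub_add_cancel (Nat.lt_succ_iff.mp (Finset.mem_range.mp hi))]
      rw [e, ← hca, mul_pow]
      ring
    · refine ⟨1, fun i => if i = 0 then -b else a, ?_, ?_⟩
      · rw [Finset.sum_range_succ, Finset.sum_range_one]
        simp only [if_pos, one_ne_zero, if_false, NegMemClass.coe_neg, pow_zero, mul_one, pow_one]
        rw [mul_comm _ c, hca, neg_add_cancel]
      · rw [not_and_or] at hab
        rcases hab with h | h
        · exact ⟨1, le_rfl, by simpa using h⟩
        · exact ⟨0, Nat.zero_le _, by simpa using fun h' => h h'⟩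
  choose d g hrel i hi hgi using hex
  have hint : ∀ q j, j ≤ d q → IsIntegral A (horner c (fun k => (g q k : FractionRing A)) (d q) j) ∧
      IsIntegral A (c * horner c (fun k => (g q k : FractionRing A)) (d q) j) := fun q j hj =>
    isIntegral_horner c _ (fun k => (IsIntegral.of_finite A (g q k)).map B.val) (d q) (hrel q) j hj
  let S : Set (FractionRing A) := ⋃ q, ⋃ j ∈ Set.Iic (d q),
    {horner c (fun k => (g q k : FractionRing A)) (d q) j, c * horner c (fun k => (g q k : FractionRing A)) (d q) j}
  have hS : S.Finite := Set.finite_iUnion fun q => (Set.finite_Iic _).biUnion fun j _ => by simp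
  obtain ⟨C, hBC, hC, hSC⟩ := exists_finite_sup B S hS (by
    intro x hx
    simp only [S, Set.mem_iUnion] at hx
    obtain ⟨q, j, hj, rfl | rfl⟩ := hx
    exacts [(hint q j hj).1, (hint q j hj).2])
  have h1 : ∀ q j, j ≤ d q → horner c (fun k => (g q k : FractionRing A)) (d q) j ∈ C := fun q j hj =>
    hSC (Set.mem_iUnion.mpr ⟨q, Set.mem_iUnion₂.mpr ⟨j, hj, Or.inl rfl⟩⟩)
  have h2 : ∀ q j, j ≤ d q → c * horner c (fun k => (g q k : FractionRing A)) (d q) j ∈ C := fun q j hj =>
    hSC (Set.mem_iUnion.mpr ⟨q, Set.mem_iUnion₂.mpr ⟨j, hj, Or.inr rfl⟩⟩)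
  refine ⟨C, hBC, hC, fun Q => ?_⟩
  letI : Algebra B C := (Subalgebra.inclusion hBC).toRingHom.toAlgebra
  haveI : IsScalarTower A B C := .of_algebraMap_eq fun _ => rfl
  haveI : Module.Finite B C := Module.Finite.of_restrictScalars_finite A B C
  haveI := Q.isMaximal
  let q : MaximalSpectrum B := ⟨_, Ideal.isMaximal_comap_of_isIntegral_of_isMaximal (R := B) Q.asIdeal⟩
  by_contra hno
  rw [not_or] at hno
  push Not at hno
  refine hgi q ?_
  show Subalgebra.inclusion hBC (g q (i q)) ∈ Q.asIdeal
  refine coeff_mem_of_horner (S := C.toSubring) Q.asIdeal c (fun k => Subalgebra.inclusion hBC (g q k)) (d q) ?_ ?_ (i q) (hi q)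
  · intro j hj
    refine ⟨⟨_, h1 q j hj⟩, ?_, rfl⟩
    by_contra hs
    refine hno.1 ⟨_, h1 q j hj⟩ hs ⟨⟨_, h2 q j hj⟩, Subtype.ext ?_⟩
    show horner c (fun k => (g q k : FractionRing A)) (d q) j * (b : FractionRing A) =
      (a : FractionRing A) * (c * horner c (fun k => (g q k : FractionRing A)) (d q) j)
    rw [← hca]; ring
  · intro j hj
    refine ⟨⟨_, h2 q j hj⟩, ?_, rfl⟩
    by_contra hs
    refine hno.2 ⟨_, h2 q j hj⟩ hs ⟨⟨_, h1 q j hj⟩, Subtype.ext ?_⟩
    show c * horner c (fun k => (g q k : FractionRing A)) (d q) j * (a : FractionRing A) =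
      (b : FractionRing A) * horner c (fun k => (g q k : FractionRing A)) (d q) j
    rw [← hca]; ring

/-- Common factor: after a finite extension the ideal of two invertible elements is principal. -/
theorem exists_common_factor (B : Subalgebra A (FractionRing A)) [Module.Finite A B] (a b : B)
    (ha : IsUnit (a : FractionRing A)) :
    ∃ (C : Subalgebra A (FractionRing A)) (hBC : B ≤ C), Module.Finite A C ∧
      ∃ t a' b' : C, Subalgebra.inclusion hBC a = t * a' ∧ Subalgebra.inclusion hBC b = t * b' ∧
        IsCoprime a' b' ∧ IsUnit (t : FractionRing A) := by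
  classical
  obtain ⟨C, hBC, hC, hdich⟩ := exists_ext_dichotomy hA B a b ha
  haveI := hC
  haveI : Finite (MaximalSpectrum C) := H22Alg.finite_maximalSpectrum_of_finite A C
  refine ⟨C, hBC, hC, ?_⟩
  set a₁ := Subalgebra.inclusion hBC a with ha₁
  set b₁ := Subalgebra.inclusion hBC b with hb₁
  let first : MaximalSpectrum C → Prop := fun Q => ∃ s : C, s ∉ Q.asIdeal ∧ a₁ ∣ s * b₁
  obtain ⟨e, he⟩ := Ideal.exists_forall_sub_mem_ideal (I := fun Q : MaximalSpectrum C => Q.asIdeal)
    (fun Q Q' hQ => Ideal.isCoprime_iff_sup_eq.mpr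
      (Q.isMaximal.coprime_of_ne Q'.isMaximal fun h => hQ (MaximalSpectrum.ext h)))
    (fun Q => if first Q then 1 else 0)
  set t := e * a₁ + (1 - e) * b₁ with ht
  have hdvd : t ∣ a₁ ∧ t ∣ b₁ := by
    let Ja : Ideal C := (Ideal.span {t}).colon {a₁}
    let Jb : Ideal C := (Ideal.span {t}).colon {b₁}
    have key : ∀ Q : MaximalSpectrum C, (∃ w, w ∉ Q.asIdeal ∧ t ∣ w * a₁) ∧ ∃ w, w ∉ Q.asIdeal ∧ t ∣ w * b₁ := by
      intro Q
      haveI := Q.isMaximal
      by_cases hQ : first Q
      · obtain ⟨s, hs, z, hz⟩ := hQ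
        have hQ' : first Q := ⟨s, hs, z, hz⟩
        have hst : s * t = (e * s + (1 - e) * z) * a₁ := by
          rw [ht]; linear_combination (1 - e) * hz
        have hw : e * s + (1 - e) * z ∉ Q.asIdeal := fun h => hs (by
          have he' := he Q
          rw [if_pos hQ'] at he'
          have : s = (e * s + (1 - e) * z) - (e - 1) * (s - z) := by ring
          rw [this]
          exact Q.asIdeal.sub_mem h (Q.asIdeal.mul_mem_right _ he'))
        refine ⟨⟨_, hw, s, by rw [← hst]; ring⟩, ⟨s * (e * s + (1 - e) * z),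
          fun h => (Q.isMaximal.isPrime.mem_or_mem h).elim hs hw, z * s, ?_⟩⟩
        linear_combination (e * s + (1 - e) * z) * hz - z * hst
      · obtain ⟨s, hs, z, hz⟩ := (hdich Q).resolve_left hQ
        have hst : s * t = (e * z + (1 - e) * s) * b₁ := by
          rw [ht]; linear_combination e * hz
        have hw : e * z + (1 - e) * s ∉ Q.asIdeal := fun h => hs (by
          have he' := he Q
          rw [if_neg hQ, sub_zero] at he'
          have : s = (e * z + (1 - e) * s) - e * (z - s) := by ring
          rw [this]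
          exact Q.asIdeal.sub_mem h (Q.asIdeal.mul_mem_right _ he'))
        refine ⟨⟨s * (e * z + (1 - e) * s),
          fun h => (Q.isMaximal.isPrime.mem_or_mem h).elim hs hw, z * s, ?_⟩, ⟨_, hw, s, by rw [← hst]; ring⟩⟩
        linear_combination (e * z + (1 - e) * s) * hz - z * hst
    have aux : ∀ x : C, (∀ Q : MaximalSpectrum C, ∃ w, w ∉ Q.asIdeal ∧ t ∣ w * x) → t ∣ x := by
      intro x hx
      have h1 : (Ideal.span {t}).colon {x} = ⊤ := by
        by_contra h
        obtain ⟨M, hM, hle⟩ := Ideal.exists_le_maximal _ h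
        obtain ⟨w, hw, hwd⟩ := hx ⟨M, hM⟩
        exact hw (hle (Submodule.mem_colon_singleton.mpr (Ideal.mem_span_singleton.mpr hwd)))
      have := Submodule.mem_colon_singleton.mp ((Ideal.eq_top_iff_one _).mp h1)
      rwa [one_smul, Ideal.mem_span_singleton] at this
    exact ⟨aux _ fun Q => (key Q).1, aux _ fun Q => (key Q).2⟩
  obtain ⟨⟨a', ha'⟩, ⟨b', hb'⟩⟩ := hdvd
  have hau : IsUnit ((a₁ : C) : FractionRing A) := ha
  have htu : IsUnit (t : FractionRing A) := by
    rw [ha', MulMemClass.coe_mul] at hau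
    exact isUnit_of_mul_isUnit_left hau
  refine ⟨t, a', b', ha', hb', ⟨e, 1 - e, Subtype.ext (htu.mul_left_cancel ?_)⟩, htu⟩
  have : t * (e * a' + (1 - e) * b') = t * 1 := by
    rw [mul_one]; conv_rhs => rw [ht, ha', hb']
    ring
  exact_mod_cast congrArg Subtype.val this

/-- Pairwise coprime atoms whose monomials give all members of a finite family, up to units. -/
theorem exists_atoms (B : Subalgebra A (FractionRing A)) [Module.Finite A B] (s : Multiset B)
    (hs : ∀ x ∈ s, IsUnit (x : FractionRing A)) :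
    ∃ (C : Subalgebra A (FractionRing A)) (hBC : B ≤ C) (T : Multiset C), Module.Finite A C ∧
      (∀ x ∈ T, IsUnit (x : FractionRing A)) ∧
      (∀ x R, T = x ::ₘ R → ∀ y ∈ R, IsCoprime x y) ∧
      ∀ x ∈ s, Subalgebra.inclusion hBC x ∈ Submonoid.closure ({u : C | IsUnit u} ∪ {y | y ∈ T}) := by
  classical
  suffices key : ∀ (N : ℕ) (B : Subalgebra A (FractionRing A)) [Module.Finite A B] (s : Multiset B),
      (∀ x ∈ s, IsUnit (x : FractionRing A)) → (s.map (mu B)).sum ≤ N →
      ∃ (C : Subalgebra A (FractionRing A)) (hBC : B ≤ C) (T : Multiset C), Module.Finite A C ∧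
        (∀ x ∈ T, IsUnit (x : FractionRing A)) ∧
        (∀ x R, T = x ::ₘ R → ∀ y ∈ R, IsCoprime x y) ∧
        ∀ x ∈ s, Subalgebra.inclusion hBC x ∈ Submonoid.closure ({u : C | IsUnit u} ∪ {y | y ∈ T}) from
    key _ B s hs le_rfl
  intro N
  induction N using Nat.strong_induction_on with
  | _ N ih =>
    intro B _ s hs hN
    by_cases hcop : ∀ x R, s = x ::ₘ R → ∀ y ∈ R, IsCoprime x y
    · exact ⟨B, le_rfl, s, ‹_›, hs, hcop, fun x hx => Submonoid.subset_closure (Or.inr hx)⟩
    · push Not at hcop
      obtain ⟨x, R₀, rfl, y, hy, hxy⟩ := hcop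
      obtain ⟨R, rfl⟩ := Multiset.exists_cons_of_mem hy
      have hxu := hs x (by simp)
      have hyu := hs y (by simp)
      obtain ⟨C, hBC, hC, t, x', y', hx', hy', hco, htu⟩ := exists_common_factor hA B x y hxu
      haveI := hC
      have hx'u : IsUnit (x' : FractionRing A) :=
        isUnit_of_mul_isUnit_right (x := (t : FractionRing A)) (by
          rw [← MulMemClass.coe_mul, ← hx']; exact hxu)
      have hy'u : IsUnit (y' : FractionRing A) :=
        isUnit_of_mul_isUnit_right (x := (t : FractionRing A)) (by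
          rw [← MulMemClass.coe_mul, ← hy']; exact hyu)
      have htnu : ¬ IsUnit t := by
        intro ht
        letI : Algebra B C := (Subalgebra.inclusion hBC).toRingHom.toAlgebra
        haveI : IsScalarTower A B C := .of_algebraMap_eq fun _ => rfl
        haveI : Module.Finite B C := Module.Finite.of_restrictScalars_finite A B C
        have hne : Ideal.span {x, y} ≠ ⊤ := fun h => hxy (by
          obtain ⟨p, r, hpr⟩ := Ideal.mem_span_pair.mp ((Ideal.eq_top_iff_one _).mp h)
          exact ⟨p, r, hpr⟩)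
        obtain ⟨q, hq, hle⟩ := Ideal.exists_le_maximal _ hne
        obtain ⟨Q, hQ, hQq⟩ := Ideal.exists_ideal_over_maximal_of_isIntegral (S := C) q
          (by rw [(RingHom.injective_iff_ker_eq_bot _).mp (show Function.Injective (algebraMap B C) from Subalgebra.inclusion_injective hBC)]; exact bot_le)
        obtain ⟨p₁, p₂, h12⟩ := hco
        have hxQ : Subalgebra.inclusion hBC x ∈ Q := hQq.ge (hle (Ideal.subset_span (Set.mem_insert x _)))
        have hyQ : Subalgebra.inclusion hBC y ∈ Q := hQq.ge (hle (Ideal.subset_span (Set.mem_insert_of_mem x rfl)))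
        rw [hx'] at hxQ
        rw [hy'] at hyQ
        refine hQ.ne_top ((Ideal.eq_top_iff_one _).mpr ?_)
        rw [← h12]
        exact Q.add_mem (Q.mul_mem_left _ ((Ideal.unit_mul_mem_iff_mem Q ht).mp hxQ))
          (Q.mul_mem_left _ ((Ideal.unit_mul_mem_iff_mem Q ht).mp hyQ))
      let s' : Multiset C := t ::ₘ x' ::ₘ y' ::ₘ R.map (Subalgebra.inclusion hBC)
      have hs' : ∀ z ∈ s', IsUnit (z : FractionRing A) := by
        intro z hz
        simp only [s', Multiset.mem_cons, Multiset.mem_map] at hz
        rcases hz with rfl | rfl | rfl | ⟨w, hw, rfl⟩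
        exacts [htu, hx'u, hy'u, hs w (by simp [hw])]
      have hμ : mu C t + (s'.map (mu C)).sum = ((x ::ₘ y ::ₘ R).map (mu B)).sum := by
        have hadd : ∀ z w : C, IsUnit (z : FractionRing A) → IsUnit (w : FractionRing A) →
            mu C (z * w) = mu C z + mu C w := fun z w hz hw => by
          unfold mu
          rw [length_span_mul (A := A) z w (mem_nonZeroDivisors_of_isUnit C hw),
            ENat.toNat_add (length_quot_span_ne_top hA C hz) (length_quot_span_ne_top hA C hw)]
        have hR : (R.map (Subalgebra.inclusion hBC)).map (mu C) = R.map (mu B) := by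
          rw [Multiset.map_map]
          exact Multiset.map_congr rfl fun w hw => mu_inclusion hA hBC w (hs w (by simp [hw]))
        simp only [s', Multiset.map_cons, Multiset.sum_cons, hR]
        rw [← mu_inclusion hA hBC x hxu, ← mu_inclusion hA hBC y hyu, hx', hy',
          hadd t x' htu hx'u, hadd t y' htu hy'u]
        ring
      have hpos : 0 < mu C t := by
        unfold mu
        have hnt : Nontrivial (↥C ⧸ Ideal.span {t}) :=
          Ideal.Quotient.nontrivial_iff.mpr fun h => htnu (Ideal.span_singleton_eq_top.mp h)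
        obtain ⟨n, hn⟩ := ENat.ne_top_iff_exists.mp (length_quot_span_ne_top hA C htu)
        have := Module.length_pos (R := A) (M := ↥C ⧸ Ideal.span {t})
        rw [← hn] at this ⊢
        exact_mod_cast this
      obtain ⟨C', hCC', T, hC', hT, hTco, hmem⟩ := ih ((s'.map (mu C)).sum) (by omega) C s' hs' le_rfl
      refine ⟨C', hBC.trans hCC', T, hC', hT, hTco, fun z hz => ?_⟩
      show Subalgebra.inclusion hCC' (Subalgebra.inclusion hBC z) ∈ _
      rcases Multiset.mem_cons.mp hz with rfl | hz
      · rw [hx', map_mul]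
        exact mul_mem (hmem t (by simp [s'])) (hmem x' (by simp [s']))
      rcases Multiset.mem_cons.mp hz with rfl | hz
      · rw [hy', map_mul]
        exact mul_mem (hmem t (by simp [s'])) (hmem y' (by simp [s']))
      · refine hmem _ ?_
        simp only [s', Multiset.mem_cons, Multiset.mem_map]
        exact Or.inr (Or.inr (Or.inr ⟨z, hz, rfl⟩))

/-- At every maximal ideal a finite family of invertible elements are units times powers of one. -/
theorem exists_local_factorizations (B : Subalgebra A (FractionRing A)) [Module.Finite A B] (s : Multiset B)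
    (hs : ∀ x ∈ s, IsUnit (x : FractionRing A)) :
    ∃ (C : Subalgebra A (FractionRing A)) (hBC : B ≤ C), Module.Finite A C ∧
      ∀ Q : MaximalSpectrum C, ∃ π : Localization.AtPrime Q.asIdeal, π ∈ (Localization.AtPrime Q.asIdeal)⁰ ∧
        ∀ x ∈ s, ∃ (v : (Localization.AtPrime Q.asIdeal)ˣ) (e : ℕ),
          algebraMap C (Localization.AtPrime Q.asIdeal) (Subalgebra.inclusion hBC x) = v * π ^ e := by
  classical
  obtain ⟨C, hBC, T, hC, hT, hco, hmem⟩ := exists_atoms hA B s hs
  refine ⟨C, hBC, hC, fun Q => ?_⟩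
  obtain ⟨π, hπ, hπT⟩ : ∃ π : Localization.AtPrime Q.asIdeal, π ∈ (Localization.AtPrime Q.asIdeal)⁰ ∧
      ∀ y ∈ T, IsUnit (algebraMap C (Localization.AtPrime Q.asIdeal) y) ∨ algebraMap C (Localization.AtPrime Q.asIdeal) y = π := by
    by_cases h : ∃ x ∈ T, x ∈ Q.asIdeal
    · obtain ⟨x, hx, hxQ⟩ := h
      refine ⟨algebraMap C _ x, IsLocalization.map_nonZeroDivisors_le Q.asIdeal.primeCompl _
        ⟨x, mem_nonZeroDivisors_of_isUnit C (hT x hx), rfl⟩, fun y hy => ?_⟩
      obtain ⟨R, rfl⟩ := Multiset.exists_cons_of_mem hx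
      rcases Multiset.mem_cons.mp hy with rfl | hy
      · exact Or.inr rfl
      · refine Or.inl ((IsLocalization.AtPrime.isUnit_to_map_iff _ Q.asIdeal y).mpr fun hyQ => ?_)
        obtain ⟨p₁, p₂, h12⟩ := hco x R rfl y hy
        exact Q.isMaximal.ne_top ((Ideal.eq_top_iff_one _).mpr
          (h12 ▸ Q.asIdeal.add_mem (Q.asIdeal.mul_mem_left _ hxQ) (Q.asIdeal.mul_mem_left _ hyQ)))
    · push Not at h
      exact ⟨1, one_mem _, fun y hy => Or.inl ((IsLocalization.AtPrime.isUnit_to_map_iff _ Q.asIdeal y).mpr (h y hy))⟩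
  refine ⟨π, hπ, fun x hx => ?_⟩
  have key : ∀ z ∈ Submonoid.closure ({u : C | IsUnit u} ∪ {y | y ∈ T}),
      ∃ (v : (Localization.AtPrime Q.asIdeal)ˣ) (e : ℕ), algebraMap C (Localization.AtPrime Q.asIdeal) z = v * π ^ e := by
    intro z hz
    induction hz using Submonoid.closure_induction with
    | mem z hz =>
      rcases hz with hz | hz
      · exact ⟨(hz.map (algebraMap C (Localization.AtPrime Q.asIdeal))).unit, 0, by simp⟩
      · rcases hπT z hz with h | h
        · exact ⟨h.unit, 0, by simp⟩
        · exact ⟨1, 1, by simp [h]⟩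
    | one => exact ⟨1, 0, by simp⟩
    | mul z w _ _ ihz ihw =>
      obtain ⟨v, e, hv⟩ := ihz
      obtain ⟨v', e', hv'⟩ := ihw
      exact ⟨v * v', e + e', by rw [map_mul, hv, hv', Units.val_mul, pow_add]; ring⟩
  exact key _ (hmem x hx)

end Groth.Agent.H3CAlg.Tame
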