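import Groth.Agent.H3CAlg.Tame.Basic
import Mathlib

/-!
# Homogeneous relations between two elements and the integral elements they produce
-/

set_option autoImplicit false
set_option linter.style.haveILetI false
universe u

open Finset
open scoped nonZeroDivisors

namespace Groth.Agent.H3CAlg.Tame

/-- The ideal of degree `d` monomials in two elements. -/
def mon {B : Type u} [CommRing B] (a b : B) (d : ℕ) : Ideal B :=
  Ideal.span (Set.range fun i : Fin (d + 1) => a ^ (d - (i : ℕ)) * b ^ (i : ℕ))

/-- Two elements of a maximal ideal satisfy a homogeneous relation with a coefficient outside it, if the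
first is a nonzerodivisor of finite order. -/
theorem exists_relation {B : Type u} [CommRing B] (q : Ideal B) [q.IsMaximal] (a b : B) (haq : a ∈ q)
    (hbq : b ∈ q) (ha : a ∈ B⁰) (hfin : Ring.ord B a ≠ ⊤) :
    ∃ (d : ℕ) (g : ℕ → B), (∑ i ∈ range (d + 1), g i * (a ^ (d - i) * b ^ i)) = 0 ∧
      ∃ i ≤ d, g i ∉ q := by
  classical
  by_contra hno
  push Not at hno
  set L := (Ring.ord B a).toNat with hL
  have hind : ∀ d (g : Fin (d + 1) → B), (∑ i, g i * (a ^ (d - (i : ℕ)) * b ^ (i : ℕ))) ∈ q * mon a b d →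
      ∀ i, g i ∈ q := by
    intro d g hg i
    rw [mon, ← smul_eq_mul] at hg
    obtain ⟨h, hh, hsum⟩ := (Submodule.mem_ideal_smul_span_iff_exists_sum _ _ _).mp hg
    rw [Finsupp.sum_fintype h (fun (i : Fin (d + 1)) (c : B) => c • (a ^ (d - (i : ℕ)) * b ^ (i : ℕ))) (fun i => zero_smul B _)] at hsum
    have hk := hno d (fun j => if hj : j < d + 1 then g ⟨j, hj⟩ - h ⟨j, hj⟩ else 0) ?_ i (Nat.lt_succ_iff.mp i.2)
    · rw [dif_pos i.2] at hk
      have := q.add_mem hk (hh i)
      rwa [sub_add_cancel] at this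
    · rw [← Fin.sum_univ_eq_sum_range (fun j => (if hj : j < d + 1 then g ⟨j, hj⟩ - h ⟨j, hj⟩ else 0) * (a ^ (d - j) * b ^ j))]
      simp only [Fin.is_lt, dite_true, Fin.eta, sub_mul, Finset.sum_sub_distrib]
      rw [sub_eq_zero, ← hsum]
      exact Finset.sum_congr rfl fun j _ => rfl
  have hmon : ∀ d, mon a b (d + 1) ≤ q * mon a b d := by
    intro d
    refine Ideal.span_le.mpr ?_
    rintro _ ⟨i, rfl⟩
    show a ^ (d + 1 - (i : ℕ)) * b ^ (i : ℕ) ∈ q * mon a b d
    by_cases hi : (i : ℕ) ≤ d
    · rw [show d + 1 - (i : ℕ) = (d - i) + 1 by omega, pow_succ', mul_assoc]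
      exact Ideal.mul_mem_mul haq (Ideal.subset_span ⟨⟨i, Nat.lt_succ_of_le hi⟩, rfl⟩)
    · have : (i : ℕ) = d + 1 := by omega
      rw [this, Nat.sub_self, pow_zero, one_mul, pow_succ']
      exact Ideal.mul_mem_mul hbq (Ideal.subset_span ⟨Fin.last d, by simp⟩)
  have hle : ∀ d, mon a b (d + 1) ≤ mon a b d := fun d => (hmon d).trans Ideal.mul_le_right
  have hgrow : ∀ d : ℕ, Module.length B (B ⧸ mon a b d) + ((d + 1 : ℕ) : ℕ∞) ≤ Module.length B (B ⧸ mon a b (d + 1)) := by
    intro d
    let F : (B ⧸ mon a b (d + 1)) →ₗ[B] B ⧸ mon a b d := Submodule.factor (hle d)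
    have hF : Function.Surjective F := Submodule.factor_surjective (hle d)
    rw [Module.length_eq_add_of_exact (LinearMap.ker F).subtype F (Submodule.injective_subtype _) hF
      (LinearMap.exact_subtype_ker_map F), add_comm]
    refine add_le_add ?_ le_rfl
    let Φ : (Fin (d + 1) → B) →ₗ[B] B ⧸ mon a b (d + 1) :=
      (Submodule.mkQ (mon a b (d + 1))).comp
        (∑ i : Fin (d + 1), (LinearMap.proj i).smulRight (a ^ (d - (i : ℕ)) * b ^ (i : ℕ)))
    have hΦval : ∀ g, Φ g = Submodule.Quotient.mk (∑ i, g i * (a ^ (d - (i : ℕ)) * b ^ (i : ℕ))) := by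
      intro g
      simp [Φ]
    have hrange : LinearMap.range Φ ≤ LinearMap.ker F := by
      rintro _ ⟨g, rfl⟩
      rw [LinearMap.mem_ker, hΦval]
      refine (Submodule.Quotient.mk_eq_zero _).mpr ?_
      rw [LinearMap.id_apply]; exact Ideal.sum_mem (mon a b d) fun i _ => Ideal.mul_mem_left _ _ (Ideal.subset_span ⟨i, rfl⟩)
    have hker : LinearMap.ker Φ ≤ Submodule.pi Set.univ (fun _ : Fin (d + 1) => (q : Submodule B B)) := by
      intro g hg i _
      rw [LinearMap.mem_ker, hΦval, Submodule.Quotient.mk_eq_zero] at hg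
      exact hind d g (hmon d hg) i
    calc ((d + 1 : ℕ) : ℕ∞) = Module.length B (Fin (d + 1) → B ⧸ q) := by
          haveI : IsSimpleModule B (B ⧸ q) := isSimpleModule_iff_isCoatom.mpr (Ideal.isMaximal_def.mp inferInstance)
          rw [Module.length_pi_of_fintype, Module.length_eq_one]
          simp
      _ ≤ Module.length B ((Fin (d + 1) → B) ⧸ LinearMap.ker Φ) := by
          refine Module.length_le_of_surjective
            ((LinearMap.ker Φ).liftQ (LinearMap.pi fun i => (Submodule.mkQ q).comp (LinearMap.proj i)) ?_) ?_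
          · intro g hg
            rw [LinearMap.mem_ker]
            funext i
            exact (Submodule.Quotient.mk_eq_zero _).mpr (hker hg i trivial)
          · intro v
            choose g hg using fun i => Submodule.Quotient.mk_surjective q (v i)
            exact ⟨Submodule.Quotient.mk g, funext hg⟩
      _ = Module.length B (LinearMap.range Φ) := Φ.quotKerEquivRange.length_eq
      _ ≤ Module.length B (LinearMap.ker F) :=
          Module.length_le_of_injective (Submodule.inclusion hrange) (Submodule.inclusion_injective hrange)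
  have hlow : ∀ d : ℕ, ((d * (d + 1) / 2 : ℕ) : ℕ∞) ≤ Module.length B (B ⧸ mon a b d) := by
    intro d
    induction d with
    | zero => simp
    | succ d ih =>
      refine le_trans ?_ (le_trans (add_le_add ih le_rfl) (hgrow d))
      rw [← Nat.cast_add]
      refine Nat.cast_le.mpr ?_
      have e : (d + 1) * (d + 1 + 1) = d * (d + 1) + (d + 1) * 2 := by ring
      rw [e, Nat.add_mul_div_right _ _ (by norm_num : 0 < 2)]
  have hup : ∀ d : ℕ, Module.length B (B ⧸ mon a b d) ≤ ((d * L : ℕ) : ℕ∞) := by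
    intro d
    have h1 : Ideal.span {a ^ d} ≤ mon a b d := by
      rw [Ideal.span_singleton_le_iff_mem]
      exact Ideal.subset_span ⟨0, by simp⟩
    refine (Module.length_le_of_surjective (Submodule.factor h1) (Submodule.factor_surjective h1)).trans ?_
    show Ring.ord B (a ^ d) ≤ _
    rw [Ring.ord_pow ha, ← ENat.natCast_toNat hfin, ← hL, nsmul_eq_mul, Nat.cast_mul]
  have := (hlow (2 * L + 1)).trans (hup (2 * L + 1))
  have h3 : (2 * L + 1) * (2 * L + 1 + 1) / 2 ≤ (2 * L + 1) * L := ENat.natCast_le_natCast.mp this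
  have h4 : (2 * L + 1) * (2 * L + 1 + 1) / 2 = (2 * L + 1) * (L + 1) := by
    rw [show (2 * L + 1) * (2 * L + 1 + 1) = (2 * L + 1) * (L + 1) * 2 by ring, Nat.mul_div_cancel _ (by norm_num : 0 < 2)]
  rw [h4, Nat.mul_succ] at h3
  omega

/-- If `h cⁿ⁺¹` is a combination of lower powers of `c` and `h` is integral, so is `h c`. -/
theorem isIntegral_mul_of_relation {A Q : Type u} [CommRing A] [CommRing Q] [Algebra A Q]
    (n : ℕ) (h c : Q) (hh : IsIntegral A h) (g : ℕ → Q) (hg : ∀ i, IsIntegral A (g i))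
    (hrel : h * c ^ (n + 1) + ∑ i ∈ range (n + 1), g i * c ^ i = 0) : IsIntegral A (h * c) := by
  let S := integralClosure A Q
  have hmem : ∀ i, g i * h ^ (n - i) ∈ S := fun i => (hg i).mul (hh.pow _)
  refine isIntegral_trans (A := S) _ ?_
  let P : Polynomial S := Polynomial.X ^ (n + 1) +
    ∑ i ∈ range (n + 1), Polynomial.C (⟨_, hmem i⟩ : S) * Polynomial.X ^ i
  refine ⟨P, ?_, ?_⟩
  · refine Polynomial.monic_X_pow_add ?_
    refine lt_of_le_of_lt (Polynomial.degree_sum_le _ _) ?_
    rw [Finset.sup_lt_iff (by exact WithBot.bot_lt_coe _)]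
    intro i hi
    exact lt_of_le_of_lt (Polynomial.degree_C_mul_X_pow_le _ _) (WithBot.coe_lt_coe.mpr (Finset.mem_range.mp hi))
  · simp only [P, Polynomial.eval₂_add, Polynomial.eval₂_pow, Polynomial.eval₂_X,
      Polynomial.eval₂_finsetSum, Polynomial.eval₂_mul, Polynomial.eval₂_C]
    have : (h * c) ^ (n + 1) + ∑ i ∈ range (n + 1), g i * h ^ (n - i) * (h * c) ^ i =
        h ^ n * (h * c ^ (n + 1) + ∑ i ∈ range (n + 1), g i * c ^ i) := by
      rw [mul_add, Finset.mul_sum]
      refine congr_arg₂ _ (by ring) (Finset.sum_congr rfl fun i hi => ?_)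
      have e : h ^ n = h ^ (n - i) * h ^ i := by
        rw [← pow_add, Nat.sub_add_cancel (Nat.lt_succ_iff.mp (Finset.mem_range.mp hi))]
      rw [e]
      ring
    rw [hrel, mul_zero] at this
    exact this

/-- The partial Horner sums of a polynomial at `c`. -/
def horner {Q : Type u} [CommRing Q] (c : Q) (g : ℕ → Q) (d : ℕ) : ℕ → Q
  | 0 => g d
  | j + 1 => c * horner c g d j + g (d - j - 1)

/-- The partial Horner sums at a root are integral, as are their products with the root. -/
theorem isIntegral_horner {A Q : Type u} [CommRing A] [CommRing Q] [Algebra A Q] (c : Q) (g : ℕ → Q)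
    (hg : ∀ i, IsIntegral A (g i)) (d : ℕ) (hrel : ∑ i ∈ range (d + 1), g i * c ^ i = 0) (j : ℕ) (hj : j ≤ d) :
    IsIntegral A (horner c g d j) ∧ IsIntegral A (c * horner c g d j) := by
  have key : ∀ j, j ≤ d → horner c g d j * c ^ (d - j) + ∑ i ∈ range (d - j), g i * c ^ i = 0 := by
    intro j hj
    induction j with
    | zero =>
      rw [Finset.sum_range_succ] at hrel
      rw [horner, Nat.sub_zero, ← hrel]
      ring
    | succ j ih =>
      have := ih (by omega)
      rw [show d - j = (d - (j + 1)) + 1 by omega, Finset.sum_range_succ, pow_succ] at this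
      rw [horner, show d - j - 1 = d - (j + 1) by omega, ← this]
      ring
  induction j with
  | zero =>
    refine ⟨hg d, ?_⟩
    rcases d with _ | d
    · have : g 0 = 0 := by simpa using hrel
      rw [horner, this, mul_zero]
      exact isIntegral_zero
    · rw [mul_comm]
      exact isIntegral_mul_of_relation d _ c (hg _) g hg (by simpa using key 0 (Nat.zero_le _))
  | succ j ih =>
    have h1 : IsIntegral A (horner c g d (j + 1)) := (ih (by omega)).2.add (hg _)
    refine ⟨h1, ?_⟩
    obtain ⟨m, hm⟩ : ∃ m, d - (j + 1) = m := ⟨_, rfl⟩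
    have hk := key (j + 1) hj
    rw [hm] at hk
    rcases m with _ | m
    · rw [pow_zero, mul_one, Finset.range_zero, Finset.sum_empty, add_zero] at hk
      rw [hk, mul_zero]
      exact isIntegral_zero
    · rw [mul_comm]
      exact isIntegral_mul_of_relation m _ c h1 g hg hk

/-- If all Horner sums and their products with `c` lie in an ideal, so do the coefficients. -/
theorem coeff_mem_of_horner {Q : Type u} [CommRing Q] {S : Subring Q} (P : Ideal S) (c : Q) (g : ℕ → S) (d : ℕ)
    (hs : ∀ j ≤ d, ∃ x ∈ P, (x : Q) = horner c (fun i => (g i : Q)) d j)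
    (hcs : ∀ j ≤ d, ∃ y ∈ P, (y : Q) = c * horner c (fun i => (g i : Q)) d j)
    (i : ℕ) (hi : i ≤ d) : g i ∈ P := by
  rcases Nat.lt_or_eq_of_le hi with h | rfl
  · obtain ⟨j, hj, rfl⟩ : ∃ j, j < d ∧ i = d - j - 1 := ⟨d - i - 1, by omega, by omega⟩
    obtain ⟨x, hx, hx'⟩ := hs (j + 1) (by omega)
    obtain ⟨y, hy, hy'⟩ := hcs j (by omega)
    have : g (d - j - 1) = x - y := by
      apply Subtype.ext
      push_cast
      rw [hx', hy', horner]
      ring
    rw [this]
    exact P.sub_mem hx hy
  · obtain ⟨x, hx, hx'⟩ := hs 0 (Nat.zero_le _)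
    have : g i = x := Subtype.ext hx'.symm
    rwa [this]

end Groth.Agent.H3CAlg.Tame
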