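import Groth.Agent.H3CAlg.Tame.Fct
import Mathlib

/-!
# The value of tame data does not depend on the choices
-/

set_option autoImplicit false
set_option linter.style.haveILetI false
set_option linter.unusedSectionVars false
universe u

open IsLocalRing
open scoped nonZeroDivisors

namespace Groth.Agent.H3CAlg.Tame

open CycAlg

variable {A : Type u} [CommRing A] [IsNoetherianRing A] [IsLocalRing A]

theorem localFactor_eq_fct {a₁ a₂ : A} (D : TameData A a₁ a₂) (q : MaximalSpectrum D.B) :
    haveI := D.isLocalHom q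
    D.localFactor q = fct A (D.π q) (D.u₁ q) (D.u₂ q) (D.e₁ q) (D.e₂ q) := rfl

theorem value_eq_one_of_isUnit {a₁ a₂ : A} (h₁ : IsUnit a₁) (h₂ : IsUnit a₂) (D : TameData A a₁ a₂) :
    D.value = 1 := by
  refine finprod_eq_one_of_forall_eq_one fun q => ?_
  haveI := D.isLocalHom q
  rw [localFactor_eq_fct, fct_eq_norm_pow, rsym_pow_eq_one _ _ _ _ _ (D.fac₁ q ▸ h₁.map _) (D.fac₂ q ▸ h₂.map _), map_one]

theorem finite_residue {B : Type u} [CommRing B] [Algebra A B] [Module.Finite A B] (q : Ideal B) [q.IsMaximal]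
    [IsLocalHom (algebraMap A (Localization.AtPrime q))] :
    FiniteDimensional (ResidueField A) (ResidueField (Localization.AtPrime q)) := by
  haveI : IsScalarTower A (ResidueField A) (ResidueField (Localization.AtPrime q)) := .of_algebraMap_eq fun x => rfl
  haveI : Module.Finite A q.ResidueField := Module.Finite.trans B _
  exact Module.Finite.of_restrictScalars_finite A _ _

theorem ord_algebraMap_ne_top (hA : ringKrullDim A = 1) {B : Type u} [CommRing B] [Algebra A B]
    [Module.Finite A B] {a : A} (ha : a ∈ A⁰) : Ring.ord B (algebraMap A B a) ≠ ⊤ := by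
  obtain ⟨n, hn⟩ := exists_pow_le_span hA ha
  refine ne_top_of_le_ne_top (length_ne_top_of_pow (M := B ⧸ Ideal.span {algebraMap A B a}) (n := n) fun r hr z => ?_)
    (ord_le_length (A := A) (algebraMap A B a))
  obtain ⟨b, rfl⟩ := Ideal.Quotient.mk_surjective z
  obtain ⟨c, rfl⟩ := Ideal.mem_span_singleton'.mp (hn hr)
  refine Ideal.Quotient.eq_zero_iff_mem.mpr ?_
  show (c * a) • b ∈ Ideal.span {algebraMap A B a}
  rw [Algebra.smul_def, map_mul]
  exact Ideal.mem_span_singleton.mpr ((dvd_mul_left _ _).mul_right _)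

theorem length_le_restrict {B M : Type u} [CommRing B] [Algebra A B] [AddCommGroup M] [Module B M] [Module A M]
    [IsScalarTower A B M] : Module.length B M ≤ Module.length A M := by
  have h := Submodule.length_le_length_restrictScalars A (⊤ : Submodule B M)
  rw [Submodule.restrictScalars_top, Submodule.topEquiv.length_eq, Submodule.topEquiv.length_eq] at h
  exact h

theorem length_quotient_ne_top {B M : Type u} [CommRing B] [Algebra A B] [AddCommGroup M] [Module B M] [Module A M]
    [IsScalarTower A B M] [Module.Finite A M] (L : Submodule B M) {N : ℕ}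
    (h : ∀ r ∈ maximalIdeal A ^ N, ∀ x : M, r • x ∈ L) : Module.length B (M ⧸ L) ≠ ⊤ := by
  haveI : Module.Finite A (M ⧸ L) :=
    Module.Finite.of_surjective ((Submodule.mkQ L).restrictScalars A) (Submodule.mkQ_surjective L)
  refine ne_top_of_le_ne_top (length_ne_top_of_pow (M := M ⧸ L) (n := N) fun r hr z => ?_) (length_le_restrict (A := A) (B := B) (M := M ⧸ L))
  obtain ⟨c, rfl⟩ := Submodule.Quotient.mk_surjective L z
  exact (Submodule.Quotient.mk_eq_zero L).mpr (h r hr c)

theorem length_coker_ne_top {B C : Type u} [CommRing B] [CommRing C] [Algebra A B] [Algebra A C] [Algebra B C]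
    [IsScalarTower A B C] (hC : IsFinExt A C (maximalIdeal A)) :
    Module.length B (C ⧸ LinearMap.range (Algebra.linearMap B C)) ≠ ⊤ := by
  haveI : Module.Finite A C := hC.2.1
  obtain ⟨N, hN⟩ := hC.2.2
  refine length_quotient_ne_top (A := A) (LinearMap.range (Algebra.linearMap B C)) (N := N) fun r hr c => ?_
  obtain ⟨x, hx⟩ := hN r hr c
  exact ⟨algebraMap A B x, (IsScalarTower.algebraMap_apply A B C x).symm.trans hx⟩

/-- The orders of elements dividing a nonzerodivisor of `A` are finite. -/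
theorem ord_ne_top_of_dvd (hA : ringKrullDim A = 1) {B : Type u} [CommRing B] [Algebra A B] [Module.Finite A B]
    (q : Ideal B) [q.IsPrime] {π : Localization.AtPrime q} {a : A} (ha : a ∈ A⁰)
    (h : π ∣ algebraMap A (Localization.AtPrime q) a) : Ring.ord (Localization.AtPrime q) π ≠ ⊤ := by
  rw [IsScalarTower.algebraMap_apply A B (Localization.AtPrime q)] at h
  refine ne_top_of_le_ne_top ?_ (Ring.ord_le_ord_of_dvd h)
  rw [← len_span_singleton]
  exact ne_top_of_le_ne_top (ord_algebraMap_ne_top hA ha) (len_le_length q)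

section witness

variable {a₁ a₂ a : A}

theorem pos_exponent (ha : a = a₁ ∨ a = a₂) (ham : a ∈ maximalIdeal A) (D : TameData A a₁ a₂)
    (q : MaximalSpectrum D.B) :
    ∃ (u : (Localization.AtPrime q.asIdeal)ˣ) (k : ℕ),
      algebraMap A (Localization.AtPrime q.asIdeal) a = u * D.π q ^ (k + 1) := by
  haveI := D.isLocalHom q
  have hnu : ¬ IsUnit (algebraMap A (Localization.AtPrime q.asIdeal) a) := fun h =>
    ((mem_maximalIdeal a).mp ham) (isUnit_of_map_unit _ _ h)
  rcases ha with rfl | rfl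
  · rcases Nat.eq_zero_or_pos (D.e₁ q) with h | h
    · exact absurd (by rw [D.fac₁ q, h, pow_zero, mul_one]; exact (D.u₁ q).isUnit) hnu
    · exact ⟨D.u₁ q, D.e₁ q - 1, by rw [Nat.sub_add_cancel h]; exact D.fac₁ q⟩
  · rcases Nat.eq_zero_or_pos (D.e₂ q) with h | h
    · exact absurd (by rw [D.fac₂ q, h, pow_zero, mul_one]; exact (D.u₂ q).isUnit) hnu
    · exact ⟨D.u₂ q, D.e₂ q - 1, by rw [Nat.sub_add_cancel h]; exact D.fac₂ q⟩

theorem torsionFree (ha : a = a₁ ∨ a = a₂) (ham : a ∈ maximalIdeal A) (D : TameData A a₁ a₂) :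
    Function.Injective fun b : D.B => algebraMap A D.B a * b := by
  intro x y hxy
  refine sub_eq_zero.mp ?_
  by_contra hne
  have hJ : LinearMap.ker (LinearMap.toSpanSingleton D.B D.B (x - y)) ≠ ⊤ := fun h => hne (by
    have h1 : (1 : D.B) • (x - y) = 0 := Submodule.eq_top_iff'.mp h 1
    rwa [one_smul] at h1)
  obtain ⟨q, hq, hle⟩ := Ideal.exists_le_maximal _ hJ
  obtain ⟨u, k, hk⟩ := pos_exponent ha ham D ⟨q, hq⟩
  have h0 : algebraMap D.B (Localization.AtPrime q) (x - y) = 0 := by
    refine mem_nonZeroDivisors_iff_right.mp (mul_mem u.isUnit.mem_nonZeroDivisors (pow_mem (D.π_mem ⟨q, hq⟩) (k + 1))) _ ?_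
    rw [← hk, IsScalarTower.algebraMap_apply A D.B (Localization.AtPrime q), ← map_mul, mul_comm, mul_sub]
    rw [show algebraMap A D.B a * x = algebraMap A D.B a * y from hxy, sub_self, map_zero]
  obtain ⟨t, ht⟩ := (IsLocalization.map_eq_zero_iff q.primeCompl _ _).mp h0
  exact t.2 (hle (by show (t : D.B) • (x - y) = 0; exact ht))

variable (hA : ringKrullDim A = 1) (ha : a = a₁ ∨ a = a₂) (ham : a ∈ maximalIdeal A) (ha0 : a ∈ A⁰)

/-- The image of tame data in a bigger finite extension. -/
noncomputable def pullback (D : TameData A a₁ a₂) (C : Type u) [CommRing C] [Algebra A C] [Algebra D.B C]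
    [IsScalarTower A D.B C] [Module.Finite D.B C] (hC : IsFinExt A C (maximalIdeal A))
    (ha : a = a₁ ∨ a = a₂) (ham : a ∈ maximalIdeal A) (haC : algebraMap A C a ∈ C⁰) : TameData A a₁ a₂ :=
  let under : MaximalSpectrum C → MaximalSpectrum D.B := fun Q =>
    ⟨Q.asIdeal.comap (algebraMap D.B C), haveI := Q.isMaximal; Ideal.isMaximal_comap_of_isIntegral_of_isMaximal Q.asIdeal⟩
  let φ : ∀ Q : MaximalSpectrum C, Localization.AtPrime (under Q).asIdeal →+* Localization.AtPrime Q.asIdeal :=
    fun Q => Localization.localRingHom (under Q).asIdeal Q.asIdeal (algebraMap D.B C) rfl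
  have hφ : ∀ (Q : MaximalSpectrum C) (r : A), φ Q (algebraMap A _ r) = algebraMap A _ r := fun Q r => by
    show Localization.localRingHom _ _ _ _ _ = _
    rw [IsScalarTower.algebraMap_apply A D.B (Localization.AtPrime (under Q).asIdeal), Localization.localRingHom_to_map,
      ← IsScalarTower.algebraMap_apply A D.B C, ← IsScalarTower.algebraMap_apply A C]
  { B := C
    isFinExt := hC
    isLocalHom := fun Q => haveI := hC.2.1; haveI := Q.isMaximal; isLocalHom_atPrime Q.asIdeal
    π := fun Q => φ Q (D.π (under Q))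
    π_mem := fun Q => by
      obtain ⟨u, k, hk⟩ := pos_exponent ha ham D (under Q)
      have h1 : algebraMap A (Localization.AtPrime Q.asIdeal) a ∈ (Localization.AtPrime Q.asIdeal)⁰ := by
        rw [IsScalarTower.algebraMap_apply A C]
        exact IsLocalization.map_nonZeroDivisors_le Q.asIdeal.primeCompl _ ⟨_, haC, rfl⟩
      rw [← hφ, hk, map_mul, map_pow, pow_succ, ← mul_assoc] at h1
      exact (mul_mem_nonZeroDivisors.mp h1).2
    u₁ := fun Q => Units.map (φ Q).toMonoidHom (D.u₁ (under Q))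
    u₂ := fun Q => Units.map (φ Q).toMonoidHom (D.u₂ (under Q))
    e₁ := fun Q => D.e₁ (under Q)
    e₂ := fun Q => D.e₂ (under Q)
    fac₁ := fun Q => by rw [← hφ, D.fac₁ (under Q), map_mul, map_pow]; rfl
    fac₂ := fun Q => by rw [← hφ, D.fac₂ (under Q), map_mul, map_pow]; rfl }

include hA ha0 ha ham in
set_option maxHeartbeats 400000 in
theorem fibre_prod (D : TameData A a₁ a₂) (C : Type u) [CommRing C] [Algebra A C] [Algebra D.B C]
    [IsScalarTower A D.B C] [Module.Finite D.B C] [Finite (MaximalSpectrum C)]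
    (hinj : Function.Injective (algebraMap D.B C))
    (hC : IsFinExt A C (maximalIdeal A)) (haC : algebraMap A C a ∈ C⁰)
    [hloc : ∀ Q : MaximalSpectrum C, IsLocalHom (algebraMap A (Localization.AtPrime Q.asIdeal))]
    (q : MaximalSpectrum D.B) [Fintype (Over (C := C) q.asIdeal)] :
    ∏ Q : Over (C := C) q.asIdeal, (haveI := hloc Q.1;
      fct A (Localization.localRingHom q.asIdeal Q.1.asIdeal (algebraMap D.B C) Ideal.LiesOver.over (D.π q))
        (Units.map (Localization.localRingHom q.asIdeal Q.1.asIdeal (algebraMap D.B C) Ideal.LiesOver.over).toMonoidHom (D.u₁ q))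
        (Units.map (Localization.localRingHom q.asIdeal Q.1.asIdeal (algebraMap D.B C) Ideal.LiesOver.over).toMonoidHom (D.u₂ q))
        (D.e₁ q) (D.e₂ q)) = D.localFactor q := by
  classical
  haveI : Module.Finite A D.B := D.isFinExt.2.1
  haveI : Module.Finite A C := hC.2.1
  let under : MaximalSpectrum C → MaximalSpectrum D.B := fun Q =>
    ⟨Q.asIdeal.comap (algebraMap D.B C), haveI := Q.isMaximal; Ideal.isMaximal_comap_of_isIntegral_of_isMaximal Q.asIdeal⟩
  haveI := q.isMaximal
  haveI := D.isLocalHom q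
  obtain ⟨u, k, hk⟩ := pos_exponent ha ham D q
  obtain ⟨n, hn⟩ := exists_pow_le_span hA ha0
  have hdvd : D.π q ∣ algebraMap D.B (Localization.AtPrime q.asIdeal) (algebraMap A D.B a) := by
    rw [← IsScalarTower.algebraMap_apply A D.B, hk, pow_succ]
    exact (dvd_mul_left _ _).mul_left _
  have hπ : ∀ Q : Over (C := C) q.asIdeal,
      Localization.localRingHom q.asIdeal Q.1.asIdeal (algebraMap D.B C) Ideal.LiesOver.over (D.π q) ∈
        (Localization.AtPrime Q.1.asIdeal)⁰ := by
    rintro ⟨Q, hQ⟩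
    obtain rfl : under Q = q := MaximalSpectrum.ext hQ
    exact (pullback D C hC ha ham haC).π_mem Q
  have hdeg := degree_formula q.asIdeal hinj
    (ne_top_of_le_ne_top (length_coker_ne_top hC) (len_le_length q.asIdeal))
    (D.π q) (algebraMap A D.B a) hdvd (by
      rw [← IsScalarTower.algebraMap_apply A D.B C]
      exact Module.length_ne_top_iff.mp (ord_algebraMap_ne_top hA ha0)) hπ
  have hfin : ∀ Q : Over (C := C) q.asIdeal, Ring.ord (Localization.AtPrime Q.1.asIdeal)
      (Localization.localRingHom q.asIdeal Q.1.asIdeal (algebraMap D.B C) Ideal.LiesOver.over (D.π q)) ≠ ⊤ := fun Q => by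
    refine ord_ne_top_of_dvd hA Q.1.asIdeal ha0 ?_
    have h1 := map_dvd (Localization.localRingHom q.asIdeal Q.1.asIdeal (algebraMap D.B C) Ideal.LiesOver.over) hdvd
    rwa [Localization.localRingHom_to_map, ← IsScalarTower.algebraMap_apply A D.B C, ← IsScalarTower.algebraMap_apply A C] at h1
  have hsum := ENat.toNat_sum (s := Finset.univ) (f := fun Q : Over (C := C) q.asIdeal =>
    (deg q.asIdeal Q.1.asIdeal : ℕ∞) * Ring.ord (Localization.AtPrime Q.1.asIdeal)
      (Localization.localRingHom q.asIdeal Q.1.asIdeal (algebraMap D.B C) Ideal.LiesOver.over (D.π q)))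
    (fun Q _ => WithTop.mul_ne_top (ENat.natCast_ne_top _) (hfin Q))
  rw [localFactor_eq_fct, fct, hdeg, hsum, ← Finset.prod_pow_eq_pow_sum]
  refine Finset.prod_congr rfl fun Q _ => ?_
  obtain ⟨Q, hQ⟩ := Q
  obtain rfl : under Q = q := MaximalSpectrum.ext hQ
  haveI := Q.isMaximal
  haveI : Q.asIdeal.LiesOver (under Q).asIdeal := ⟨rfl⟩
  letI := Localization.AtPrime.algebraOfLiesOver (under Q).asIdeal Q.asIdeal
  haveI : IsScalarTower A (Localization.AtPrime (under Q).asIdeal) (Localization.AtPrime Q.asIdeal) :=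
    .of_algebraMap_eq fun r => by
      rw [IsScalarTower.algebraMap_apply A D.B (Localization.AtPrime (under Q).asIdeal)]
      refine Eq.trans ?_ (Localization.localRingHom_to_map (under Q).asIdeal Q.asIdeal (algebraMap D.B C) rfl _).symm
      rw [← IsScalarTower.algebraMap_apply A D.B C, ← IsScalarTower.algebraMap_apply A C]
  haveI : IsLocalHom (algebraMap A (Localization.AtPrime Q.asIdeal)) := isLocalHom_atPrime Q.asIdeal
  haveI := finite_residue (A := A) (under Q).asIdeal
  haveI := finite_residue (A := A) Q.asIdeal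
  haveI : IsScalarTower (ResidueField A) (ResidueField (Localization.AtPrime (under Q).asIdeal))
      (ResidueField (Localization.AtPrime Q.asIdeal)) := .of_algebraMap_eq fun x => by
    obtain ⟨x, rfl⟩ := residue_surjective x
    exact congrArg (residue _) (IsScalarTower.algebraMap_apply A (Localization.AtPrime (under Q).asIdeal) (Localization.AtPrime Q.asIdeal) x)
  haveI : FiniteDimensional (ResidueField (Localization.AtPrime (under Q).asIdeal)) (ResidueField (Localization.AtPrime Q.asIdeal)) :=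
    Module.Finite.of_restrictScalars_finite (ResidueField A) _ _
  rw [ENat.toNat_mul, ENat.toNat_natCast]
  exact fct_map A (D.π (under Q)) (D.u₁ (under Q)) (D.u₂ (under Q)) (D.e₁ (under Q)) (D.e₂ (under Q))

include hA ha0 in
theorem value_pullback (D : TameData A a₁ a₂) (C : Type u) [CommRing C] [Algebra A C] [Algebra D.B C]
    [IsScalarTower A D.B C] [Module.Finite D.B C] (hinj : Function.Injective (algebraMap D.B C))
    (hC : IsFinExt A C (maximalIdeal A)) (haC : algebraMap A C a ∈ C⁰) :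
    (pullback D C hC ha ham haC).value = D.value := by
  classical
  haveI : Module.Finite A D.B := D.isFinExt.2.1
  haveI : Module.Finite A C := hC.2.1
  haveI : Finite (MaximalSpectrum D.B) := H22Alg.finite_maximalSpectrum_of_finite A D.B
  haveI : Finite (MaximalSpectrum C) := H22Alg.finite_maximalSpectrum_of_finite A C
  haveI := Fintype.ofFinite (MaximalSpectrum D.B)
  haveI := Fintype.ofFinite (MaximalSpectrum C)
  haveI hloc : ∀ Q : MaximalSpectrum C, IsLocalHom (algebraMap A (Localization.AtPrime Q.asIdeal)) := fun Q =>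
    haveI := Q.isMaximal; isLocalHom_atPrime Q.asIdeal
  let under : MaximalSpectrum C → MaximalSpectrum D.B := fun Q =>
    ⟨Q.asIdeal.comap (algebraMap D.B C), haveI := Q.isMaximal; Ideal.isMaximal_comap_of_isIntegral_of_isMaximal Q.asIdeal⟩
  let F : MaximalSpectrum C → ResidueField A := fun Q => (pullback D C hC ha ham haC).localFactor Q
  show finprod F = finprod D.localFactor
  rw [finprod_eq_prod_of_fintype F, finprod_eq_prod_of_fintype D.localFactor, ← Finset.prod_fiberwise Finset.univ under]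
  refine Finset.prod_congr rfl fun q _ => ?_
  haveI := Fintype.ofFinite (Over (C := C) q.asIdeal)
  let e : Over (C := C) q.asIdeal ≃ {Q : MaximalSpectrum C // under Q = q} :=
    Equiv.subtypeEquivRight fun Q => ⟨fun h => MaximalSpectrum.ext h, fun h => congrArg MaximalSpectrum.asIdeal h⟩
  rw [Finset.prod_subtype (Finset.univ.filter fun Q => under Q = q) (p := fun Q => under Q = q) (by simp), ← e.prod_comp,
    ← fibre_prod hA ha ham ha0 D C hinj hC haC q]
  refine Finset.prod_congr rfl ?_
  rintro ⟨Q, hQ⟩ -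
  obtain rfl : under Q = q := MaximalSpectrum.ext hQ
  rfl

end witness

/-- Two tame data on the same ring give the same value. -/
theorem value_eq_same (hA : ringKrullDim A = 1) {a₁ a₂ a : A} (ha : a = a₁ ∨ a = a₂) (ham : a ∈ maximalIdeal A)
    (ha0 : a ∈ A⁰) (C : Type u) [CommRing C] [Algebra A C] (hC : IsFinExt A C (maximalIdeal A))
    (hloc : ∀ q : MaximalSpectrum C, IsLocalHom (algebraMap A (Localization.AtPrime q.asIdeal)))
    (π θ : (q : MaximalSpectrum C) → Localization.AtPrime q.asIdeal)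
    (hπ : ∀ q, π q ∈ (Localization.AtPrime q.asIdeal)⁰) (hθ : ∀ q, θ q ∈ (Localization.AtPrime q.asIdeal)⁰)
    (u₁ u₂ v₁ v₂ : (q : MaximalSpectrum C) → (Localization.AtPrime q.asIdeal)ˣ)
    (e₁ e₂ f₁ f₂ : MaximalSpectrum C → ℕ)
    (h1 : ∀ q, algebraMap A (Localization.AtPrime q.asIdeal) a₁ = (u₁ q : Localization.AtPrime q.asIdeal) * π q ^ e₁ q)
    (h2 : ∀ q, algebraMap A (Localization.AtPrime q.asIdeal) a₂ = (u₂ q : Localization.AtPrime q.asIdeal) * π q ^ e₂ q)
    (g1 : ∀ q, algebraMap A (Localization.AtPrime q.asIdeal) a₁ = (v₁ q : Localization.AtPrime q.asIdeal) * θ q ^ f₁ q)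
    (g2 : ∀ q, algebraMap A (Localization.AtPrime q.asIdeal) a₂ = (v₂ q : Localization.AtPrime q.asIdeal) * θ q ^ f₂ q) :
    TameData.value ⟨C, hC, hloc, π, hπ, u₁, u₂, e₁, e₂, h1, h2⟩ =
      TameData.value ⟨C, hC, hloc, θ, hθ, v₁, v₂, f₁, f₂, g1, g2⟩ := by
  haveI := hC.2.1
  refine finprod_congr fun q => ?_
  haveI := hloc q
  haveI := q.isMaximal
  rw [localFactor_eq_fct, localFactor_eq_fct, fct_eq_norm_pow, fct_eq_norm_pow]
  obtain ⟨u, k, hk⟩ := pos_exponent ha ham (⟨C, hC, hloc, π, hπ, u₁, u₂, e₁, e₂, h1, h2⟩ : TameData A a₁ a₂) q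
  obtain ⟨v, l, hl⟩ := pos_exponent ha ham (⟨C, hC, hloc, θ, hθ, v₁, v₂, f₁, f₂, g1, g2⟩ : TameData A a₁ a₂) q
  exact congrArg _ (rsym_pow_unique (hπ q) (hθ q)
    (ord_ne_top_of_dvd hA q.asIdeal ha0 (Dvd.intro (((u : Localization.AtPrime q.asIdeal)) * π q ^ k) (by rw [hk]; ring)))
    (ord_ne_top_of_dvd hA q.asIdeal ha0 (Dvd.intro (((v : Localization.AtPrime q.asIdeal)) * θ q ^ l) (by rw [hl]; ring)))
    _ _ _ _ _ _ _ _ ((h1 q).symm.trans (g1 q)) ((h2 q).symm.trans (g2 q)))

theorem value_eq (hA : ringKrullDim A = 1) {a₁ a₂ : A} (h₁ : a₁ ∈ A⁰) (h₂ : a₂ ∈ A⁰)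
    (D D' : TameData A a₁ a₂) : D.value = D'.value := by
  by_cases hu : IsUnit a₁ ∧ IsUnit a₂
  · rw [value_eq_one_of_isUnit hu.1 hu.2, value_eq_one_of_isUnit hu.1 hu.2]
  obtain ⟨a, ha, ham, ha0⟩ : ∃ a, (a = a₁ ∨ a = a₂) ∧ a ∈ maximalIdeal A ∧ a ∈ A⁰ := by
    rcases not_and_or.mp hu with h | h
    · exact ⟨a₁, Or.inl rfl, (mem_maximalIdeal _).mpr h, h₁⟩
    · exact ⟨a₂, Or.inr rfl, (mem_maximalIdeal _).mpr h, h₂⟩
  obtain ⟨φ, hφ⟩ := exists_embedding D.isFinExt ha0 ham (torsionFree ha ham D)
  obtain ⟨φ', hφ'⟩ := exists_embedding D'.isFinExt ha0 ham (torsionFree ha ham D')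
  haveI : Module.Finite A D.B := D.isFinExt.2.1
  haveI : Module.Finite A D'.B := D'.isFinExt.2.1
  haveI : Module.Finite A φ.range := Module.Finite.of_surjective φ.rangeRestrict.toLinearMap φ.rangeRestrict_surjective
  obtain ⟨T, hT⟩ := (Module.finite_def.mp ‹Module.Finite A D'.B›)
  obtain ⟨C, hle, hCfin, hTC⟩ := exists_finite_sup φ.range (φ' '' (T : Set D'.B)) (T.finite_toSet.image _)
    (by rintro _ ⟨x, -, rfl⟩; exact (IsIntegral.of_finite A x).map φ')
  haveI := hCfin
  have hle' : ∀ x, φ' x ∈ C := fun x => by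
    have hx : x ∈ Submodule.span A (T : Set D'.B) := hT.ge trivial
    induction hx using Submodule.span_induction with
    | mem y hy => exact hTC ⟨y, hy, rfl⟩
    | zero => rw [map_zero]; exact zero_mem _
    | add y z _ _ hy hz => rw [map_add]; exact add_mem hy hz
    | smul r y _ hy => rw [map_smul]; exact C.smul_mem hy r
  letI : Algebra D.B C := (φ.codRestrict C fun x => hle ⟨x, rfl⟩).toRingHom.toAlgebra
  haveI : IsScalarTower A D.B C := .of_algebraMap_eq fun r => Subtype.ext (φ.commutes r).symm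
  haveI : Module.Finite D.B C := Module.Finite.of_restrictScalars_finite A D.B C
  letI : Algebra D'.B C := (φ'.codRestrict C hle').toRingHom.toAlgebra
  haveI : IsScalarTower A D'.B C := .of_algebraMap_eq fun r => Subtype.ext (φ'.commutes r).symm
  haveI : Module.Finite D'.B C := Module.Finite.of_restrictScalars_finite A D'.B C
  have hCe := isFinExt_subalgebra hA C
  have haC := algebraMap_mem_nonZeroDivisors C ha0
  rw [← value_pullback hA ha ham ha0 D C (fun x y h => hφ (congrArg Subtype.val h)) hCe haC,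
    ← value_pullback hA ha ham ha0 D' C (fun x y h => hφ' (congrArg Subtype.val h)) hCe haC]
  exact value_eq_same hA ha ham ha0 C hCe _ _ _ _ _ _ _ _ _ _ _ _ _ _ _ _ _

theorem tameSymbol_eq (hA : ringKrullDim A = 1) {a₁ a₂ : A} (h₁ : a₁ ∈ A⁰) (h₂ : a₂ ∈ A⁰)
    (D : TameData A a₁ a₂) : tameSymbol A a₁ a₂ = D.value := by
  rw [tameSymbol, dif_pos ⟨D⟩]
  exact value_eq hA h₁ h₂ _ D

end Groth.Agent.H3CAlg.Tame
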